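import Cfsg.Agent.Lib.Small.ConTwo.ACoord

/-!
The action of the operators on the basis.
-/

set_option autoImplicit false
set_option maxRecDepth 100000
set_option synthInstance.maxSize 4000

namespace CfsgLib.Small.ConTwo

open Equiv



theorem top_trivial : ∀ t < 64, (∀ j : Fin 8, wap (topW t) (ev j) = ev j) → t = 0 := by
  decide +kernel

theorem defn_facts : Code.defn.length = 6 ∧ ∀ l < 6,
    (Code.defn.getD l (0, 0, 0)).1 < 6 ∧ (Code.defn.getD l (0, 0, 0)).2.1 < 6 ∧
    Code.app (Code.cols.getD (Code.defn.getD l (0, 0, 0)).1 [])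
      (2 ^ (5 + (Code.defn.getD l (0, 0, 0)).2.1)) = (Code.defn.getD l (0, 0, 0)).2.2 ∧
    (Code.defn.getD l (0, 0, 0)).2.2 / 32 % 64 = 2 ^ (Code.defn.getD l (0, 0, 0)).2.1 ^^^ 2 ^ l ∧
    (Code.defn.getD l (0, 0, 0)).2.2 / 32 < 64 ∧
    6 * (Code.defn.getD l (0, 0, 0)).1 + (Code.defn.getD l (0, 0, 0)).2.1 < 36 := by
  decide +kernel

theorem take_five : ∀ g < 6, ∀ r < 32,
    Code.app (Code.cols.getD g []) r = Code.app ((Code.cols.getD g []).take 5) r ∧
    (Code.cols.getD g []).take 5 = 1 :: (List.range 4).map fun i =>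
      Code.app (Code.cols.getD g []) (2 ^ (1 + i)) := by
  decide +kernel

theorem gauge_eq : Code.gauge = (List.range 6).map fun l =>
    6 * (Code.defn.getD l (0, 0, 0)).1 + (Code.defn.getD l (0, 0, 0)).2.1 := by
  decide +kernel

theorem zm_x : ∀ g < 6, ∀ k < 6, Code.zm g (2 ^ (5 + k)) = 2 ^ (6 * g + k) ∧ 6 * g + k < 36 := by
  decide +kernel



namespace Model

variable {G : Type*} [Group G] {z : G} {Q : Subgroup G} {f : G → V8}
  {ρ : Cz z →* Perm V8} (M : Model z Q f ρ)
  {u : G} {b e x : ℕ → G} (F : Frame z Q f ρ u b e) (L : Lifts z Q f ρ b x)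
  (hc : ∀ a ∈ AG Q f, ∀ c ∈ AG Q f, a * c = c * a) (h2 : ∀ a ∈ AG Q f, a * a = 1)

include M F L hc h2

theorem bx_xor (a c : ℕ) :
    iota (basL z b x) (a ^^^ c) = iota (basL z b x) a * iota (basL z b x) c :=
  iota_xor hc h2 _ _ _ (M.basL_mem F L.xA)

theorem iota_AG (m : ℕ) : iota (basL z b x) m ∈ AG Q f := iota_mem _ _ (M.basL_mem F L.xA)

theorem iota_eq_one {m : ℕ} (hm : m < 2048) (h : iota (basL z b x) m = 1) : m = 0 := by
  have hI := M.iota_top F L.xI hm
  rw [h] at hI
  have hp := hI.unique Img.one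
  have ht : m / 32 = 0 := top_trivial _ (by omega) fun j => by
    rw [← wperm_apply (topW_ok _), hp]; rfl
  have hm32 : m < 32 := by omega
  rw [M.iota_low F hm32] at h
  have hf := (M.low_part F (m := m)).2 hm32
  rw [h, M.f_one] at hf
  have hf' : m / 2 = 0 := by simpa using hf.symm
  rcases (show m = 0 ∨ m = 1 by omega) with rfl | rfl
  · rfl
  · exfalso
    refine M.z_ne ?_
    rw [← M.iota_one F (x := x), M.iota_low F (by norm_num)]
    exact h

theorem iota_inj {a c : ℕ} (ha : a < 2048) (hcl : c < 2048)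
    (h : iota (basL z b x) a = iota (basL z b x) c) : a = c := by
  have h0 : iota (basL z b x) (a ^^^ c) = 1 := by
    rw [M.bx_xor F L hc h2, h, h2 _ (M.iota_AG F L hc h2 c)]
  have := M.iota_eq_one F L hc h2 (Code.xor_lt ha hcl) h0
  calc a = a ^^^ (a ^^^ c) := by rw [this, Nat.xor_zero]
    _ = c := by rw [← Nat.xor_assoc, Nat.xor_self, Nat.zero_xor]

theorem iota_surj {a : G} (ha : a ∈ AG Q f) : ∃ m < 2048, iota (basL z b x) m = a := by
  obtain ⟨t, ht, hI⟩ := M.AG_image ha
  have h32 : 32 * t < 2048 := by omega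
  have hT := M.iota_top F L.xI h32
  rw [Nat.mul_div_cancel_left _ (by norm_num : 0 < 32)] at hT
  obtain ⟨q, hq, hql, rfl⟩ := M.AG_diff (M.iota_AG F L hc h2 (32 * t)) ha hT hI
  have hlt : 2 * (f q).val < 32 := by have : (f q).val < 16 := hql; omega
  obtain ⟨hLQ, hLf⟩ := M.low_part F (m := 2 * (f q).val)
  have hfe : f (iota [z, b 0, b 1, b 2, b 3] (2 * (f q).val)) = f q :=
    Fin.ext (by rw [hLf hlt]; omega)
  rcases M.f_eq hLQ hq hfe with h | h
  · refine ⟨32 * t ^^^ (2 * (f q).val), Code.xor_lt h32 (by omega), ?_⟩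
    rw [M.bx_xor F L hc h2, M.iota_low F hlt, ← h]
  · refine ⟨32 * t ^^^ (2 * (f q).val ^^^ 1), Code.xor_lt h32 (Code.xor_lt (by omega) (by norm_num)), ?_⟩
    rw [M.bx_xor F L hc h2, M.bx_xor F L hc h2, M.iota_low F hlt, M.iota_one F, ← h]

/-- Conjugation given on the basis is given everywhere. -/
theorem act_all {τ g : ℕ} (hg : g < 10) {c : G}
    (hz : c * z * c⁻¹ = z) (hb : ∀ i < 4, c * b i * c⁻¹ = iota (basL z b x) (Code.act τ g (2 ^ (1 + i))))
    (hxk : ∀ k < 6, c * x k * c⁻¹ = iota (basL z b x) (Code.act τ g (2 ^ (5 + k)))) :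
    ∀ m < 2048, c * iota (basL z b x) m * c⁻¹ = iota (basL z b x) (Code.act τ g m) := by
  refine Code.bit_induction ?_ ?_ ?_
  · rw [show Code.act τ g 0 = 0 by
      have h := Code.act_xor τ g 0 0
      rw [Nat.xor_self] at h
      rw [h, Nat.xor_self], iota_zero]
    group
  · intro j hj
    rcases (show j = 0 ∨ (1 ≤ j ∧ j < 5) ∨ 5 ≤ j by omega) with rfl | ⟨h1, h5⟩ | h5
    · have e := Code.act_toNat τ hg true
      simp only [Bool.toNat_true] at e
      rw [pow_zero, e, M.iota_one F, hz]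
    · obtain ⟨i, rfl⟩ : ∃ i, j = 1 + i := ⟨j - 1, by omega⟩
      rw [M.iota_b F (by omega)]
      exact hb i (by omega)
    · obtain ⟨k, rfl⟩ : ∃ k, j = 5 + k := ⟨j - 5, by omega⟩
      rw [M.iota_x F (by omega)]
      exact hxk k (by omega)
  · intro p q _ _ hp hq
    rw [Code.act_xor, M.bx_xor F L hc h2, M.bx_xor F L hc h2, ← hp, ← hq]
    group

theorem op_b_low {g i : ℕ} (hg : g < 10) (hi : i < 4) (τ : ℕ) :
    opG b e g * b i * (opG b e g)⁻¹ = iota (basL z b x) (Code.act τ g (2 ^ (1 + i))) := by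
  obtain ⟨hz, hcol, hm4⟩ := low_cols g hg i hi
  have hpow : ∀ j < 4, (2 : ℕ) ^ (1 + j) < 2048 := fun j hj =>
    Nat.pow_lt_pow_right (a := 2) (by norm_num) (by omega : 1 + j < 11)
  rw [Code.act, hz, Code.par_zero, Bool.toNat_false, Nat.xor_zero, hcol]
  by_cases h6 : g < 6
  · rw [opG, if_pos h6, if_pos h6, F.eAct g h6 i (by omega)]
    cases hm : movB g i with
    | none => simp only [tgt, hm, M.iota_b F hi]
    | some m =>
      have := hm4 h6 m hm
      simp only [tgt, hm]
      rw [M.bx_xor F L hc h2, M.iota_b F hi, M.iota_b F this]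
  · rw [opG, if_neg h6, if_neg h6, M.bx_xor F L hc h2, M.iota_b F hi,
      M.b_comm F (by omega : i < 8) (by omega : g - 2 < 8)]
    have hd : decide (i + 4 = g - 2 ∨ g - 2 + 4 = i) = decide (i = g - 6) :=
      decide_eq_decide.2 (by omega)
    rw [hd, show (if i = g - 6 then 1 else 0 : ℕ) = (decide (i = g - 6)).toNat by split <;> simp [*],
      M.iota_sign F, M.zp_comm _ (M.le (F.bQ i (by omega)))]
    group

theorem op_w {τ l : ℕ} (hl : l < 4) : ∀ m < 2048,
    b (4 + l) * iota (basL z b x) m * (b (4 + l))⁻¹ = iota (basL z b x) (Code.act τ (6 + l) m) := by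
  refine M.act_all F L hc h2 (by omega) ?_ ?_ ?_
  · rw [mem_Cz.1 (M.le (F.bQ (4 + l) (by omega))), mul_inv_cancel_right]
  · intro i hi
    have h := M.op_b_low F L hc h2 (g := 6 + l) (i := i) (by omega) hi τ
    rwa [opG, if_neg (by omega), show 6 + l - 2 = 4 + l by omega] at h
  · intro k hk
    rw [L.xT k hk l hl, Code.act, trans_col_low (6 + l) (by omega) (by omega),
      Code.par_zero, Bool.toNat_false, Nat.xor_zero]

theorem bx_app : ∀ (cs : List ℕ) (r : ℕ),
    iota (cs.map (iota (basL z b x))) r = iota (basL z b x) (Code.app cs r)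
  | [], _ => (iota_zero _).symm
  | c :: cs, r => by
    simp only [List.map_cons, iota, Code.app, bx_app cs, M.bx_xor F L hc h2]
    split
    · rfl
    · rw [iota_zero]

theorem e_low_part {g r : ℕ} (hg : g < 6) (hr : r < 32) : e g * iota (basL z b x) r * (e g)⁻¹ =
    iota (basL z b x) (Code.app (Code.cols.getD g []) r) := by
  have hl : ∀ i < 4, e g * b i * (e g)⁻¹ =
      iota (basL z b x) (Code.app (Code.cols.getD g []) (2 ^ (1 + i))) := by
    intro i hi
    have h := M.op_b_low F L hc h2 (g := g) (i := i) (by omega) hi 0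
    rwa [opG, if_pos hg, Code.act, (low_cols g (by omega) i hi).1, Code.par_zero,
      Bool.toNat_false, Nat.xor_zero] at h
  obtain ⟨h5, hlist⟩ := take_five g hg r hr
  rw [M.iota_low F hr, iota_conj, h5, ← M.bx_app F L hc h2, hlist]
  congr 1
  simp only [List.map_cons, List.map_nil, show List.range 4 = [0, 1, 2, 3] from rfl,
    M.iota_one F, hl 0 (by norm_num), hl 1 (by norm_num), hl 2 (by norm_num), hl 3 (by norm_num)]
  rw [mem_Cz.1 (F.eI g hg).mem, mul_inv_cancel_right]

theorem e_x {g k : ℕ} (hg : g < 6) (hk : k < 6) :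
    ∃ t : Bool, e g * x k * (e g)⁻¹ =
      iota (basL z b x) (Code.app (Code.cols.getD g []) (2 ^ (5 + k)) ^^^ t.toNat) := by
  obtain ⟨hlt, himg⟩ := img_cols g hg k hk
  set m' := Code.app (Code.cols.getD g []) (2 ^ (5 + k)) with hm'
  have hC := M.e_AG F hg (L.xA k hk)
  have hIc := (L.xI k hk).conj (F.eI g hg)
  have hP : sieP (pE g).1 (pE g).2 * sieP (pairP k).1 (pairP k).2 * (sieP (pE g).1 (pE g).2)⁻¹ =
      wperm (topW (m' / 32)) := by
    rw [sieP_inv]
    refine O_ext (mul_mem (mul_mem (sieP_mem _ _) (sieP_mem _ _)) (sieP_mem _ _))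
      (wperm_mem_O _) fun j => ?_
    rw [Perm.mul_apply, Perm.mul_apply,
      sieP_apply (p := (pE g).1) (w := (pE g).2) (pE_facts g hg).1,
      sieP_apply (p := (pairP k).1) (w := (pairP k).2) (pair_facts k hk).1,
      sieP_apply (p := (pE g).1) (w := (pE g).2) (pE_facts g hg).1, wperm_apply (topW_ok _)]
    exact himg j
  rw [hP] at hIc
  obtain ⟨q, hq, hql, hqe⟩ := M.AG_diff (M.iota_AG F L hc h2 m') hC (M.iota_top F L.xI hlt) hIc
  have hqA := M.low_mem hq hql
  have key : ∀ l < 4, bl (f q) (sie (pE g).1 (pE g).2 (bv (4 + l))) = false := by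
    intro l hl
    have hle : 4 + l < 8 := by omega
    set T := tgt b g (4 + l) with hT
    have hTI : T ∈ Q ∧ f T = sie (pE g).1 (pE g).2 (bv (4 + l)) := by
      rw [← sieP_apply (p := (pE g).1) (w := (pE g).2) (pE_facts g hg).1, hT, ← F.eAct g hg _ hle]
      exact ⟨M.normal _ (F.eI g hg).mem _ (F.bQ _ hle), by
        rw [M.img_conj (F.eI g hg) (F.bQ _ hle), F.bf _ hle]⟩
    have hmodel := model_comm g hg k hk l hl
    rw [← hm'] at hmodel
    have hlhs : T * (e g * x k * (e g)⁻¹) * T⁻¹ =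
        e g * iota (basL z b x) (Code.app (Code.cols.getD (6 + l) []) (2 ^ (5 + k))) * (e g)⁻¹ := by
      rw [hT, ← F.eAct g hg _ hle, ← L.xT k hk l hl]
      group
    obtain ⟨htl, htl32, -⟩ := trans_col k hk l hl
    have hrhs : e g * iota (basL z b x) (Code.app (Code.cols.getD (6 + l) []) (2 ^ (5 + k))) *
        (e g)⁻¹ = iota (basL z b x) (Code.app (Code.cols.getD g [])
          (Code.app (Code.cols.getD (6 + l) []) (2 ^ (5 + k)))) * q := by
      rw [show Code.app (Code.cols.getD (6 + l) []) (2 ^ (5 + k)) =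
        2 ^ (5 + k) ^^^ (Code.app (Code.cols.getD (6 + l) []) (2 ^ (5 + k)) ^^^ 2 ^ (5 + k)) by
          rw [Nat.xor_comm (Code.app _ _), ← Nat.xor_assoc, Nat.xor_self, Nat.zero_xor]]
      generalize Code.app (Code.cols.getD (6 + l) []) (2 ^ (5 + k)) ^^^ 2 ^ (5 + k) = r at htl32 ⊢
      rw [M.bx_xor F L hc h2, Code.app_xor, ← hm', M.bx_xor F L hc h2, M.iota_x F hk,
        ← M.e_low_part F L hc h2 hg htl32, show e g * (x k * iota (basL z b x) r) * (e g)⁻¹ =
          e g * x k * (e g)⁻¹ * (e g * iota (basL z b x) r * (e g)⁻¹) by group, hqe,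
        mul_assoc (iota (basL z b x) m') q,
        hc q hqA _ (M.e_AG F hg (M.iota_AG F L hc h2 r)), ← mul_assoc]
    have hTm : T * iota (basL z b x) m' * T⁻¹ = iota (basL z b x)
        (Code.app (Code.cols.getD g [])
          (Code.app (Code.cols.getD (6 + l) []) (2 ^ (5 + k)))) := by
      rw [hmodel, hT, tgt]
      cases hm : movB g (4 + l) with
      | none =>
        simp only
        rw [M.op_w F L hc h2 (τ := 0) hl m' hlt, Code.act,
          trans_col_low (6 + l) (by omega) (by omega), Code.par_zero, Bool.toNat_false,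
          Nat.xor_zero]
      | some n =>
        obtain ⟨hn4, hn8⟩ := movB_high g hg l hl n hm
        obtain ⟨n', rfl⟩ : ∃ n', n = 4 + n' := ⟨n - 4, by omega⟩
        simp only
        rw [show b (4 + l) * b (4 + n') * iota (basL z b x) m' * (b (4 + l) * b (4 + n'))⁻¹ =
          b (4 + l) * (b (4 + n') * iota (basL z b x) m' * (b (4 + n'))⁻¹) * (b (4 + l))⁻¹ by group,
          M.op_w F L hc h2 (τ := 0) (l := n') (by omega) m' hlt,
          M.op_w F L hc h2 (τ := 0) hl _ (Code.act_lt 0 (by omega) _), Code.act, Code.act,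
          trans_col_low (6 + l) (by omega) (by omega), trans_col_low (6 + n') (by omega) (by omega),
          Code.par_zero, Bool.toNat_false, Nat.xor_zero, Nat.xor_zero,
          show 2 + (4 + n') = 6 + n' by omega]
    have hTq : T * q * T⁻¹ = q := by
      rw [hqe, show T * (iota (basL z b x) m' * q) * T⁻¹ =
        T * iota (basL z b x) m' * T⁻¹ * (T * q * T⁻¹) by group, hTm, hrhs] at hlhs
      exact mul_left_cancel hlhs
    have := (M.commute_iff hq hTI.1).1 (by
      calc T * q = T * q * T⁻¹ * T := by group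
        _ = q * T := by rw [hTq])
    rwa [hTI.2] at this
  have hfq : f q = 0 := by
    have h := e_span g hg ⟨(f q).val, hql⟩
    rw [show Fin.ofNat 256 (f q).val = f q from Fin.ext (by simp)] at h
    have h' := congrArg Fin.val (h key)
    exact Fin.ext (by simpa using h')
  rcases (M.f_ker q hq).1 hfq with rfl | rfl
  · exact ⟨false, by rw [hqe, mul_one, Bool.toNat_false, Nat.xor_zero]⟩
  · exact ⟨true, by rw [hqe, M.bx_xor F L hc h2, M.iota_sign F, zp_true]⟩

end Model

end CfsgLib.Small.ConTwo
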