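import Mathlib

/-!
Bit strings of length eleven as natural numbers: linear maps by columns, the pairing, and orbit
tables packed into numbers.
-/

set_option autoImplicit false

namespace CfsgLib.Small.ConTwo.Code

/-- A linear map given by its columns. -/
def app : List ℕ → ℕ → ℕ
  | [], _ => 0
  | c :: cs, m => (if m % 2 = 1 then c else 0) ^^^ app cs (m / 2)

/-- The pairing of the low `n` bits. -/
def par : ℕ → ℕ → ℕ → Bool
  | 0, _, _ => false
  | n + 1, a, b => (decide (a % 2 = 1) && decide (b % 2 = 1)) ^^ par n (a / 2) (b / 2)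

theorem odd_xor (a b : ℕ) :
    decide ((a ^^^ b) % 2 = 1) = (decide (a % 2 = 1) ^^ decide (b % 2 = 1)) := by
  simpa [Nat.testBit_zero] using Nat.testBit_xor a b 0

theorem app_xor : ∀ (cs : List ℕ) (a b : ℕ), app cs (a ^^^ b) = app cs a ^^^ app cs b
  | [], _, _ => (Nat.xor_self 0).symm
  | c :: cs, a, b => by
    have h := odd_xor a b
    simp only [app, Nat.xor_div_two, app_xor cs]
    by_cases ha : a % 2 = 1 <;> by_cases hb : b % 2 = 1 <;>
      simp [ha, hb] at h <;> simp [ha, hb, h] <;> ac_nf <;>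
      simp [← Nat.xor_assoc]

theorem app_zero : ∀ cs : List ℕ, app cs 0 = 0
  | [] => rfl
  | c :: cs => by simp [app, app_zero cs]

theorem par_xor_right : ∀ (n a b c : ℕ), par n a (b ^^^ c) = (par n a b ^^ par n a c)
  | 0, _, _, _ => rfl
  | n + 1, a, b, c => by
    simp only [par, odd_xor, Nat.xor_div_two, par_xor_right n, Bool.and_xor_distrib_left]
    cases decide (a % 2 = 1) <;> cases decide (b % 2 = 1) <;> cases decide (c % 2 = 1) <;>
      cases par n (a / 2) (b / 2) <;> cases par n (a / 2) (c / 2) <;> rfl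

theorem par_comm : ∀ n a b : ℕ, par n a b = par n b a
  | 0, _, _ => rfl
  | n + 1, a, b => by simp [par, Bool.and_comm, par_comm n]

theorem par_xor_left (n a b c : ℕ) : par n (a ^^^ b) c = (par n a c ^^ par n b c) := by
  rw [par_comm, par_xor_right, par_comm n c a, par_comm n c b]

theorem par_zero : ∀ n a : ℕ, par n a 0 = false
  | 0, _ => rfl
  | n + 1, a => by simp [par, par_zero n]

theorem xor_lt {a b : ℕ} (ha : a < 2048) (hb : b < 2048) : a ^^^ b < 2048 :=
  Nat.xor_lt_two_pow (n := 11) ha hb

/-- An entry of a packed table. -/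
def entry (w T i : ℕ) : ℕ := (T >>> (w * i)) % 2 ^ w

/-- Induction on strings by single bits. -/
theorem bit_induction {P : ℕ → Prop} (h0 : P 0) (hb : ∀ j < 11, P (2 ^ j))
    (hx : ∀ a b, a < 2048 → b < 2048 → P a → P b → P (a ^^^ b)) :
    ∀ m < 2048, P m := by
  suffices h : ∀ j ≤ 11, ∀ m < 2 ^ j, P m from fun m hm => h 11 le_rfl m hm
  intro j
  induction j with
  | zero =>
    intro _ m hm
    rw [show m = 0 by simpa using hm]
    exact h0
  | succ j ih =>
    intro hj m hm
    rcases Nat.lt_or_ge m (2 ^ j) with h | h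
    · exact ih (by omega) m h
    · have hlt : m ^^^ 2 ^ j < 2 ^ j := by
        apply Nat.lt_pow_two_of_testBit
        intro i hi
        rw [Nat.testBit_xor, Nat.testBit_two_pow]
        rcases Nat.eq_or_lt_of_le hi with rfl | hi'
        · simp [Nat.testBit_eq_decide_div_mod_eq,
            Nat.div_eq_of_lt_le (show 1 * 2 ^ j ≤ m by omega) (by rw [pow_succ] at hm; omega)]
        · rw [Nat.testBit_lt_two_pow (lt_of_lt_of_le hm (Nat.pow_le_pow_right (by norm_num) hi'))]
          simp [Nat.ne_of_lt hi']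
      have e : m = (m ^^^ 2 ^ j) ^^^ 2 ^ j := by rw [Nat.xor_assoc, Nat.xor_self, Nat.xor_zero]
      rw [e]
      refine hx _ _ ?_ ?_ (ih (by omega) _ hlt) (hb j (by omega))
      · exact lt_of_lt_of_le hlt (Nat.pow_le_pow_right (by norm_num) (by omega : j ≤ 11))
      · exact Nat.pow_lt_pow_right (by norm_num) (by omega : j < 11)

end CfsgLib.Small.ConTwo.Code
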