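import Cfsg.Agent.Lib.Small.ConTwo.InvolFacts

/-!
A subgroup of order 174182400 of the orthogonal group of plus type in dimension eight over two
elements contains all Siegel transformations, and each of its involutions is conjugate in it to
one of five representatives.
-/

set_option autoImplicit false
set_option maxRecDepth 20000
set_option linter.style.haveILetI false

namespace CfsgLib.Small.ConTwo

open Equiv

/-! ### Linear maps by columns -/

theorem M8.ap_add (a : M8) (v w : V8) : a.ap (vadd v w) = vadd (a.ap v) (a.ap w) := by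
  simp only [M8.ap, bit_vadd, sel_xor]
  ac_rfl

theorem M8.ap_zero (a : M8) : a.ap 0 = 0 := by
  simp [M8.ap, sel, bit_zero, vadd_zero]

theorem M8.ap_sel (a : M8) (b : Bool) (x : V8) : a.ap (sel b x) = sel b (a.ap x) := by
  cases b
  · exact a.ap_zero
  · rfl

theorem M8.ap_mul (a b : M8) (v : V8) : (a.mul b).ap v = a.ap (b.ap v) := by
  show (a.mul b).ap v = a.ap (vadd _ _)
  simp only [M8.ap_add, M8.ap_sel]
  rfl

theorem ap_idM8 (v : V8) : idM8.ap v = v := span_basis v

theorem sie_zero (p w : V8) : sie p w 0 = 0 := by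
  have h := sie_add p w 0 0
  rw [vadd_self 0] at h
  rw [h, vadd_self]

theorem sie_sel (p w : V8) (b : Bool) (x : V8) : sie p w (sel b x) = sel b (sie p w x) := by
  cases b
  · exact sie_zero p w
  · rfl

theorem ap_matSie (p w v : V8) : (matSie p w).ap v = sie p w v := by
  conv_rhs => rw [← span_basis v]
  simp only [sie_add, sie_sel]
  rfl

theorem eq_of_ap {π σ : Perm V8} {a : M8} (h : ∀ v, π v = a.ap v) (h' : ∀ v, σ v = a.ap v) :
    π = σ :=
  Equiv.ext fun v => by rw [h, h']

/-! ### Named elements -/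

/-- A root element. -/
def rootP (k : Fin 24) : Perm V8 := sieP (rootPar k).1 (rootPar k).2

theorem rootP_apply (k : Fin 24) (v : V8) : rootP k v = (rootM k).ap v := by
  rw [rootP, sieP_apply (show SieOK ((rootPar k).1, (rootPar k).2) from (rootPar_ok k).1),
    (rootPar_ok k).2, ap_matSie]

/-- A word in root elements. -/
def wP (l : List (Fin 24)) : Perm V8 := (l.map rootP).prod

theorem wP_apply : ∀ (l : List (Fin 24)) (v : V8), wP l v = (wM l).ap v
  | [], v => (ap_idM8 v).symm
  | k :: l, v => by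
    show rootP k (wP l v) = ((rootM k).mul (wM l)).ap v
    rw [M8.ap_mul, rootP_apply, wP_apply l v]

theorem wP_mem_O (l : List (Fin 24)) : wP l ∈ O :=
  list_prod_mem fun _ h => by
    obtain ⟨k, _, rfl⟩ := List.mem_map.1 h
    exact sieP_mem _ _

/-- A Siegel element at the distinguished point. -/
def eP (i : Fin 64) : Perm V8 := sieP 1 (wOf i)

theorem eP_apply (i : Fin 64) (v : V8) : eP i v = (eM i).ap v := by
  rw [eP, sieP_apply (eM_ok i).1, (eM_ok i).2, ap_matSie]

theorem eP_mul (i k : Fin 64) : eP i * eP k = eP (i ^^^ k) :=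
  Equiv.ext fun v => by rw [Perm.mul_apply, eP_apply, eP_apply, eP_apply, ← M8.ap_mul, eM_mul]

theorem sieP_mul_self (p w : V8) : sieP p w * sieP p w = 1 := by
  by_cases h : SieOK (p, w)
  · exact Equiv.ext fun v => by
      rw [Perm.mul_apply, sieP_apply h, sieP_apply h, sie_sie h, Perm.one_apply]
  · rw [sieP, dif_neg h, one_mul]

theorem sieP_inv (p w : V8) : (sieP p w)⁻¹ = sieP p w :=
  inv_eq_of_mul_eq_one_right (sieP_mul_self p w)

theorem O_sieP {π : Perm V8} (hπ : π ∈ O) {p w : V8} (h : SieOK (p, w)) :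
    π * sieP p w * π⁻¹ = sieP (π p) (π w) := by
  have h' : SieOK (π p, π w) := ⟨by rw [O_q hπ]; exact h.1, by rw [O_bl hπ]; exact h.2⟩
  refine Equiv.ext fun v => ?_
  obtain ⟨u, rfl⟩ := π.surjective v
  rw [Perm.mul_apply, Perm.mul_apply, sieP_apply h', show π⁻¹ (π u) = u from π.symm_apply_apply u,
    sieP_apply h]
  simp only [sie, O_add hπ, O_sel hπ, O_bl hπ, O_q hπ]

/-! ### The order of the orthogonal group -/

theorem card_le_orbit {S S' : Subgroup (Perm V8)} (b : V8) (X : List V8)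
    (hX : ∀ π ∈ S, π b ∈ X) (hS' : ∀ π ∈ S, π b = b → π ∈ S') :
    Nat.card S ≤ X.length * Nat.card S' := by
  classical
  have h1 := Subgroup.card_eq_card_quotient_mul_card_subgroup (MulAction.stabilizer S b)
  have h2 : Nat.card (S ⧸ MulAction.stabilizer S b) ≤ X.length := by
    rw [← Nat.card_congr (MulAction.orbitEquivQuotientStabilizer S b)]
    calc Nat.card (MulAction.orbit S b) ≤ Nat.card X.toFinset := by
          refine Nat.card_le_card_of_injective
            (fun x => ⟨x.1, List.mem_toFinset.2 ?_⟩)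
            (fun x y h => Subtype.ext (congrArg (fun t : X.toFinset => t.1) h))
          obtain ⟨π, hπ⟩ := x.2
          rw [← hπ]
          exact hX π π.2
      _ = X.toFinset.card := Nat.card_eq_finsetCard _
      _ ≤ X.length := List.toFinset_card_le X
  have h3 : Nat.card (MulAction.stabilizer S b) ≤ Nat.card S' :=
    Nat.card_le_card_of_injective
      (fun π => ⟨(π.1 : Perm V8), hS' _ π.1.2 (MulAction.mem_stabilizer_iff.1 π.2)⟩)
      (fun π σ h => Subtype.ext (Subtype.ext (congrArg (fun t : S' => t.1) h)))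
  rw [h1]
  exact Nat.mul_le_mul h2 h3

/-- The candidates for the image of a point. -/
def oOpts (p : V8) (fixed : List V8) : List V8 :=
  (List.finRange 256).filter fun x =>
    x != 0 && qb x == qb p && fixed.all fun f => bl x f == bl p f

/-- The stabiliser of a list of points. -/
def oStab : List V8 → Subgroup (Perm V8)
  | [] => O
  | b :: l => oStab l ⊓ MulAction.stabilizer (Perm V8) b

theorem oStab_le : ∀ l, oStab l ≤ O
  | [] => le_rfl
  | _ :: l => inf_le_left.trans (oStab_le l)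

theorem oStab_fix : ∀ (l : List V8) (π : Perm V8), π ∈ oStab l → ∀ f ∈ l, π f = f
  | [], _, _, f, hf => absurd hf (List.not_mem_nil)
  | b :: l, π, h, f, hf => by
    rcases List.mem_cons.1 hf with rfl | hf
    · exact h.2
    · exact oStab_fix l π h.1 f hf

theorem oStab_step {b : V8} (hb : b ≠ 0) (l : List V8) :
    Nat.card (oStab l) ≤ (oOpts b l).length * Nat.card (oStab (b :: l)) := by
  refine card_le_orbit b _ (fun π h => ?_) (fun π h he => ⟨h, he⟩)
  have hO := oStab_le l h
  simp only [oOpts, List.mem_filter, List.mem_finRange, true_and, Bool.and_eq_true, bne_iff_ne,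
    ne_eq, beq_iff_eq, List.all_eq_true]
  refine ⟨⟨fun h0 => hb (π.injective (h0.trans (O_zero hO).symm)), O_q hO b⟩, fun f hf => ?_⟩
  conv_lhs => rw [← oStab_fix l π h f hf]
  exact O_bl hO b f

theorem oOpts_card : (oOpts 1 []).length = 135 ∧ (oOpts 16 [1]).length = 64 ∧
    (oOpts 2 [16, 1]).length = 35 ∧ (oOpts 32 [2, 16, 1]).length = 16 ∧
    (oOpts 4 [32, 2, 16, 1]).length = 9 ∧ (oOpts 64 [4, 32, 2, 16, 1]).length = 4 ∧
    (oOpts 8 [64, 4, 32, 2, 16, 1]).length = 2 ∧
    (oOpts 128 [8, 64, 4, 32, 2, 16, 1]).length = 1 := by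
  decide +kernel

theorem card_O_le : Nat.card O ≤ 348364800 := by
  obtain ⟨c1, c2, c3, c4, c5, c6, c7, c8⟩ := oOpts_card
  have s1 := oStab_step (b := 1) (by decide) []
  have s2 := oStab_step (b := 16) (by decide) [1]
  have s3 := oStab_step (b := 2) (by decide) [16, 1]
  have s4 := oStab_step (b := 32) (by decide) [2, 16, 1]
  have s5 := oStab_step (b := 4) (by decide) [32, 2, 16, 1]
  have s6 := oStab_step (b := 64) (by decide) [4, 32, 2, 16, 1]
  have s7 := oStab_step (b := 8) (by decide) [64, 4, 32, 2, 16, 1]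
  have s8 := oStab_step (b := 128) (by decide) [8, 64, 4, 32, 2, 16, 1]
  have hlast : oStab [128, 8, 64, 4, 32, 2, 16, 1] = ⊥ := by
    refine (Subgroup.eq_bot_iff_forall _).2 fun π hπ => ?_
    refine O_ext (oStab_le _ hπ) (one_mem O) fun j => ?_
    have hf := oStab_fix _ π hπ
    fin_cases j <;> exact hf _ (by decide)
  rw [c1] at s1
  rw [c2] at s2
  rw [c3] at s3
  rw [c4] at s4
  rw [c5] at s5
  rw [c6] at s6
  rw [c7] at s7
  rw [c8, hlast, Subgroup.card_bot] at s8
  show Nat.card (oStab []) ≤ 348364800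
  omega

variable {R : Subgroup (Perm V8)}

/-- The squares of orthogonal maps lie in a subgroup of order 174182400. -/
theorem sq_mem (hR : R ≤ O) (hc : Nat.card R = 174182400) {π : Perm V8} (h : π ∈ O) :
    π * π ∈ R := by
  have h1 := (R.subgroupOf O).card_mul_index
  rw [Nat.card_congr (Subgroup.subgroupOfEquivOfLe hR).toEquiv, hc] at h1
  have h2 := card_O_le
  have h3 : (R.subgroupOf O).index ≠ 0 := Subgroup.index_ne_zero_of_finite
  rcases (show (R.subgroupOf O).index = 1 ∨ (R.subgroupOf O).index = 2 by omega) with hi | hi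
  · rw [Subgroup.index_eq_one] at hi
    have : (⟨π * π, mul_mem h h⟩ : O) ∈ R.subgroupOf O := hi ▸ Subgroup.mem_top _
    exact this
  · exact Subgroup.mul_self_mem_of_index_two hi ⟨π, h⟩

theorem comm_mem (hR : R ≤ O) (hc : Nat.card R = 174182400) {x y : Perm V8} (hx : x ∈ O)
    (hy : y ∈ O) : x * y * x⁻¹ * y⁻¹ ∈ R := by
  have e : x * y * x⁻¹ * y⁻¹ =
      (x * y) * (x * y) * ((y⁻¹ * x⁻¹ * y) * (y⁻¹ * x⁻¹ * y)) * (y⁻¹ * y⁻¹) := by
    group
  rw [e]
  exact mul_mem (mul_mem (sq_mem hR hc (mul_mem hx hy))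
    (sq_mem hR hc (mul_mem (mul_mem (inv_mem hy) (inv_mem hx)) hy))) (sq_mem hR hc (inv_mem hy))

theorem conj_mem (hR : R ≤ O) (hc : Nat.card R = 174182400) {x y : Perm V8} (hx : x ∈ O)
    (hy : y ∈ R) : x * y * x⁻¹ ∈ R := by
  have h := mul_mem (comm_mem hR hc hx (hR hy)) hy
  rwa [inv_mul_cancel_right] at h

theorem eP_zero : eP 0 = 1 :=
  Equiv.ext fun v => by rw [eP_apply, eM_zero.1, ap_idM8]; rfl

theorem eP_basis_mem (hR : R ≤ O) (hc : Nat.card R = 174182400) (t : Fin 6) :
    eP (Fin.ofNat 64 (2 ^ t.val)) ∈ R := by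
  have h : eP (Fin.ofNat 64 (2 ^ t.val)) =
      wP [(comW t).1, (comW t).2, (comW t).1, (comW t).2] :=
    Equiv.ext fun v => by rw [eP_apply, wP_apply, comW_ok]
  rw [h]
  show rootP _ * (rootP _ * (rootP _ * (rootP _ * 1))) ∈ R
  rw [mul_one, ← mul_assoc, ← mul_assoc]
  have h' := comm_mem hR hc (sieP_mem (rootPar (comW t).1).1 (rootPar (comW t).1).2)
    (sieP_mem (rootPar (comW t).2).1 (rootPar (comW t).2).2)
  rwa [sieP_inv, sieP_inv] at h'

theorem eP_mem (hR : R ≤ O) (hc : Nat.card R = 174182400) (i : Fin 64) : eP i ∈ R := by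
  suffices h : ∀ n, n ≤ 6 → ∀ i : Fin 64, i.val < 2 ^ n → eP i ∈ R from h 6 le_rfl i i.isLt
  intro n
  induction n with
  | zero =>
    intro _ i hi
    have : i = 0 := Fin.ext (by simp at hi; simpa using hi)
    rw [this, eP_zero]
    exact one_mem R
  | succ n ih =>
    intro hn i hi
    rcases Nat.lt_or_ge i.val (2 ^ n) with h | h
    · exact ih (by omega) i h
    · set e : Fin 64 := Fin.ofNat 64 (2 ^ n)
      have hlt : (i ^^^ e).val < 2 ^ n := bits_span i ⟨n, by omega⟩ hi h
      have e1 : eP i = eP (i ^^^ e) * eP e := by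
        have h1 : eP e * eP e = 1 := sieP_mul_self _ _
        rw [← eP_mul, mul_assoc, h1, mul_one]
      rw [e1]
      exact mul_mem (ih (by omega) _ hlt) (eP_basis_mem hR hc ⟨n, by omega⟩)

/-- All Siegel transformations lie in a subgroup of order 174182400. -/
theorem sieP_mem_R (hR : R ≤ O) (hc : Nat.card R = 174182400) (p w : V8) : sieP p w ∈ R := by
  by_cases h : SieOK (p, w)
  swap
  · rw [sieP, dif_neg h]
    exact one_mem R
  rcases ptW_cover p h.1 with rfl | ⟨x, hx, rfl⟩
  · have e : sieP 0 w = 1 := Equiv.ext fun v => by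
      rw [sieP_apply h]
      have hb : bl v 0 = false := by simp [bl, pr, bit_zero]
      show vadd v _ = v
      rw [hb]
      cases bl v w <;> simp [sel, vadd_zero]
    rw [e]
    exact one_mem R
  · set g := wP x.2 with hg
    have hgO : g ∈ O := wP_mem_O x.2
    have hg1 : g 1 = x.1 := by rw [hg, wP_apply, ptW_ok x hx]
    obtain ⟨u, rfl⟩ := g.surjective w
    have hu : bl 1 u = false := by
      rw [← O_bl hgO, hg1]
      exact h.2
    have hOK : SieOK ((1 : V8), u) := ⟨show qb 1 = false by decide, hu⟩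
    have e : sieP 1 u = eP (idxOf u) := Equiv.ext fun v => by
      rw [sieP_apply hOK, eP_apply, ← ap_matSie, eM_cover u hu]
    rw [← hg1, ← O_sieP hgO hOK, e]
    exact conj_mem hR hc hgO (eP_mem hR hc _)

theorem wperm_mem_R (hR : R ≤ O) (hc : Nat.card R = 174182400) (l : List (V8 × V8)) :
    wperm l ∈ R :=
  list_prod_mem fun _ h => by
    obtain ⟨x, _, rfl⟩ := List.mem_map.1 h
    exact sieP_mem_R hR hc x.1 x.2

theorem wP_mem (hR : R ≤ O) (hc : Nat.card R = 174182400) (l : List (Fin 24)) : wP l ∈ R :=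
  list_prod_mem fun _ h => by
    obtain ⟨k, _, rfl⟩ := List.mem_map.1 h
    exact sieP_mem_R hR hc _ _

/-! ### The Sylow 2-subgroup -/

/-- An element of the named Sylow 2-subgroup. -/
def tP (x : Fin 64 × Fin 64) : Perm V8 := eP x.1 * wP (lW x.2)

theorem tP_apply (x : Fin 64 × Fin 64) (v : V8) : tP x v = ((eM x.1).mul (lM x.2)).ap v := by
  rw [tP, Perm.mul_apply, M8.ap_mul, eP_apply, wP_apply, lW_ok]

theorem wP_lW_eP (a k : Fin 64) : wP (lW a) * eP k = eP (lAct a k) * wP (lW a) := by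
  have h := O_sieP (wP_mem_O (lW a)) (eM_ok k).1
  rw [wP_apply, wP_apply, lW_ok, (lM_fix a).1, lM_act] at h
  rw [eP, eP, ← h, inv_mul_cancel_right]

theorem wP_lW_mul (a b : Fin 64) : wP (lW a) * wP (lW b) = wP (lW (lMul a b)) :=
  Equiv.ext fun v => by
    rw [Perm.mul_apply, wP_apply, wP_apply, wP_apply, lW_ok, lW_ok, lW_ok, ← M8.ap_mul, lM_mul]

theorem tP_mul (x y : Fin 64 × Fin 64) :
    tP x * tP y = tP (x.1 ^^^ lAct x.2 y.1, lMul x.2 y.2) := by
  show eP x.1 * wP (lW x.2) * (eP y.1 * wP (lW y.2)) = eP _ * wP (lW _)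
  rw [mul_assoc, ← mul_assoc (wP (lW x.2)), wP_lW_eP, mul_assoc, wP_lW_mul, ← mul_assoc, eP_mul]

theorem tP_zero : tP (0, 0) = 1 :=
  Equiv.ext fun v => by rw [tP_apply, M8.ap_mul, eM_zero.1, eM_zero.2, ap_idM8, ap_idM8]; rfl

theorem tP_inj : Function.Injective tP := by
  rintro ⟨i, a⟩ ⟨j, b⟩ h
  have h16 := congrArg (fun p : Perm V8 => p 16) h
  simp only [tP_apply, M8.ap_mul, (lM_fix a).2, (lM_fix b).2] at h16
  have hij : i = j :=
    List.inj_on_of_nodup_map eM_sixteen (List.mem_finRange i) (List.mem_finRange j) h16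
  subst hij
  have hw : wP (lW a) = wP (lW b) := mul_left_cancel h
  have hm : lM a = lM b := by
    have hv : ∀ v, (lM a).ap v = (lM b).ap v := fun v => by
      rw [← lW_ok, ← lW_ok, ← wP_apply, ← wP_apply, hw]
    have k0 := hv (ev 0)
    have k1 := hv (ev 1)
    have k2 := hv (ev 2)
    have k3 := hv (ev 3)
    have k4 := hv (ev 4)
    have k5 := hv (ev 5)
    have k6 := hv (ev 6)
    have k7 := hv (ev 7)
    cases hA : lM a
    cases hB : lM b
    rw [hA, hB] at k0 k1 k2 k3 k4 k5 k6 k7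
    simp [M8.ap, sel, bit, ev, Nat.testBit, zero_vadd, vadd_zero] at k0 k1 k2 k3 k4 k5 k6 k7
    simp [k0, k1, k2, k3, k4, k5, k6, k7]
  rw [List.inj_on_of_nodup_map lM_nodup (List.mem_finRange a) (List.mem_finRange b) hm]

/-- The named Sylow 2-subgroup. -/
def TS : Subgroup (Perm V8) := Subgroup.closure (Set.range tP)

theorem mem_TS {π : Perm V8} : π ∈ TS ↔ ∃ x, tP x = π := by
  refine ⟨fun h => ?_, fun ⟨a, ha⟩ => Subgroup.subset_closure ⟨a, ha⟩⟩
  have hS : (Submonoid.closure (Set.range tP) : Set (Perm V8)) ⊆ Set.range tP := by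
    intro x hx
    induction hx using Submonoid.closure_induction with
    | mem y hy => exact hy
    | one => exact ⟨_, tP_zero⟩
    | mul y w _ _ hy hw =>
      obtain ⟨a, rfl⟩ := hy
      obtain ⟨b, rfl⟩ := hw
      exact ⟨_, (tP_mul a b).symm⟩
  refine hS ?_
  rw [← Subgroup.closure_toSubmonoid_of_finite]
  exact h

theorem card_TS : Nat.card TS = 4096 := by
  have h : (TS : Set (Perm V8)) = Set.range tP := Set.ext fun π => mem_TS.trans Iff.rfl
  show Nat.card (TS : Set (Perm V8)) = 4096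
  rw [h, Nat.card_congr (Equiv.ofInjective _ tP_inj).symm, Nat.card_prod, Nat.card_fin]

/-- Every 2-subgroup of a subgroup of order 174182400 is conjugate in it into the named one. -/
theorem conj_into_TS (hR : R ≤ O) (hc : Nat.card R = 174182400) {B : Subgroup (Perm V8)}
    (hB : B ≤ R) (hB2 : IsPGroup 2 B) : ∃ c ∈ R, ∀ b ∈ B, c * b * c⁻¹ ∈ TS := by
  haveI : Fact (Nat.Prime 2) := ⟨Nat.prime_two⟩
  have hTR : TS ≤ R := fun π h => by
    obtain ⟨a, rfl⟩ := mem_TS.1 h
    exact mul_mem (eP_mem hR hc _) (wP_mem hR hc _)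
  have hf : (174182400 : ℕ).factorization 2 = 12 := by
    rw [show (174182400 : ℕ) = 2 ^ 12 * 42525 by norm_num,
      Nat.factorization_mul (by norm_num) (by norm_num)]
    rw [Finsupp.add_apply, Nat.prime_two.factorization_pow, Finsupp.single_eq_same,
      Nat.factorization_eq_zero_of_not_dvd (show ¬ 2 ∣ 42525 by norm_num)]
  have hcardT : Nat.card (TS.subgroupOf R) = 2 ^ (Nat.card R).factorization 2 := by
    rw [Nat.card_congr (Subgroup.subgroupOfEquivOfLe hTR).toEquiv, card_TS, hc, hf]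
    norm_num
  let T : Sylow 2 R := Sylow.ofCard (TS.subgroupOf R) hcardT
  have hB' : IsPGroup 2 (B.subgroupOf R) :=
    hB2.of_equiv (Subgroup.subgroupOfEquivOfLe hB).symm
  obtain ⟨S, hS⟩ := hB'.exists_le_sylow
  obtain ⟨c, hc'⟩ := MulAction.exists_smul_eq R S T
  refine ⟨c, c.2, fun b hb => ?_⟩
  have h1 : c * ⟨b, hB hb⟩ * c⁻¹ ∈ (T : Subgroup R) := by
    rw [← hc', Sylow.coe_subgroup_smul]
    exact Subgroup.mem_map.2 ⟨⟨b, hB hb⟩, hS hb, rfl⟩
  exact h1

/-- Every involution of a subgroup of order 174182400 is conjugate in it to one of the five. -/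
theorem invol_conj (hR : R ≤ O) (hc : Nat.card R = 174182400) {π : Perm V8} (hπ : π ∈ R)
    (h2 : π * π = 1) (h1 : π ≠ 1) : ∃ c ∈ R, ∃ l ∈ reps, c * π * c⁻¹ = wperm l := by
  have hB : IsPGroup 2 (Subgroup.zpowers π) := by
    haveI : Fact (Nat.Prime 2) := ⟨Nat.prime_two⟩
    refine IsPGroup.of_card (n := 1) ?_
    rw [Nat.card_zpowers, pow_one]
    exact orderOf_eq_prime (by rw [sq, h2]) h1
  obtain ⟨c, hcR, hcT⟩ := conj_into_TS hR hc (Subgroup.zpowers_le.2 hπ) hB
  obtain ⟨⟨i, a⟩, ha⟩ := mem_TS.1 (hcT π (Subgroup.mem_zpowers π))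
  have hsq : tP (i, a) * tP (i, a) = tP (0, 0) := by
    rw [ha, tP_zero]
    calc c * π * c⁻¹ * (c * π * c⁻¹) = c * (π * π) * c⁻¹ := by group
      _ = 1 := by rw [h2]; group
  rw [tP_mul] at hsq
  have he := tP_inj hsq
  have he1 : i = lAct a i := xor_eq_zero64 _ _ (congrArg Prod.fst he)
  rcases invW_cover a i (congrArg Prod.snd he) he1 with ⟨rfl, rfl⟩ | ⟨x, hx, rfl⟩
  · refine absurd ?_ h1
    rw [tP_zero, eq_comm, conj_eq_one_iff] at ha
    exact ha
  · obtain ⟨hok, hmem, hrep⟩ := repM_ok x.2.1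
    refine ⟨wP x.2.2 * c, mul_mem (wP_mem hR hc _) hcR, _, hmem, ?_⟩
    have e : wP x.2.2 * tP (x.1, a) = wperm (reps.getD x.2.1.val []) * wP x.2.2 := by
      refine Equiv.ext fun v => ?_
      have hr : ∀ u, wperm (reps.getD x.2.1.val []) u = (repM x.2.1).ap u := fun u => by
        conv_lhs => rw [← span_basis u]
        have hO : wperm (reps.getD x.2.1.val []) ∈ O := list_prod_mem fun _ h => by
          obtain ⟨y, _, rfl⟩ := List.mem_map.1 h
          exact sieP_mem _ _
        simp only [O_add hO, O_sel hO]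
        simp only [wperm_apply hok, hrep]
        rw [← (repM x.2.1).ap_sel, ← (repM x.2.1).ap_sel, ← (repM x.2.1).ap_sel,
          ← (repM x.2.1).ap_sel, ← (repM x.2.1).ap_sel, ← (repM x.2.1).ap_sel,
          ← (repM x.2.1).ap_sel, ← (repM x.2.1).ap_sel]
        simp only [← M8.ap_add, span_basis]
      rw [Perm.mul_apply, Perm.mul_apply, wP_apply, tP_apply, hr, wP_apply, ← M8.ap_mul,
        ← M8.ap_mul, invW_ok a x hx]
    rw [ha] at e
    calc wP x.2.2 * c * π * (wP x.2.2 * c)⁻¹ = wP x.2.2 * (c * π * c⁻¹) * (wP x.2.2)⁻¹ := by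
          group
      _ = _ := by rw [e]; exact mul_inv_cancel_right _ _

end CfsgLib.Small.ConTwo
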