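import Cfsg.Agent.Lib.Small.ConTwo.AFamily
import Cfsg.Agent.Lib.Small.ConTwo.ABits
import Cfsg.Agent.Lib.Small.ConTwo.Invol

/-!
The centraliser of the preimage of a totally singular four-space: an elementary abelian group of
order `2 ^ 11`.
-/

set_option autoImplicit false
set_option maxRecDepth 100000
set_option synthInstance.maxSize 4000

namespace CfsgLib.Small.ConTwo

open Equiv

/-- The distinguished totally singular four-space. -/
def Low (v : V8) : Prop := v.val < 16

instance : DecidablePred Low := fun v => Nat.decLt v.val 16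

/-- The six pairs. -/
def pairL : List (V8 × V8) := [(1, 2), (1, 4), (1, 8), (2, 4), (2, 8), (4, 8)]

/-- A pair. -/
def pairP (k : ℕ) : V8 × V8 := pairL.getD k (1, 2)

/-- Words moving `pt` inside the four-space. -/
def movL : List (List (V8 × V8)) := [[], [(1, 32), (2, 16)], [(1, 64), (4, 16)], [(1, 128), (8, 16)]]

/-- Words moving the standard complementary pair to the other two. -/
def compL : List (List (V8 × V8)) :=
  [[(8, 32), (2, 128), (8, 32)], [(8, 64), (4, 128), (8, 64)], []]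

theorem low_bl : ∀ v : V8, (Low v → qb v = false) ∧ (Low v → ∀ j : Fin 4, bl v (ev j.castSucc.castSucc.castSucc.castSucc) = false) := by
  decide +kernel

theorem low_add : ∀ a : Fin 16, ∀ b : Fin 16,
    (vadd (Fin.ofNat 256 a.val) (Fin.ofNat 256 b.val)).val < 16 ∧
      bl (Fin.ofNat 256 a.val) (Fin.ofNat 256 b.val) = false := by
  decide +kernel

theorem low_vadd {a b : V8} (ha : Low a) (hb : Low b) : Low (vadd a b) ∧ bl a b = false := by
  have h := low_add ⟨a.val, ha⟩ ⟨b.val, hb⟩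
  have e : ∀ x : V8, Fin.ofNat 256 x.val = x := fun x => Fin.ext (by simp)
  rwa [e, e] at h

theorem low_perp : ∀ v : V8, bl v 1 = false → bl v 2 = false → bl v 4 = false → bl v 8 = false →
    Low v := by
  decide +kernel

theorem pair_facts : ∀ k < 6, SieOK (pairP k) ∧ Low (pairP k).1 ∧ Low (pairP k).2 ∧
    ∀ v : Fin 16, sie (pairP k).1 (pairP k).2 (Fin.ofNat 256 v.val) = Fin.ofNat 256 v.val := by
  decide +kernel

theorem mov_facts : ∀ i < 4, WordOK (movL.getD i []) ∧
    (∀ v : Fin 16, (wap (movL.getD i []) (Fin.ofNat 256 v.val)).val < 16) ∧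
    wap (movL.getD i []) pt = Fin.ofNat 256 (2 ^ i) := by
  decide +kernel

theorem comp_facts : ∀ i < 3, WordOK (compL.getD i []) ∧
    (∀ v : Fin 16, (wap (compL.getD i []) (Fin.ofNat 256 v.val)).val < 16) ∧
    (∀ j : Fin 8, wap (compL.getD i []) (sie pt 8 (ev j)) =
      sie (pairP i).1 (pairP i).2 (wap (compL.getD i []) (ev j))) ∧
    ∀ j : Fin 8, wap (compL.getD i []) (sie 2 4 (ev j)) =
      sie (pairP (5 - i)).1 (pairP (5 - i)).2 (wap (compL.getD i []) (ev j)) := by
  decide +kernel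

theorem pair_first : ∀ k < 6, ∃ i < 4, (pairP k).1 = Fin.ofNat 256 (2 ^ i) := by
  decide +kernel

theorem shared_facts : ∀ k < 6, ∀ l < 6, k = l ∨ k + l = 5 ∨ ∃ i < 4, ∃ a < 4, ∃ b < 4,
    (∀ j : Fin 8, sie (pairP k).1 (pairP k).2 (ev j) =
      sie (Fin.ofNat 256 (2 ^ i)) (Fin.ofNat 256 (2 ^ a)) (ev j)) ∧
    ∀ j : Fin 8, sie (pairP l).1 (pairP l).2 (ev j) =
      sie (Fin.ofNat 256 (2 ^ i)) (Fin.ofNat 256 (2 ^ b)) (ev j) := by
  decide +kernel

/-- The word of a string of six bits. -/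
def topW (t : ℕ) : List (V8 × V8) :=
  (List.range 6).filterMap fun k => if t.testBit k then some (pairP k) else none

theorem top_nodup : ((List.range 64).map fun t =>
    [wap (topW t) 16, wap (topW t) 32, wap (topW t) 64, wap (topW t) 128]).Nodup := by
  decide +kernel

theorem opts_fix : (oOpts 16 [8, 4, 2, 1]).length * (oOpts 32 [16, 8, 4, 2, 1]).length *
    ((oOpts 64 [32, 16, 8, 4, 2, 1]).length * (oOpts 128 [64, 32, 16, 8, 4, 2, 1]).length) ≤ 64 ∧
    ∀ d : V8, (∀ f ∈ ([128, 64, 32, 16, 8, 4, 2, 1] : List V8), bl d f = false) → d = 0 := by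
  decide +kernel

/-- The centraliser of the part of `Q` over the four-space. -/
def AG {G : Type*} [Group G] (Q : Subgroup G) (f : G → V8) : Subgroup G :=
  Subgroup.centralizer {q | q ∈ Q ∧ Low (f q)}

/-- Commutation for the standard complementary pair. -/
def GoodFam {G : Type*} [Group G] {z : G} (Q : Subgroup G) (f : G → V8) (ρ : Cz z →* Perm V8) :
    Prop :=
  ∃ x y, x ∈ AG Q f ∧ y ∈ AG Q f ∧ Img ρ x (sieP pt 8) ∧ Img ρ y (sieP 2 4) ∧ x * y = y * x

theorem wperm_low {l : List (V8 × V8)} (hl : WordOK l)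
    (h : ∀ v : Fin 16, (wap l (Fin.ofNat 256 v.val)).val < 16) {v : V8} (hv : Low v) :
    Low (wperm l v) := by
  have e := h ⟨v.val, hv⟩
  rw [show Fin.ofNat 256 v.val = v from Fin.ext (by simp)] at e
  rw [wperm_apply hl]
  exact e

namespace Model

variable {G : Type*} [Group G] {z : G} {Q : Subgroup G} {f : G → V8}
  {ρ : Cz z →* Perm V8} (M : Model z Q f ρ)

omit M in
theorem mem_AG {x : G} : x ∈ AG Q f ↔ ∀ q ∈ Q, Low (f q) → x * q = q * x := by
  rw [AG, Subgroup.mem_centralizer_iff]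
  exact ⟨fun h q hq hl => (h q ⟨hq, hl⟩).symm, fun h q hq => (h q hq.1 hq.2).symm⟩

include M

theorem low_mem {q : G} (hq : q ∈ Q) (hl : Low (f q)) : q ∈ AG Q f :=
  mem_AG.2 fun r hr hr' => ((M.commute_iff hr hq).2 (low_vadd hr' hl).2)

theorem z_mem_AG : z ∈ AG Q f := M.low_mem M.z_mem (by rw [M.f_z]; decide)

theorem AG_le : AG Q f ≤ Cz z := fun x hx =>
  mem_Cz.2 (mem_AG.1 hx z M.z_mem (by rw [M.f_z]; decide))

theorem AG_inter {q : G} (hq : q ∈ Q) : q ∈ AG Q f ↔ Low (f q) := by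
  refine ⟨fun h => ?_, M.low_mem hq⟩
  have key : ∀ v : V8, Low v → bl (f q) v = false := by
    intro v hv
    obtain ⟨r, hr, rfl⟩ := M.f_surj v
    exact (M.commute_iff hq hr).1 (mem_AG.1 h r hr hv).symm
  exact low_perp _ (key 1 (by decide)) (key 2 (by decide)) (key 4 (by decide)) (key 8 (by decide))

theorem AG_fix {x : G} {π : Perm V8} (hx : x ∈ AG Q f) (hI : Img ρ x π) {v : V8} (hv : Low v) :
    π v = v := by
  obtain ⟨q, hq, rfl⟩ := M.f_surj v
  rw [← M.img_conj hI hq, mem_AG.1 hx q hq hv, mul_inv_cancel_right]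

theorem AG_conj {c : G} {σ : Perm V8} (hc : Img ρ c σ) (hσ : ∀ v, Low v → Low (σ v))
    {x : G} (hx : x ∈ AG Q f) : c * x * c⁻¹ ∈ AG Q f := by
  refine mem_AG.2 fun q hq hl => ?_
  have hσ' : Low (σ⁻¹ (f q)) := by
    have hbij : Function.Bijective (fun v : {v : V8 // Low v} => (⟨σ v.1, hσ v.1 v.2⟩ : {v : V8 // Low v})) :=
      Finite.injective_iff_bijective.1 fun a b e => Subtype.ext (σ.injective (congrArg Subtype.val e))
    obtain ⟨⟨w, hw⟩, e⟩ := hbij.2 ⟨f q, hl⟩
    rw [← show σ w = f q from congrArg Subtype.val e, show σ⁻¹ (σ w) = w from σ.symm_apply_apply w]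
    exact hw
  have hq' : c⁻¹ * q * c⁻¹⁻¹ ∈ Q := M.normal _ (inv_mem hc.mem) q hq
  have h := mem_AG.1 hx _ hq' (by rw [M.img_conj hc.inv hq]; exact hσ')
  calc c * x * c⁻¹ * q = c * (x * (c⁻¹ * q * c⁻¹⁻¹)) * c⁻¹ := by group
    _ = q * (c * x * c⁻¹) := by rw [h]; group

/-- Elements of the group with equal images differ by a central element of the group. -/
theorem AG_diff {x x' : G} {π : Perm V8} (hx : x ∈ AG Q f) (hx' : x' ∈ AG Q f) (h : Img ρ x π)
    (h' : Img ρ x' π) : ∃ q ∈ Q, Low (f q) ∧ x' = x * q := by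
  obtain ⟨q, hq, rfl⟩ := M.img_same h h'
  refine ⟨q, hq, (M.AG_inter hq).1 ?_, rfl⟩
  have := mul_mem (inv_mem hx) hx'
  rwa [inv_mul_cancel_left] at this

theorem AG_comm_of {x x' y y' : G} {π σ : Perm V8} (hx : x ∈ AG Q f) (hx' : x' ∈ AG Q f)
    (hy : y ∈ AG Q f) (hy' : y' ∈ AG Q f) (h1 : Img ρ x π) (h2 : Img ρ x' π) (h3 : Img ρ y σ)
    (h4 : Img ρ y' σ) (h : x * y = y * x) : x' * y' = y' * x' := by
  obtain ⟨q, hq, hql, rfl⟩ := M.AG_diff hx hx' h1 h2
  obtain ⟨r, hr, hrl, rfl⟩ := M.AG_diff hy hy' h3 h4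
  have e1 : Commute q y := (mem_AG.1 hy q hq hql).symm
  have e2 : Commute q r := (M.commute_iff hq hr).2 (low_vadd hql hrl).2 |>.symm
  have e3 : Commute x r := mem_AG.1 hx r hr hrl
  exact ((Commute.mul_right (show Commute x y from h) e3).mul_left (e1.mul_right e2)).eq

variable {u g : G} (W : Swap z Q f u g)

include W

/-- A translation by a vector of the four-space. -/
theorem D_in_AG {w : V8} (hw : Low w) : ∃ x ∈ AG Q f, Img ρ x (sieP pt w) ∧ g⁻¹ * x * g ∈ Q ∧
    x * x = 1 := by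
  have hwp : bl w pt = false := (low_vadd hw (show Low pt by decide)).2
  obtain ⟨x, hx, hx', hx2⟩ := M.DInv_sing W hwp ((low_bl w).1 hw)
  refine ⟨x, mem_AG.2 fun q hq hl => ?_, hx, hx', hx2⟩
  have h := M.D_comm W hx hx' hwp q hq (low_vadd hl (show Low pt by decide)).2
  rw [(low_vadd hl hw).2, M.up_false W, mul_one] at h
  exact mul_inv_eq_iff_eq_mul.1 h

theorem pt_comm {w w' : V8} (hw : Low w) (hw' : Low w') {x x' : G} (hx : x ∈ AG Q f)
    (hx' : x' ∈ AG Q f) (hI : Img ρ x (sieP pt w)) (hI' : Img ρ x' (sieP pt w')) :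
    x * x' = x' * x := by
  obtain ⟨a, ha, haI, haQ, ha2⟩ := M.D_in_AG W hw
  obtain ⟨b, hb, hbI, hbQ, hb2⟩ := M.D_in_AG W hw'
  have hwp : bl w pt = false := (low_vadd hw (show Low pt by decide)).2
  have hwp' : bl w' pt = false := (low_vadd hw' (show Low pt by decide)).2
  have hI2 : Img ρ (a * b) (sieP pt (vadd w w')) := by rw [← sieP_mul hwp hwp']; exact haI.mul hbI
  have h2 := M.D_sq W hI2 (M.D_mul_mem W haQ hbQ) (perp_sum hwp hwp')
    ((low_bl _).1 (low_vadd hw hw').1)
  refine M.AG_comm_of ha hx hb hx' haI hI hbI hI' ?_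
  calc a * b = (a * b)⁻¹ := (inv_eq_of_mul_eq_one_right h2).symm
    _ = b * a := by
      rw [mul_inv_rev, inv_eq_of_mul_eq_one_right ha2, inv_eq_of_mul_eq_one_right hb2]

theorem exists_gen {k : ℕ} (hk : k < 6) :
    ∃ x ∈ AG Q f, Img ρ x (sieP (pairP k).1 (pairP k).2) ∧ x * x = 1 := by
  obtain ⟨hok, h1, h2, -⟩ := pair_facts k hk
  obtain ⟨i, hi, he⟩ := pair_first k hk
  obtain ⟨hwok, hlow, hpt⟩ := mov_facts i hi
  obtain ⟨c, hc⟩ := M.lift (movL.getD i [])
  have hσ : ∀ v, Low v → Low (wperm (movL.getD i []) v) := fun v => wperm_low hwok hlow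
  have hw : Low ((wperm (movL.getD i []))⁻¹ (pairP k).2) := by
    have hbij : Function.Bijective (fun v : {v : V8 // Low v} =>
        (⟨wperm (movL.getD i []) v.1, hσ v.1 v.2⟩ : {v : V8 // Low v})) :=
      Finite.injective_iff_bijective.1 fun a b e =>
        Subtype.ext ((wperm _).injective (congrArg Subtype.val e))
    obtain ⟨⟨w, hw⟩, e⟩ := hbij.2 ⟨_, h2⟩
    rw [← show wperm (movL.getD i []) w = (pairP k).2 from congrArg Subtype.val e,
      show (wperm (movL.getD i []))⁻¹ (wperm (movL.getD i []) w) = w from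
        (wperm _).symm_apply_apply w]
    exact hw
  obtain ⟨x, hx, hxI, -, hx2⟩ := M.D_in_AG W hw
  refine ⟨c * x * c⁻¹, M.AG_conj hc hσ hx, ?_, conj_sq_one c hx2⟩
  have h := hxI.conj hc
  rwa [O_sieP (wperm_mem_O _) (sieOK_pt (low_vadd hw (show Low pt by decide)).2),
    wperm_apply hwok pt, hpt, ← he,
    show wperm (movL.getD i []) ((wperm (movL.getD i []))⁻¹ (pairP k).2) = (pairP k).2 from
      (wperm _).apply_symm_apply _] at h

theorem gen_comm (hgood : GoodFam Q f ρ) {k l : ℕ} (hk : k < 6) (hl : l < 6) {x x' : G}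
    (hx : x ∈ AG Q f) (hx' : x' ∈ AG Q f) (hI : Img ρ x (sieP (pairP k).1 (pairP k).2))
    (hI' : Img ρ x' (sieP (pairP l).1 (pairP l).2)) : x * x' = x' * x := by
  rcases shared_facts k hk l hl with h | h | ⟨i, hi, a, ha, b, hb, ea, eb⟩
  · subst h
    exact M.AG_comm_of hx hx hx hx' hI hI hI hI' rfl
  · obtain ⟨a, b, ha, hb, haI, hbI, hab⟩ := hgood
    have key : ∀ i < 3, ∀ y y', y ∈ AG Q f → y' ∈ AG Q f →
        Img ρ y (sieP (pairP i).1 (pairP i).2) →
        Img ρ y' (sieP (pairP (5 - i)).1 (pairP (5 - i)).2) → y * y' = y' * y := by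
      intro i hi y y' hy hy' hyI hyI'
      obtain ⟨hok, hlow, e1, e2⟩ := comp_facts i hi
      obtain ⟨c, hc⟩ := M.lift (compL.getD i [])
      have hσ : ∀ v, Low v → Low (wperm (compL.getD i []) v) := fun v => wperm_low hok hlow
      have hsub : ∀ p w : V8, SieOK (p, w) → ∀ q r' : V8, SieOK (q, r') →
          (∀ j : Fin 8, wap (compL.getD i []) (sie p w (ev j)) =
            sie q r' (wap (compL.getD i []) (ev j))) →
          wperm (compL.getD i []) * sieP p w * (wperm (compL.getD i []))⁻¹ = sieP q r' := by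
        intro p w hpw q r' hqr he
        rw [mul_inv_eq_iff_eq_mul]
        refine O_ext (mul_mem (wperm_mem_O _) (sieP_mem _ _))
          (mul_mem (sieP_mem _ _) (wperm_mem_O _)) fun j => ?_
        rw [Perm.mul_apply, Perm.mul_apply, sieP_apply hpw, wperm_apply hok, wperm_apply hok,
          sieP_apply hqr, he j]
      have hA := haI.conj hc
      have hB := hbI.conj hc
      rw [hsub _ _ (sieOK_pt (by decide +kernel)) _ _ (pair_facts i (by omega)).1 e1] at hA
      rw [hsub _ _ (by decide +kernel) _ _ (pair_facts (5 - i) (by omega)).1 e2] at hB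
      refine M.AG_comm_of (M.AG_conj hc hσ ha) hy (M.AG_conj hc hσ hb) hy' hA hyI hB hyI' ?_
      calc c * a * c⁻¹ * (c * b * c⁻¹) = c * (a * b) * c⁻¹ := by group
        _ = c * b * c⁻¹ * (c * a * c⁻¹) := by rw [hab]; group
    rcases Nat.lt_or_ge k 3 with hk3 | hk3
    · exact key k hk3 x x' hx hx' hI (by rw [show 5 - k = l by omega]; exact hI')
    · exact (key l (by omega) x' x hx' hx hI' (by rw [show 5 - l = k by omega]; exact hI)).symm
  · obtain ⟨hwok, hlow, hpt⟩ := mov_facts i hi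
    obtain ⟨c, hc⟩ := M.lift (movL.getD i [])
    have hσ : ∀ v, Low v → Low (wperm (movL.getD i []) v) := fun v => wperm_low hwok hlow
    have hlowbit : ∀ a < 4, Low (Fin.ofNat 256 (2 ^ a) : V8) := by decide +kernel
    have pre : ∀ m < 6, ∀ a < 4, (∀ j : Fin 8, sie (pairP m).1 (pairP m).2 (ev j) =
        sie (Fin.ofNat 256 (2 ^ i)) (Fin.ofNat 256 (2 ^ a)) (ev j)) → ∀ y ∈ AG Q f,
        Img ρ y (sieP (pairP m).1 (pairP m).2) →
        ∃ y' ∈ AG Q f, ∃ w, Low w ∧ Img ρ y' (sieP pt w) ∧ y = c * y' * c⁻¹ := by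
      intro m hm a ha he y hy hyI
      have hbij : Function.Bijective (fun v : {v : V8 // Low v} =>
          (⟨wperm (movL.getD i []) v.1, hσ v.1 v.2⟩ : {v : V8 // Low v})) :=
        Finite.injective_iff_bijective.1 fun a b e =>
          Subtype.ext ((wperm _).injective (congrArg Subtype.val e))
      obtain ⟨⟨w, hw⟩, e⟩ := hbij.2 ⟨_, hlowbit a ha⟩
      have hwe : wperm (movL.getD i []) w = Fin.ofNat 256 (2 ^ a) := congrArg Subtype.val e
      have hσ' : ∀ v, Low v → Low ((wperm (movL.getD i []))⁻¹ v) := by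
        intro v hv
        obtain ⟨⟨x, hx⟩, e⟩ := hbij.2 ⟨v, hv⟩
        rw [← show wperm (movL.getD i []) x = v from congrArg Subtype.val e,
          show (wperm (movL.getD i []))⁻¹ (wperm (movL.getD i []) x) = x from
            (wperm _).symm_apply_apply x]
        exact hx
      refine ⟨c⁻¹ * y * c⁻¹⁻¹, M.AG_conj hc.inv hσ' hy, w, hw, ?_, by group⟩
      have h := hyI.conj hc.inv
      have hP : sieP (pairP m).1 (pairP m).2 =
          sieP (Fin.ofNat 256 (2 ^ i)) (Fin.ofNat 256 (2 ^ a)) := by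
        refine O_ext (sieP_mem _ _) (sieP_mem _ _) fun j => ?_
        have hl1 := hlowbit i hi
        have hl2 := hlowbit a ha
        rw [sieP_apply (p := (pairP m).1) (w := (pairP m).2) (pair_facts m hm).1,
          sieP_apply (p := (Fin.ofNat 256 (2 ^ i) : V8)) (w := (Fin.ofNat 256 (2 ^ a) : V8))
            ⟨(low_bl _).1 hl1, (low_vadd hl1 hl2).2⟩, he j]
      rw [hP, ← hpt, ← hwe, ← wperm_apply hwok,
        ← O_sieP (wperm_mem_O _) (sieOK_pt (low_vadd hw (show Low pt by decide)).2)] at h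
      simpa [mul_assoc] using h
    obtain ⟨y, hy, w, hw, hyI, rfl⟩ := pre k hk a ha ea x hx hI
    obtain ⟨y', hy', w', hw', hyI', rfl⟩ := pre l hl b hb eb x' hx' hI'
    have h := M.pt_comm W hw hw' hy hy' hyI hyI'
    calc c * y * c⁻¹ * (c * y' * c⁻¹) = c * (y * y') * c⁻¹ := by group
      _ = c * y' * c⁻¹ * (c * y * c⁻¹) := by rw [h]; group

omit W

omit M in
theorem card_fix : Nat.card (oStab [8, 4, 2, 1]) ≤ 64 := by
  obtain ⟨hn, hb⟩ := opts_fix
  have s1 := oStab_step (b := 16) (by decide) [8, 4, 2, 1]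
  have s2 := oStab_step (b := 32) (by decide) [16, 8, 4, 2, 1]
  have s3 := oStab_step (b := 64) (by decide) [32, 16, 8, 4, 2, 1]
  have s4 := oStab_step (b := 128) (by decide) [64, 32, 16, 8, 4, 2, 1]
  rw [oStab_bot hb, Subgroup.card_bot, Nat.mul_one] at s4
  have := s1.trans (Nat.mul_le_mul le_rfl (s2.trans (Nat.mul_le_mul le_rfl
    (s3.trans (Nat.mul_le_mul le_rfl s4)))))
  simp only [← Nat.mul_assoc] at this hn
  omega

omit M in
theorem topW_fix {t : ℕ} : wperm (topW t) ∈ oStab [8, 4, 2, 1] := by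
  refine list_prod_mem fun π hπ => ?_
  obtain ⟨p, hp, rfl⟩ := List.mem_map.1 hπ
  obtain ⟨k, hk, hk'⟩ := List.mem_filterMap.1 hp
  have hk6 := List.mem_range.1 hk
  split at hk'
  · obtain rfl := Option.some.inj hk'
    obtain ⟨hok, -, -, hfix⟩ := pair_facts k hk6
    refine mem_oStab (sieP_mem _ _) _ fun v hv => ?_
    rw [sieP_apply (p := (pairP k).1) (w := (pairP k).2) hok]
    simp only [List.mem_cons, List.not_mem_nil, or_false] at hv
    rcases hv with rfl | rfl | rfl | rfl
    · exact hfix 8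
    · exact hfix 4
    · exact hfix 2
    · exact hfix 1
  · cases hk'

omit M in
theorem fix_top {π : Perm V8} (hπ : π ∈ oStab [8, 4, 2, 1]) : ∃ t < 64, π = wperm (topW t) := by
  classical
  let F : Fin 64 → oStab [8, 4, 2, 1] := fun t => ⟨wperm (topW t.val), topW_fix⟩
  have hF : Function.Injective F := by
    intro a b h
    have h' : wperm (topW a.val) = wperm (topW b.val) := congrArg Subtype.val h
    have hw : ∀ t, WordOK (topW t) := fun t => by
      simp only [WordOK, List.all_eq_true, decide_eq_true_eq]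
      intro p hp
      obtain ⟨k, hk, hk'⟩ := List.mem_filterMap.1 hp
      split at hk'
      · obtain rfl := Option.some.inj hk'
        exact (pair_facts k (List.mem_range.1 hk)).1
      · cases hk'
    have e : [wap (topW a.val) 16, wap (topW a.val) 32, wap (topW a.val) 64, wap (topW a.val) 128] =
        [wap (topW b.val) 16, wap (topW b.val) 32, wap (topW b.val) 64, wap (topW b.val) 128] := by
      simp only [← wperm_apply (hw _), h']
    exact Fin.ext (List.inj_on_of_nodup_map top_nodup (List.mem_range.2 a.isLt)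
      (List.mem_range.2 b.isLt) e)
  have hc : Nat.card (oStab [8, 4, 2, 1]) ≤ Nat.card (Fin 64) := by
    rw [Nat.card_fin]; exact card_fix
  have hb := (Nat.bijective_iff_injective_and_card F).2
    ⟨hF, le_antisymm (Nat.card_le_card_of_injective F hF) hc⟩
  obtain ⟨t, ht⟩ := hb.2 ⟨π, hπ⟩
  exact ⟨t.val, t.isLt, (congrArg Subtype.val ht).symm⟩

theorem AG_image {x : G} (hx : x ∈ AG Q f) : ∃ t < 64, Img ρ x (wperm (topW t)) := by
  have hC := M.AG_le hx
  have hI := Img.mk' (ρ := ρ) hC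
  obtain ⟨t, ht, he⟩ := fix_top (π := ρ ⟨x, hC⟩) (mem_oStab (M.img_O hI) _ fun v hv => by
    refine M.AG_fix hx hI ?_
    simp only [List.mem_cons, List.not_mem_nil, or_false] at hv
    rcases hv with rfl | rfl | rfl | rfl <;> decide)
  exact ⟨t, ht, he ▸ hI⟩

include W

theorem AG_gen (hgood : GoodFam Q f ρ) :
    (∀ a ∈ AG Q f, ∀ b ∈ AG Q f, a * b = b * a) ∧ ∀ a ∈ AG Q f, a * a = 1 := by
  choose! x hxA hxI hx2 using fun k (hk : k < 6) => M.exists_gen W hk
  have lc : ∀ q ∈ Q, Low (f q) → ∀ a ∈ AG Q f, Commute q a := fun q hq hl a ha =>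
    (mem_AG.1 ha q hq hl).symm
  have dec : ∀ a ∈ AG Q f, ∃ l : List ℕ, (∀ k ∈ l, k < 6) ∧ ∃ q ∈ Q, Low (f q) ∧
      a = (l.map x).prod * q := by
    intro a ha
    obtain ⟨t, -, hI⟩ := M.AG_image ha
    let l : List ℕ := (List.range 6).filter fun k => t.testBit k
    have hl : ∀ k ∈ l, k < 6 := fun k hk => List.mem_range.1 (List.mem_filter.1 hk).1
    have key : ∀ l : List ℕ, (∀ k ∈ l, k < 6) →
        Img ρ (l.map x).prod ((l.map pairP).map fun p => sieP p.1 p.2).prod ∧
          (l.map x).prod ∈ AG Q f := by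
      intro l
      induction l with
      | nil => exact fun _ => ⟨Img.one, one_mem _⟩
      | cons k l ih =>
        intro h
        obtain ⟨h1, h2⟩ := ih fun j hj => h j (List.mem_cons_of_mem _ hj)
        have hk := h k List.mem_cons_self
        simp only [List.map_cons, List.prod_cons]
        exact ⟨(hxI k hk).mul h1, mul_mem (hxA k hk) h2⟩
    obtain ⟨hP, hPA⟩ := key l hl
    have e : ((l.map pairP).map fun p => sieP p.1 p.2).prod = wperm (topW t) := by
      rw [wperm, show topW t = l.map pairP from ?_]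
      show List.filterMap _ _ = List.map _ (List.filter _ _)
      rw [← List.filterMap_eq_map, List.filterMap_filter]
      rfl
    rw [e] at hP
    obtain ⟨q, hq, hql, he⟩ := M.AG_diff hPA ha hP hI
    exact ⟨l, hl, q, hq, hql, he⟩
  have genc : ∀ k < 6, ∀ b ∈ AG Q f, Commute (x k) b := by
    intro k hk b hb
    obtain ⟨l, hl, q, hq, hql, rfl⟩ := dec b hb
    refine Commute.mul_right (Commute.list_prod_right _ _ fun y hy => ?_)
      (lc q hq hql _ (hxA k hk)).symm
    obtain ⟨j, hj, rfl⟩ := List.mem_map.1 hy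
    exact M.gen_comm W hgood hk (hl j hj) (hxA k hk) (hxA j (hl j hj)) (hxI k hk)
      (hxI j (hl j hj))
  have comm : ∀ a ∈ AG Q f, ∀ b ∈ AG Q f, a * b = b * a := by
    intro a ha b hb
    obtain ⟨l, hl, q, hq, hql, rfl⟩ := dec a ha
    refine (Commute.mul_left (Commute.list_prod_left _ _ fun y hy => ?_) (lc q hq hql b hb)).eq
    obtain ⟨j, hj, rfl⟩ := List.mem_map.1 hy
    exact genc j (hl j hj) b hb
  refine ⟨comm, fun a ha => ?_⟩
  obtain ⟨l, hl, q, hq, hql, rfl⟩ := dec a ha
  have hP : (l.map x).prod ∈ AG Q f ∧ (l.map x).prod * (l.map x).prod = 1 := by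
    clear ha
    induction l with
    | nil => exact ⟨one_mem _, one_mul 1⟩
    | cons k l ih =>
      obtain ⟨h1, h2⟩ := ih fun j hj => hl j (List.mem_cons_of_mem _ hj)
      have hk := hl k List.mem_cons_self
      simp only [List.map_cons, List.prod_cons]
      refine ⟨mul_mem (hxA k hk) h1, ?_⟩
      calc x k * (l.map x).prod * (x k * (l.map x).prod)
          = x k * ((l.map x).prod * x k) * (l.map x).prod := by group
        _ = x k * x k * ((l.map x).prod * (l.map x).prod) := by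
            rw [← comm _ (hxA k hk) _ h1]; group
        _ = 1 := by rw [hx2 k hk, h2, one_mul]
  calc (l.map x).prod * q * ((l.map x).prod * q)
      = (l.map x).prod * (q * (l.map x).prod) * q := by group
    _ = (l.map x).prod * (l.map x).prod * (q * q) := by rw [(lc q hq hql _ hP.1).eq]; group
    _ = 1 := by rw [hP.2, M.sq_zp hq, (low_bl _).1 hql, zp_false, one_mul]

end Model

theorem twist_facts : qb 136 = true ∧ tr 136 pt = pt ∧ tr 136 128 = 8 ∧ tr 136 2 = 2 ∧
    tr 136 4 = 4 ∧ (∀ v : Fin 16, sie 2 4 (Fin.ofNat 256 v.val) = Fin.ofNat 256 v.val) ∧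
    ∀ v : Fin 16, sie 2 4 (tr 136 (Fin.ofNat 256 v.val)) = tr 136 (Fin.ofNat 256 v.val) := by
  decide +kernel

namespace Model

variable {G : Type*} [Group G] [Finite G] {z : G} {Q : Subgroup G} {f : G → V8}
  {ρ : Cz z →* Perm V8} (M : Model z Q f ρ)

include M

/-- Coordinates in which the group is abelian. -/
theorem exists_good : ∃ (f' : G → V8) (ρ' : Cz z →* Perm V8), Model z Q f' ρ' ∧
    (∃ u g, Swap z Q f' u g) ∧ GoodFam Q f' ρ' := by
  obtain ⟨u, g, W⟩ := M.exists_Swap
  obtain ⟨y, x, ⟨hy2, hy, hyu, fix2⟩, w, hw, hx, hx', hx2, hxy⟩ := M.one_family W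
  obtain ⟨hq136, tpt, t128, t2, t4, fixU, fixU'⟩ := twist_facts
  have hcomm : x * y = y * x := by
    nth_rw 1 [← hxy]
    group
  have h24 : SieOK (2, 4) := by decide +kernel
  rcases hw with rfl | rfl
  · refine ⟨f, ρ, M, ⟨u, g, W⟩, x, y, mem_AG.2 fun q hq hl => ?_, mem_AG.2 fun q hq hl => ?_,
      hx, hy, hcomm⟩
    · have h := M.D_comm W hx hx' (by decide +kernel) q hq (low_vadd hl (show Low pt by decide)).2
      rw [(low_vadd hl (show Low 8 by decide)).2, M.up_false W, mul_one] at h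
      exact mul_inv_eq_iff_eq_mul.1 h
    · refine fix2 q hq ?_
      rw [sieP_apply h24]
      have := fixU ⟨(f q).val, hl⟩
      rwa [show Fin.ofNat 256 (f q).val = f q from Fin.ext (by simp)] at this
  · have hτ := trP_mem hq136
    have M' := M.recoord hτ
    have hI : ∀ {a : G} {π : Perm V8}, Img ρ a π →
        Img ((MulAut.conj (trP 136)).toMonoidHom.comp ρ) a (trP 136 * π * (trP 136)⁻¹) := by
      rintro a π ⟨h, rfl⟩
      exact ⟨h, rfl⟩
    refine ⟨_, _, M', ⟨u, g, ⟨M'.Nc_of_f W.nc.1 ?_ ?_, ?_, W.gz, W.zg⟩⟩, x, y,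
      mem_AG.2 fun q hq hl => ?_, mem_AG.2 fun q hq hl => ?_, ?_, ?_, hcomm⟩
    · show qb (trP 136 (f u)) = false
      rw [O_q hτ, W.fu]; exact pt_facts.1
    · show trP 136 (f u) ≠ 0
      rw [W.fu]; show tr 136 pt ≠ 0; rw [tpt]; exact pt_facts.2.1
    · show trP 136 (f u) = pt
      rw [W.fu]; exact tpt
    · have hl' : Low (trP 136 (f q)) := hl
      have hb : bl (f q) pt = false ∧ bl (f q) 128 = false := by
        rw [← O_bl hτ (f q) pt, ← O_bl hτ (f q) 128, show trP 136 pt = pt from tpt,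
          show trP 136 128 = 8 from t128]
        exact ⟨(low_vadd hl' (show Low pt by decide)).2, (low_vadd hl' (show Low 8 by decide)).2⟩
      have h := M.D_comm W hx hx' (by decide +kernel) q hq hb.1
      rw [hb.2, M.up_false W, mul_one] at h
      exact mul_inv_eq_iff_eq_mul.1 h
    · refine fix2 q hq ?_
      rw [sieP_apply h24]
      have hl' : Low (trP 136 (f q)) := hl
      have := fixU' ⟨(trP 136 (f q)).val, hl'⟩
      rw [show Fin.ofNat 256 (trP 136 (f q)).val = trP 136 (f q) from Fin.ext (by simp)] at this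
      have e : tr 136 (trP 136 (f q)) = f q := tr_tr 136 (f q)
      rwa [e] at this
    · have h := hI hx
      rwa [O_sieP hτ (sieOK_pt (by decide +kernel)), show trP 136 pt = pt from tpt,
        show trP 136 128 = 8 from t128] at h
    · have h := hI hy
      rwa [O_sieP hτ h24, show trP 136 2 = 2 from t2, show trP 136 4 = 4 from t4] at h

end Model

end CfsgLib.Small.ConTwo
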