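/-!
Words moving four base elements.
-/

set_option autoImplicit false

namespace CfsgLib.Small.ConTwo.Code

/-- The base. -/
def chainBase : List Nat := [2, 4, 8, 16]

/-- For each level, words fixing the earlier base elements. -/
def chainW : List (List (List Nat)) := [
  [[],
    [6],
    [0, 1],
    [0, 1, 7],
    [0],
    [0, 6],
    [0, 1, 2, 3],
    [0, 1, 2, 3, 8],
    [0, 2, 0],
    [0, 2, 0, 6],
    [0, 1, 2],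
    [0, 1, 2, 7],
    [0, 2],
    [0, 2, 6],
    [0, 1, 2, 3, 4, 5],
    [0, 1, 2, 3, 4, 5, 9],
    [0, 2, 0, 4, 5],
    [0, 2, 0, 4, 5, 6],
    [0, 1, 2, 4, 2],
    [0, 1, 2, 4, 2, 7],
    [0, 2, 4, 2],
    [0, 2, 4, 2, 6],
    [0, 1, 2, 3, 4],
    [0, 1, 2, 3, 4, 8],
    [0, 2, 0, 4],
    [0, 2, 0, 4, 6],
    [0, 1, 2, 4],
    [0, 1, 2, 4, 7],
    [0, 2, 4],
    [0, 2, 4, 6]],
  [[],
    [7],
    [1],
    [1, 7],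
    [2, 3],
    [2, 3, 8],
    [1, 2, 3],
    [1, 2, 3, 8],
    [2],
    [2, 7],
    [1, 2],
    [1, 2, 7],
    [2, 3, 4, 5],
    [2, 3, 4, 5, 9],
    [1, 2, 3, 4, 5],
    [1, 2, 3, 4, 5, 9],
    [2, 4, 2],
    [2, 4, 2, 7],
    [1, 2, 4, 2],
    [1, 2, 4, 2, 7],
    [2, 3, 4],
    [2, 3, 4, 8],
    [1, 2, 3, 4],
    [1, 2, 3, 4, 8],
    [2, 4],
    [2, 4, 7],
    [1, 2, 4],
    [1, 2, 4, 7]],
  [[],
    [8],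
    [1, 3, 1, 3],
    [1, 3, 1, 3, 8],
    [3],
    [3, 8],
    [1, 3, 1],
    [1, 3, 1, 8],
    [4, 5],
    [4, 5, 9],
    [1, 3, 1, 3, 4, 5],
    [1, 3, 1, 3, 4, 5, 9],
    [3, 4, 5],
    [3, 4, 5, 9],
    [1, 3, 1, 4, 5],
    [1, 3, 1, 4, 5, 9],
    [4],
    [4, 8],
    [1, 3, 1, 3, 4],
    [1, 3, 1, 3, 4, 8],
    [3, 4],
    [3, 4, 8],
    [1, 3, 1, 4],
    [1, 3, 1, 4, 8]],
  [[],
    [9],
    [0, 1, 3, 5, 3, 1, 0, 5],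
    [0, 1, 3, 5, 3, 1, 0, 5, 9],
    [3, 5, 3, 5],
    [3, 5, 3, 5, 9],
    [1, 3, 5, 3, 1, 5],
    [1, 3, 5, 3, 1, 5, 9],
    [5],
    [5, 9],
    [0, 1, 3, 5, 3, 1, 0],
    [0, 1, 3, 5, 3, 1, 0, 9],
    [3, 5, 3],
    [3, 5, 3, 9],
    [1, 3, 5, 3, 1],
    [1, 3, 5, 3, 1, 9]]]

end CfsgLib.Small.ConTwo.Code
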