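import Cfsg.Agent.Lib.Small.ConTwo.ABits
import Cfsg.Agent.Lib.Small.ConTwo.AData

/-!
The sign pattern of the module and the unions of orbits that can be the class of `z`.
-/

set_option autoImplicit false
set_option maxRecDepth 100000
set_option maxHeartbeats 0

namespace CfsgLib.Small.ConTwo.Code

/-- The positions where a generator may introduce a sign. -/
def zm (g m : ℕ) : ℕ := if g < 6 then ((m / 32) % 64) <<< (6 * g) else 0

/-- The action of a generator with signs `τ`. -/
def act (τ g m : ℕ) : ℕ := app (cols.getD g []) m ^^^ (par 36 τ (zm g m)).toNat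

/-- A word acting symbolically. -/
def sym (w : List ℕ) (s : ℕ × ℕ) : ℕ × ℕ :=
  w.foldl (fun s g => (app (cols.getD g []) s.1, s.2 ^^^ zm g s.1)) s

/-- A word acting with signs. -/
def run (τ : ℕ) (w : List ℕ) (m : ℕ) : ℕ := w.foldl (fun x g => act τ g x) m

theorem zm_xor (g a b : ℕ) : zm g (a ^^^ b) = zm g a ^^^ zm g b := by
  unfold zm
  split
  · refine Nat.eq_of_testBit_eq fun i => ?_
    simp only [Nat.testBit_xor, Nat.testBit_shiftLeft, show (64 : ℕ) = 2 ^ 6 by norm_num,
      Nat.testBit_mod_two_pow, show (32 : ℕ) = 2 ^ 5 by norm_num, Nat.testBit_div_two_pow]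
    cases decide (i ≥ 6 * g) <;> cases decide (i - 6 * g < 6) <;> simp
  · exact (Nat.xor_self 0).symm

theorem toNat_xor : ∀ a b : Bool, (a ^^ b).toNat = a.toNat ^^^ b.toNat := by decide

theorem act_xor (τ g a b : ℕ) : act τ g (a ^^^ b) = act τ g a ^^^ act τ g b := by
  simp only [act, app_xor, zm_xor, par_xor_right, toNat_xor]
  ac_rfl

theorem zm_one : ∀ g, zm g 1 = 0 := fun g => by simp [zm]

theorem cols_one : ∀ g < 10, app (cols.getD g []) 1 = 1 := by decide +kernel

theorem act_toNat (τ : ℕ) {g : ℕ} (hg : g < 10) (b : Bool) : act τ g b.toNat = b.toNat := by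
  cases b
  · simp [act, app_zero, zm, par_zero]
  · show app (cols.getD g []) 1 ^^^ (par 36 τ (zm g 1)).toNat = 1
    rw [cols_one g hg, zm_one, par_zero]
    rfl

theorem run_sym (τ : ℕ) : ∀ (w : List ℕ) (m mask : ℕ), (∀ g ∈ w, g < 10) →
    run τ w (m ^^^ (par 36 τ mask).toNat) =
      (sym w (m, mask)).1 ^^^ (par 36 τ (sym w (m, mask)).2).toNat
  | [], _, _, _ => rfl
  | g :: w, m, mask, h => by
    simp only [run, sym, List.foldl_cons]
    rw [act_xor, act_toNat τ (h g List.mem_cons_self)]
    have := run_sym τ w (app (cols.getD g []) m) (mask ^^^ zm g m)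
      fun x hx => h x (List.mem_cons_of_mem _ hx)
    simp only [run, sym] at this
    rw [← this, par_xor_right, toNat_xor, act, Nat.xor_assoc]
    congr 2
    exact Nat.xor_comm _ _

/-- The equations on the signs. -/
def eqns : List ℕ :=
  (relW.flatMap fun w => (List.range 6).map fun k => (sym w (2 ^ (5 + k), 0)).2) ++
    gauge.map fun p => 2 ^ p

theorem rel_fix : relW.all (fun w => w.all (fun g => decide (g < 10)) &&
    (List.range 6).all fun k => Nat.beq (sym w (2 ^ (5 + k), 0)).1 (2 ^ (5 + k))) = true := by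
  decide +kernel

theorem cert_ok : (List.range 36).all (fun i =>
    Nat.beq ((cert.getD i []).foldl (fun s j => s ^^^ eqns.getD j 0) 0)
      (2 ^ i ^^^ (if beta.testBit i then 2 ^ betaBit else 0))) = true := by
  decide +kernel

theorem par_two_pow : ∀ {n : ℕ} (a i : ℕ), i < n → par n a (2 ^ i) = a.testBit i
  | n + 1, a, 0, _ => by simp [par, par_zero, Nat.testBit_zero]
  | n + 1, a, i + 1, h => by
    have h2 : 2 ^ (i + 1) % 2 = 0 := by simp [pow_succ]
    have h3 : 2 ^ (i + 1) / 2 = 2 ^ i := by simp [pow_succ]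
    simp only [par, h2, h3, par_two_pow (n := n) (a / 2) i (by omega), Nat.testBit_succ]
    simp

theorem par_fold (τ : ℕ) : ∀ (l : List ℕ) (s : ℕ), (∀ j ∈ l, par 36 τ (eqns.getD j 0) = false) →
    par 36 τ (l.foldl (fun s j => s ^^^ eqns.getD j 0) s) = par 36 τ s
  | [], _, _ => rfl
  | j :: l, s, h => by
    rw [List.foldl_cons, par_fold τ l _ (fun x hx => h x (List.mem_cons_of_mem _ hx)),
      par_xor_right, h j List.mem_cons_self, Bool.xor_false]

/-- There are only two sign patterns. -/
theorem tau_cases {τ : ℕ} (hτ : τ < 2 ^ 36)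
    (hrel : ∀ w ∈ relW, ∀ k < 6, run τ w (2 ^ (5 + k)) = 2 ^ (5 + k))
    (hgauge : ∀ p ∈ gauge, τ.testBit p = false) : τ = 0 ∨ τ = beta := by
  have heq : ∀ e ∈ eqns, par 36 τ e = false := by
    intro e he
    rcases List.mem_append.1 he with h | h
    · obtain ⟨w, hw, hk'⟩ := List.mem_flatMap.1 h
      obtain ⟨k, hk, rfl⟩ := List.mem_map.1 hk'
      have hf := List.all_eq_true.1 rel_fix w hw
      simp only [Bool.and_eq_true, List.all_eq_true, decide_eq_true_eq, List.mem_range] at hf
      obtain ⟨hg, hf⟩ := hf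
      have hf' := Nat.eq_of_beq_eq_true (hf k (List.mem_range.1 hk))
      have h1 := run_sym τ w (2 ^ (5 + k)) 0 hg
      rw [par_zero, Bool.toNat_false, Nat.xor_zero, hrel w hw k (List.mem_range.1 hk), hf'] at h1
      cases hb : par 36 τ (sym w (2 ^ (5 + k), 0)).2
      · rfl
      · rw [hb] at h1
        have h2 := congrArg (fun x : ℕ => x ^^^ 2 ^ (5 + k)) h1
        simp [Nat.xor_comm _ (2 ^ (5 + k))] at h2
    · obtain ⟨p, hp, rfl⟩ := List.mem_map.1 h
      have hp36 : p < 36 := (by decide +kernel : ∀ p ∈ gauge, p < 36) p hp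
      rw [par_two_pow τ p hp36]
      exact hgauge p hp
  have hbit : ∀ i < 36, τ.testBit i = (beta.testBit i && τ.testBit betaBit) := by
    intro i hi
    have hc := Nat.eq_of_beq_eq_true (List.all_eq_true.1 cert_ok i (List.mem_range.2 hi))
    have h := par_fold τ (cert.getD i []) 0 fun j _ => by
      rw [List.getD_eq_getElem?_getD]
      cases hj : eqns[j]?
      · exact par_zero 36 τ
      · exact heq _ (List.mem_of_getElem? hj)
    rw [hc, par_xor_right, par_zero, par_two_pow τ i hi] at h
    cases hb : beta.testBit i <;> rw [hb] at h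
    · simpa [par_zero] using h
    · rw [if_pos rfl, par_two_pow τ betaBit (by decide)] at h
      simpa [bne_eq_false_iff_eq] using h
  cases hs : τ.testBit betaBit
  · refine Or.inl (Nat.eq_of_testBit_eq fun i => ?_)
    rcases Nat.lt_or_ge i 36 with hi | hi
    · rw [hbit i hi, hs, Bool.and_false, Nat.zero_testBit]
    · rw [Nat.testBit_lt_two_pow (lt_of_lt_of_le hτ (Nat.pow_le_pow_right (by norm_num) hi)),
        Nat.zero_testBit]
  · refine Or.inr (Nat.eq_of_testBit_eq fun i => ?_)
    rcases Nat.lt_or_ge i 36 with hi | hi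
    · rw [hbit i hi, hs, Bool.and_true]
    · rw [Nat.testBit_lt_two_pow (lt_of_lt_of_le hτ (Nat.pow_le_pow_right (by norm_num) hi)),
        Nat.testBit_lt_two_pow (lt_of_lt_of_le (by decide +kernel : beta < 2 ^ 36)
          (Nat.pow_le_pow_right (by norm_num) hi))]

/-- One step towards the representative. -/
def stepRep (τ stp m : ℕ) : ℕ :=
  let e := entry 4 stp m
  if e = 15 then m else act τ e m

/-- Several steps. -/
def toRep (τ stp : ℕ) : ℕ → ℕ → ℕ
  | 0, m => m
  | n + 1, m => toRep τ stp n (stepRep τ stp m)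

/-- The table leads to the representatives. -/
def orbOK (τ stp lab : ℕ) (rep : List ℕ) : Bool :=
  (List.range 2048).all fun m =>
    (decide (entry 4 stp m < 10) || Nat.beq (entry 4 stp m) 15) &&
      (decide (entry 4 lab m < rep.length) &&
        Nat.beq (toRep τ stp 11 m) (rep.getD (entry 4 lab m) 0))

theorem orbZ : orbOK 0 stpZ labZ repZ = true := by decide +kernel

theorem orbB : orbOK beta stpB labB repB = true := by decide +kernel

theorem act_lt_check : (List.range 10).all (fun g => (cols.getD g []).all fun c =>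
    decide (c < 2048)) = true := by decide +kernel

theorem app_lt : ∀ (cs : List ℕ) (m : ℕ), (∀ c ∈ cs, c < 2048) → app cs m < 2048
  | [], _, _ => by simp [app]
  | c :: cs, m, h => by
    refine xor_lt ?_ (app_lt cs _ fun x hx => h x (List.mem_cons_of_mem _ hx))
    split
    · exact h c List.mem_cons_self
    · norm_num

theorem act_lt (τ : ℕ) {g : ℕ} (hg : g < 10) (m : ℕ) : act τ g m < 2048 := by
  have h := List.all_eq_true.1 act_lt_check g (List.mem_range.2 hg)
  simp only [List.all_eq_true, decide_eq_true_eq] at h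
  exact xor_lt (app_lt _ m h) (by cases par 36 τ (zm g m) <;> simp)

/-- Invariant properties are unions of orbits. -/
theorem union_of {τ stp lab : ℕ} {rep : List ℕ} (h : orbOK τ stp lab rep = true) {P : ℕ → Prop}
    (hP : ∀ g < 10, ∀ m < 2048, (P (act τ g m) ↔ P m)) :
    ∀ m < 2048, (P m ↔ P (rep.getD (entry 4 lab m) 0)) ∧ entry 4 lab m < rep.length := by
  simp only [orbOK, List.all_eq_true, List.mem_range, Bool.and_eq_true, Bool.or_eq_true,
    decide_eq_true_eq] at h
  have hs : ∀ n m, m < 2048 → toRep τ stp n m < 2048 ∧ (P m ↔ P (toRep τ stp n m)) := by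
    intro n
    induction n with
    | zero => exact fun m hm => ⟨hm, Iff.rfl⟩
    | succ n ih =>
      intro m hm
      have h1 : stepRep τ stp m < 2048 ∧ (P m ↔ P (stepRep τ stp m)) := by
        unfold stepRep
        dsimp only
        split
        · exact ⟨hm, Iff.rfl⟩
        · rename_i hne
          have hg : entry 4 stp m < 10 := (h m hm).1.resolve_right
            fun e => hne (Nat.eq_of_beq_eq_true e)
          exact ⟨act_lt τ hg m, (hP _ hg m hm).symm⟩
      obtain ⟨a, b⟩ := ih _ h1.1
      exact ⟨a, h1.2.trans b⟩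
  intro m hm
  refine ⟨?_, (h m hm).2.1⟩
  rw [← Nat.eq_of_beq_eq_true (h m hm).2.2]
  exact (hs 11 m hm).2

/-- Membership in a union of orbits. -/
def inSel (lab sel m : ℕ) : Bool := sel.testBit (entry 4 lab m)

/-- The size of a union of orbits. -/
def selCount (lab sel : ℕ) : ℕ := ((List.range 2048).filter fun m => inSel lab sel m).length

/-- The members of a union whose sum with `w` is a member. -/
def pairs (lab sel w : ℕ) : ℕ :=
  ((List.range 2048).filter fun m => inSel lab sel m && inSel lab sel (m ^^^ w)).length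

/-- Primes dividing no order of an automorphism of the module. -/
def bigPrimes : List ℕ := [13, 19, 71, 97, 103, 311, 337, 479, 619, 1151, 1319, 1459, 1907]

/-- The outcomes for a union of orbits containing `z` and `zu`. -/
def verdict (lab sel : ℕ) (wit : List ℕ) : Bool :=
  (bigPrimes.any fun p => Nat.beq (selCount lab sel % p) 0) ||
    ((List.range 2048).all fun m => !inSel lab sel m || decide (m < 32)) ||
    ((List.range 2048).all fun m => inSel lab sel m || Nat.beq m 0) ||
    wit.any fun w => inSel lab sel w && !Nat.beq (pairs lab sel w) (pairs lab sel 1)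

/-- The selections considered. -/
def admissible (lab sel : ℕ) : Bool :=
  inSel lab sel 1 && inSel lab sel 3 && !inSel lab sel 0

end CfsgLib.Small.ConTwo.Code
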