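import Mathlib

/-!
Conjugation orbits of elements under a subgroup, and primes dividing no order of an automorphism
of an elementary abelian group of order `2 ^ n`.
-/

set_option autoImplicit false
set_option linter.style.haveILetI false

namespace CfsgLib.Small.ConTwo

variable {G : Type*} [Group G]

/-- The conjugates of an element by a subgroup. -/
def cOrb (K : Subgroup G) (a : G) : Set G := {c | ∃ k ∈ K, k * a * k⁻¹ = c}

theorem orbit_stab (K : Subgroup G) (a : G) :
    ((K ⊓ Subgroup.centralizer {a}).subgroupOf K).index = Nat.card (cOrb K a) := by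
  letI : MulAction K G := MulAction.compHom G ((MulAut.conj (G := G)).comp K.subtype)
  have hsmul : ∀ (k : K) (c : G), k • c = (k : G) * c * (k : G)⁻¹ := fun k c => rfl
  have hs : MulAction.stabilizer K a = (K ⊓ Subgroup.centralizer {a}).subgroupOf K := by
    ext k
    rw [MulAction.mem_stabilizer_iff, hsmul, Subgroup.mem_subgroupOf, Subgroup.mem_inf,
      Subgroup.mem_centralizer_singleton_iff]
    exact ⟨fun h => ⟨k.2, mul_inv_eq_iff_eq_mul.1 h⟩, fun h => mul_inv_eq_iff_eq_mul.2 h.2⟩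
  have ho : MulAction.orbit K a = cOrb K a := by
    ext c
    constructor
    · rintro ⟨k, rfl⟩
      exact ⟨k, k.2, (hsmul k a).symm⟩
    · rintro ⟨k, hk, rfl⟩
      exact ⟨⟨k, hk⟩, hsmul _ _⟩
  rw [← hs, MulAction.index_stabilizer, ← Nat.card_coe_set_eq, ho]

theorem card_orbit_mul (K : Subgroup G) (a : G) :
    Nat.card (cOrb K a) * Nat.card (K ⊓ Subgroup.centralizer {a} : Subgroup G) = Nat.card K := by
  rw [← orbit_stab, ← Nat.card_congr (Subgroup.subgroupOfEquivOfLe
    (inf_le_left : K ⊓ Subgroup.centralizer {a} ≤ K)).toEquiv, mul_comm,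
    Subgroup.card_mul_index]

/-- A prime dividing the size of an orbit under the normaliser of a self-centralising elementary
abelian subgroup of order `2 ^ n` divides some `2 ^ i - 1` with `i ≤ n`. -/
theorem no_prime [Finite G] {A : Subgroup G} {n : ℕ} (hcard : Nat.card A = 2 ^ n)
    (hC : ∀ c, (∀ a ∈ A, c * a = a * c) → c ∈ A) (hcomm : ∀ a ∈ A, ∀ b ∈ A, a * b = b * a)
    {p : ℕ} (hp : p.Prime) (hp2 : p ≠ 2)
    (hord : ∀ i, 1 ≤ i → i ≤ n → 2 ^ i % p ≠ 1) {a : G} (ha : a ∈ A) :
    ¬ p ∣ Nat.card (cOrb (Subgroup.normalizer (A : Set G)) a) := by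
  intro hdvd
  haveI : Fact p.Prime := ⟨hp⟩
  set N := Subgroup.normalizer (A : Set G) with hN
  have hle : A.subgroupOf N ≤ (N ⊓ Subgroup.centralizer {a}).subgroupOf N := fun x hx =>
    ⟨x.2, Subgroup.mem_centralizer_singleton_iff.2 (hcomm _ hx _ ha)⟩
  have h1 := Subgroup.index_dvd_of_le hle
  rw [orbit_stab] at h1
  have hd : p ∣ Nat.card (N ⧸ A.subgroupOf N) := hdvd.trans h1
  obtain ⟨c, hc⟩ := exists_prime_orderOf_dvd_card' p hd
  obtain ⟨c, rfl⟩ := QuotientGroup.mk_surjective c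
  letI : MulAction N A :=
    { smul := fun k x => ⟨(k : G) * x * (k : G)⁻¹,
        (Subgroup.mem_normalizer_iff.1 k.2 x).1 x.2⟩
      one_smul := fun x => Subtype.ext (by show ((1 : N) : G) * x * ((1 : N) : G)⁻¹ = x; simp)
      mul_smul := fun k l x => Subtype.ext (by
        show ((k * l : N) : G) * x * ((k * l : N) : G)⁻¹ =
          (k : G) * ((l : G) * x * (l : G)⁻¹) * (k : G)⁻¹
        simp [mul_assoc]) }
  let φ : N →* Equiv.Perm A := MulAction.toPermHom N A
  have hker : ∀ k : N, φ k = 1 → (k : G) ∈ A := by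
    intro k hk
    refine hC _ fun x hx => mul_inv_eq_iff_eq_mul.1 ?_
    exact congrArg Subtype.val (Equiv.ext_iff.1 hk ⟨x, hx⟩)
  have hAφ : ∀ k : N, (k : G) ∈ A → φ k = 1 := fun k hk => Equiv.ext fun x => Subtype.ext (by
    show (k : G) * x * (k : G)⁻¹ = x
    rw [hcomm _ hk _ x.2, mul_inv_cancel_right])
  have hne : φ c ≠ 1 := by
    intro h
    have : (QuotientGroup.mk c : N ⧸ A.subgroupOf N) = 1 :=
      (QuotientGroup.eq_one_iff c).2 (hker c h)
    rw [this, orderOf_one] at hc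
    exact hp.one_lt.ne hc
  have hpow : φ c ^ p = 1 := by
    rw [← map_pow]
    refine hAφ _ (show ((c ^ p : N) : G) ∈ A from ?_)
    have h := pow_orderOf_eq_one (QuotientGroup.mk c : N ⧸ A.subgroupOf N)
    rw [hc, ← QuotientGroup.mk_pow] at h
    exact Subgroup.mem_subgroupOf.1 ((QuotientGroup.eq_one_iff (c ^ p)).1 h)
  have hP : IsPGroup p (Subgroup.zpowers (φ c)) :=
    IsPGroup.of_card (n := 1) (by
      rw [Nat.card_zpowers, pow_one]; exact orderOf_eq_prime hpow hne)
  have hmod := hP.card_modEq_card_fixedPoints A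
  let Fx : Subgroup G := A ⊓ Subgroup.centralizer {(c : G)}
  have hfix : Nat.card (MulAction.fixedPoints (Subgroup.zpowers (φ c)) A) = Nat.card Fx := by
    refine Nat.card_congr
      { toFun := fun x => ⟨x.1, x.1.2, Subgroup.mem_centralizer_singleton_iff.2 ?_⟩
        invFun := fun x => ⟨⟨x.1, x.2.1⟩, ?_⟩
        left_inv := fun x => rfl
        right_inv := fun x => rfl }
    · have h := x.2 ⟨φ c, Subgroup.mem_zpowers _⟩
      have h' : (c : G) * (x.1 : G) * (c : G)⁻¹ = x.1 := congrArg Subtype.val h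
      exact (mul_inv_eq_iff_eq_mul.1 h').symm
    · rintro ⟨ψ, hψ⟩
      obtain ⟨j, rfl⟩ := hψ
      have h0 : φ c ⟨x.1, x.2.1⟩ = ⟨x.1, x.2.1⟩ := Subtype.ext (by
        show (c : G) * (x : G) * (c : G)⁻¹ = x
        rw [← Subgroup.mem_centralizer_singleton_iff.1 x.2.2, mul_inv_cancel_right])
      exact Function.IsFixedPt.perm_zpow h0 j
  rw [hfix, hcard] at hmod
  obtain ⟨d, hdn, hFd⟩ : ∃ d ≤ n, Nat.card Fx = 2 ^ d := by
    have h := Subgroup.card_dvd_of_le (inf_le_left : Fx ≤ A)
    rw [hcard] at h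
    exact (Nat.dvd_prime_pow Nat.prime_two).1 h
  rw [hFd] at hmod
  rcases hdn.lt_or_eq with hlt | rfl
  · have hcop : Nat.Coprime p (2 ^ d) :=
      Nat.Coprime.pow_right d ((Nat.coprime_primes hp Nat.prime_two).2 hp2)
    have h : 2 ^ d * 2 ^ (n - d) ≡ 2 ^ d * 1 [MOD p] := by
      rw [← pow_add, Nat.add_sub_cancel' hdn, mul_one]; exact hmod
    have h' : 2 ^ (n - d) % p = 1 % p :=
      Nat.ModEq.cancel_left_of_coprime (by simpa [Nat.coprime_iff_gcd_eq_one] using hcop) h
    rw [Nat.one_mod_eq_one.2 hp.one_lt.ne'] at h'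
    exact hord (n - d) (by omega) (by omega) h'
  · have he : Fx = A := Subgroup.eq_of_le_of_card_ge inf_le_left (by rw [hFd, hcard])
    refine hne (Equiv.ext fun x => Subtype.ext ?_)
    have hx : (x : G) ∈ Fx := by rw [he]; exact x.2
    show (c : G) * (x : G) * (c : G)⁻¹ = x
    rw [← Subgroup.mem_centralizer_singleton_iff.1 hx.2, mul_inv_cancel_right]

end CfsgLib.Small.ConTwo
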