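import Cfsg.Agent.Lib.Small.ConTwo.AChecks

/-!
The unions of orbits, case by case.
-/

set_option autoImplicit false
set_option maxRecDepth 100000
set_option maxHeartbeats 0

namespace CfsgLib.Small.ConTwo.Code

theorem verdictZ : (List.range 256).all (fun sel =>
    !admissible labZ sel || verdict labZ sel [32, 33]) = true := by
  decide +kernel

theorem verdictB : (List.range 128).all (fun sel =>
    !admissible labB sel || Nat.beq sel goodSel || verdict labB sel [385]) = true := by
  decide +kernel

end CfsgLib.Small.ConTwo.Code
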