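import Cfsg.Agent.Lib.Small.ConTwo.Lower

/-!
The two representatives outside `Q` are not conjugate to each other.
-/

set_option autoImplicit false

namespace CfsgLib.Small.ConTwo

open Equiv

/-- The centraliser of `t` in the centraliser of `z` over a cyclic group of images. -/
def USub {G : Type*} [Group G] {z : G} (ρ : Cz z →* Perm V8) (t : G) (σ : Perm V8) : Subgroup G :=
  ((Subgroup.zpowers σ).comap ρ).map (Cz z).subtype ⊓ Subgroup.centralizer ({t} : Set G)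

/-- Only `z` among its conjugates centralises the subgroup and `t`. -/
def Only {G : Type*} [Group G] (z t : G) (U : Subgroup G) : Prop :=
  ∀ c, (∃ h, h * z * h⁻¹ = c) → c ∈ Cz z → c * t = t * c → (∀ x ∈ U, c * x = x * c) → c = z

namespace Model

variable {G : Type*} [Group G] {z : G} {Q : Subgroup G} {f : G → V8}
  {ρ : Cz z →* Perm V8} (M : Model z Q f ρ)

include M

omit M in
theorem USub_le {t : G} {σ : Perm V8} :
    USub ρ t σ ≤ Cz z ⊓ Subgroup.centralizer ({t} : Set G) := by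
  refine inf_le_inf ?_ le_rfl
  rintro _ ⟨y, -, rfl⟩
  exact y.2

omit M in
theorem mem_USub {t x : G} {π σ : Perm V8} (hx : Img ρ x π) (hπ : π ∈ Subgroup.zpowers σ)
    (hc : x * t = t * x) : x ∈ USub ρ t σ := by
  obtain ⟨h, he⟩ := hx
  exact ⟨⟨⟨x, h⟩, show ρ ⟨x, h⟩ ∈ Subgroup.zpowers σ by rw [he]; exact hπ, rfl⟩,
    Subgroup.mem_centralizer_singleton_iff.2 hc⟩

theorem z_mem_USub {t : G} (ht : t ∈ Cz z) {σ : Perm V8} : z ∈ USub ρ t σ :=
  mem_USub (M.img_q M.z_mem) (one_mem _) (mem_Cz.1 ht).symm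

theorem USub_two {t : G} {σ : Perm V8} (h4 : σ ^ 4 = 1) : IsPGroup 2 (USub ρ t σ) := by
  intro x
  obtain ⟨⟨y, hy, hyx⟩, -⟩ := x.2
  obtain ⟨n, hn⟩ := hy
  change σ ^ n = ρ y at hn
  have hρ : ρ (y ^ 4) = 1 := by
    rw [map_pow, ← hn, ← zpow_natCast, ← zpow_mul, mul_comm, zpow_mul, zpow_natCast, h4, one_zpow]
  have hq : (y : G) ^ 4 ∈ Q := by
    have h := (M.ρ_ker (y ^ 4)).1 hρ
    simpa using h
  refine ⟨4, Subtype.ext ?_⟩
  have hyx' : (y : G) = (x : G) := hyx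
  rw [SubgroupClass.coe_pow, ← hyx', Subgroup.coe_one, show (2 : ℕ) ^ 4 = 4 * (2 * 2) by norm_num,
    pow_mul, pow_mul, pow_two, pow_two, M.sq_zp hq, ← M.zp_xor, Bool.xor_self, zp_false]

/-- A lift of the flip centralising `t`. -/
theorem exists_e {t : G} {l m : List (V8 × V8)} {L : List V8} {B : List (V8 × V8)}
    (D : RepData l L B) {a v0 : V8} (ht : Fn Q f ρ t (wperm l) a) (h2 : t * t = 1)
    (hv : wap l v0 = v0) (hb : bl a v0 = true) (hm : WordOK m) (hc : commB m l = true)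
    (hL : vadd (wap m a) a ∈ L) : ∃ e, Img ρ e (wperm m) ∧ e * t = t * e := by
  obtain ⟨c, hc'⟩ := M.lift m
  have hF := M.Fn_conj ht hc'
  rw [wperm_conj hm D.ok hc, wperm_apply hm] at hF
  obtain ⟨r, hr, he⟩ := M.same_class D ht hF h2 hv hb (by rw [vadd_comm]; exact hL)
  refine ⟨r⁻¹ * c, ?_, ?_⟩
  · have h := (M.img_q (inv_mem hr)).mul hc'
    rwa [one_mul] at h
  · calc r⁻¹ * c * t = r⁻¹ * (c * t * c⁻¹) * c := by group
      _ = t * (r⁻¹ * c) := by rw [← he]; group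

/-- The lift of the flip moves the elements over `pt`. -/
theorem moves_pt {t e c : G} {π σ : Perm V8} {a w : V8} (ht : Fn Q f ρ t π a) (h2 : t * t = 1)
    (he : Img ρ e σ) (het : e * t = t * e) (hcomm : σ * π = π * σ) (hσ : σ pt = pt)
    (hw : vadd w (π w) = pt) (hb : bl a (vadd w (σ w)) = true) (hc : c ∈ Q) (hfc : f c = pt) :
    e * c * e⁻¹ ≠ c := by
  obtain ⟨r, hr, hrf⟩ := M.f_surj w
  have hinv := inv_eq_of_mul_eq_one_right h2
  have hπ := M.img_O ht.1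
  have hσO := M.img_O he
  have htr := M.normal t ht.1.mem r hr
  have her := M.normal e he.mem r hr
  have hfer : f (e * r * e⁻¹) = σ w := by rw [M.img_conj he hr, hrf]
  have hm : t * r * t⁻¹ * r⁻¹ ∈ Q := mul_mem htr (inv_mem hr)
  have hfm : f (t * r * t⁻¹ * r⁻¹) = pt := by
    rw [M.f_mul _ htr _ (inv_mem hr), M.img_conj ht.1 hr, M.f_inv hr, hrf, vadd_comm, hw]
  have hq : r⁻¹ * (e * r * e⁻¹) ∈ Q := mul_mem (inv_mem hr) her
  have hfq : f (r⁻¹ * (e * r * e⁻¹)) = vadd w (σ w) := by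
    rw [M.f_mul _ (inv_mem hr) _ her, M.f_inv hr, hrf, hfer]
  have hπw : π w = vadd w pt := by rw [← hw, vadd_cancel]
  have hfix : π (vadd w (σ w)) = vadd w (σ w) := by
    have h1 : π (σ w) = vadd (σ w) pt := by
      rw [← Perm.mul_apply, ← hcomm, Perm.mul_apply, hπw, O_add hσO, hσ]
    rw [O_add hπ, hπw, h1, vadd_four, vadd_self, vadd_zero]
  have hflip := M.flip_of ht hq (by rw [hfq]; exact hfix) (by rw [hfq]; exact hb)
  have hem : e * (t * r * t⁻¹ * r⁻¹) * e⁻¹ = t * r * t⁻¹ * r⁻¹ * z := by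
    have hrt : r * t * r⁻¹ = t * (t * r * t⁻¹ * r⁻¹) := by
      calc r * t * r⁻¹ = (t * t) * r * t * r⁻¹ := by rw [h2, one_mul]
        _ = t * (t * r * t⁻¹ * r⁻¹) := by rw [hinv]; group
    have h1 : t * (e * (t * r * t⁻¹ * r⁻¹) * e⁻¹) = r * t * z * r⁻¹ := by
      calc t * (e * (t * r * t⁻¹ * r⁻¹) * e⁻¹)
          = t * e * (t * r * t⁻¹ * r⁻¹) * e⁻¹ := by group
        _ = e * (t * (t * r * t⁻¹ * r⁻¹)) * e⁻¹ := by rw [← het]; group
        _ = e * r * e⁻¹ * (e * t * e⁻¹) * (e * r * e⁻¹)⁻¹ := by rw [← hrt]; group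
        _ = e * r * e⁻¹ * t * (e * r * e⁻¹)⁻¹ := by rw [het, mul_inv_cancel_right]
        _ = r * (r⁻¹ * (e * r * e⁻¹) * t * (r⁻¹ * (e * r * e⁻¹))⁻¹) * r⁻¹ := by group
        _ = _ := by rw [hflip]; group
    apply mul_left_cancel (a := t)
    rw [h1, mul_assoc (r * t) z, ← mem_Cz.1 (inv_mem (M.le hr)), ← mul_assoc, hrt]
    group
  intro hec
  rcases M.f_eq hm hc (hfm.trans hfc.symm) with h | h <;> rw [h] at hec
  · exact M.z_ne (mul_eq_left.1 (hem.symm.trans hec))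
  · have h' : e * (t * r * t⁻¹ * r⁻¹) * e⁻¹ = t * r * t⁻¹ * r⁻¹ := by
      apply mul_right_cancel (b := z)
      rw [← hec]
      calc e * (t * r * t⁻¹ * r⁻¹) * e⁻¹ * z = e * (t * r * t⁻¹ * r⁻¹) * (e⁻¹ * z) := mul_assoc _ _ _
        _ = e * (t * r * t⁻¹ * r⁻¹) * (z * e⁻¹) := by rw [mem_Cz.1 (inv_mem he.mem)]
        _ = _ := by group
    exact M.z_ne (mul_eq_left.1 (hem.symm.trans h'))

/-- An element of the conjugate class centralising enough of `Q` has small commutator space. -/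
theorem perp_vals {t c : G} {π σ : Perm V8} {a : V8} {WL : List V8} (ht : Fn Q f ρ t π a)
    (hW : ∀ v ∈ WL, π v = v ∧ bl a v = false) {τ : Perm V8} (hc : Img ρ c σ)
    (hU : ∀ x ∈ USub ρ t τ, c * x = x * c) (v : V8) : vadd v (σ v) ∈ perpL WL := by
  simp only [perpL, List.mem_filter, List.mem_finRange, true_and, List.all_eq_true, beq_iff_eq]
  intro w hw
  obtain ⟨q, hq, rfl⟩ := M.f_surj w
  have hqt := M.unmoved ht hq (hW _ hw).1 (hW _ hw).2
  have h := hU q (mem_USub (M.img_q hq) (one_mem _) hqt.symm)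
  have hfix : σ (f q) = f q := by rw [← M.img_conj hc hq, h, mul_inv_cancel_right]
  rw [bl_vadd_left]
  nth_rw 2 [← hfix]
  rw [O_bl (M.img_O hc), Bool.xor_self]

theorem conj_z_facts {c : G} (h : ∃ k, k * z * k⁻¹ = c) : c * c = 1 ∧ c ≠ 1 := by
  obtain ⟨k, rfl⟩ := h
  exact ⟨conj_sq_one k M.zz, fun e => M.z_ne (conj_eq_one_iff.1 e)⟩

/-- A conjugate of `z` centralising enough of `Q` lies in `Q` or acts as a class `a₂` element. -/
theorem small_vals [Finite G] {k b c : G} {u g : G} (W : Swap z Q f u g) (T : Two z Q f ρ k b)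
    {σ : Perm V8} {P : List V8} (hP : P.length ≤ 8) (hc : Img ρ c σ) (hσ : σ ≠ 1)
    (hz : ∃ h, h * z * h⁻¹ = c) (hvals : ∀ v, vadd v (σ v) ∈ P) :
    ∃ s ∈ ρ.range, s * σ * s⁻¹ = wperm wA := by
  classical
  obtain ⟨hc2, -⟩ := M.conj_z_facts hz
  obtain ⟨s, hs, l, hl, he⟩ := M.invol σ hc.mem_range ((hc2 ▸ hc.mul hc).unique Img.one) hσ
  rcases reps_cases hl with rfl | rfl | h4
  · exact ⟨s, hs, he⟩
  · exfalso
    obtain ⟨x, hx⟩ := exists_img hs
    have hb := M.class_C W T (he ▸ hc.conj hx) (conj_sq_one x hc2)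
    obtain ⟨h, rfl⟩ := hz
    obtain ⟨j, hj⟩ := isConj_iff.1 hb
    exact M.b_not_z T (j * x * h) (by rw [← hj]; group)
  · exfalso
    obtain ⟨L, B, D, hn, hlen, -⟩ := reps4_data h4
    have hsO := M.range_le hs
    have hsub : (L.map (fun x => s⁻¹ x)).toFinset ⊆ P.toFinset := by
      intro y hy
      obtain ⟨x, hx, rfl⟩ := List.mem_map.1 (List.mem_toFinset.1 hy)
      obtain ⟨v, rfl⟩ := D.L_mem x hx
      rw [List.mem_toFinset]
      have h := hvals (s⁻¹ v)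
      have e := D.conj_vals hsO he (s⁻¹ v)
      rw [show s (s⁻¹ v) = v from s.apply_symm_apply _] at e
      rw [← e, show s⁻¹ (s (vadd (s⁻¹ v) (σ (s⁻¹ v)))) = vadd (s⁻¹ v) (σ (s⁻¹ v)) from
        s.symm_apply_apply _]
      exact h
    have h := (Finset.card_le_card hsub).trans (List.toFinset_card_le P)
    rw [List.toFinset_card_of_nodup (hn.map (s⁻¹).injective), List.length_map, hlen] at h
    omega

/-- A conjugate of the translation by `8` in the orthogonal group. -/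
theorem pair_of {σ s : Perm V8} (hs : s ∈ ρ.range) (he : s * σ * s⁻¹ = wperm wA) :
    ∃ a a', SieOK (a, a') ∧ qb a' = false ∧ a ≠ 0 ∧ a' ≠ 0 ∧ a ≠ a' ∧ σ = sieP a a' ∧
      (∃ v, vadd v (σ v) = a) ∧ (∃ v, vadd v (σ v) = a') ∧
      ∀ v, vadd v (σ v) ∈ [0, a, a', vadd a a'] := by
  have hsO := M.range_le hs
  have hiO := inv_mem hsO
  have h8 : SieOK (pt, 8) := sieOK_pt (by decide +kernel)
  have hap : ∀ x, s (s⁻¹ x) = x := fun x => s.apply_symm_apply x
  have hvals := dataA.conj_vals hsO he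
  have hL : ∀ v, s (vadd v (σ v)) ∈ LA := fun v => by rw [hvals]; exact dataA.mem_L _
  have hinv : ∀ x ∈ LA, ∃ v, vadd v (σ v) = s⁻¹ x := by
    intro x hx
    obtain ⟨v, rfl⟩ := dataA.L_mem x hx
    refine ⟨s⁻¹ v, s.injective ?_⟩
    rw [hvals, hap, hap]
  refine ⟨s⁻¹ pt, s⁻¹ 8, ?_, ?_, ?_, ?_, ?_, ?_, hinv _ (by decide +kernel),
    hinv _ (by decide +kernel), fun v => ?_⟩
  · exact ⟨by rw [O_q hiO]; exact h8.1, by rw [O_bl hiO]; exact h8.2⟩
  · rw [O_q hiO]; decide +kernel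
  · exact fun e => pt_facts.2.1 ((s⁻¹).injective (e.trans (O_zero hiO).symm))
  · intro e
    have h := (s⁻¹).injective (e.trans (O_zero hiO).symm)
    revert h
    decide
  · intro e
    have h := (s⁻¹).injective e
    revert h
    decide +kernel
  · rw [← O_sieP hiO h8, ← wperm_wA, ← he]
    group
  · have h := hL v
    have hx : vadd v (σ v) = s⁻¹ (s (vadd v (σ v))) := (s.symm_apply_apply _).symm
    simp only [LA, List.mem_cons, List.not_mem_nil, or_false] at h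
    rcases h with h | h | h | h <;> rw [hx, h]
    · rw [O_zero hiO]; simp
    · simp [pt]
    · simp
    · rw [show (9 : V8) = vadd pt 8 by decide +kernel, O_add hiO]
      simp

theorem only_b [Finite G] {k b : G} {u g : G} (W : Swap z Q f u g) (T : Two z Q f ρ k b) :
    Only z b (USub ρ b (wperm flipC)) := by
  intro c hz hcC hcb hU
  obtain ⟨hok, hcm, hL, hpt, hw8, hb8, -⟩ := flipC_ok
  obtain ⟨v0, hv0, hb0⟩ := WB_facts.2.2.2.2.2
  obtain ⟨e, he, het⟩ := M.exists_e dataC T.b_fn T.b_sq hv0 hb0 hok hcm hL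
  have hce := hU e (mem_USub he (Subgroup.mem_zpowers _) het)
  have hW : ∀ v ∈ WB, wperm wC v = v ∧ bl 42 v = false := fun v hv =>
    ⟨by rw [wperm_apply dataC.ok]; exact (WB_facts.1 v hv).1, (WB_facts.1 v hv).2⟩
  obtain ⟨hc2, hc1⟩ := M.conj_z_facts hz
  by_cases hcQ : c ∈ Q
  · have hperp : ∀ v ∈ WB, bl (f c) v = false := by
      intro v hv
      obtain ⟨q, hq, rfl⟩ := M.f_surj v
      have hqt := M.unmoved T.b_fn hq (hW _ hv).1 (hW _ hv).2
      exact (M.commute_iff hcQ hq).1 (hU q (mem_USub (M.img_q hq) (one_mem _) hqt.symm)).symm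
    have hs : qb (f c) = false := by
      refine M.zp_inj ?_
      rw [← M.sq_zp hcQ, hc2, zp_false]
    rcases WB_facts.2.1 _ hperp hs with h | h
    · rcases (M.f_ker c hcQ).1 h with h' | h'
      · exact absurd h' hc1
      · exact h'
    · refine absurd (by rw [← hce, mul_inv_cancel_right]) (M.moves_pt T.b_fn T.b_sq he het
        (wperm_comm hok dataC.ok hcm) (by rw [wperm_apply hok, hpt]) (w := 8)
        (by rw [wperm_apply dataC.ok, hw8]) (by rw [wperm_apply hok]; exact hb8) hcQ h)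
  exfalso
  obtain ⟨σ, hσ⟩ : ∃ σ, Img ρ c σ := ⟨_, Img.mk' hcC⟩
  have hσ1 : σ ≠ 1 := fun e => hcQ (M.img_one_mem (e ▸ hσ))
  have hvals : ∀ v, vadd v (σ v) ∈ perpL WB := M.perp_vals T.b_fn hW hσ hU
  obtain ⟨s, hs, hse⟩ := M.small_vals W T perpL_small.2 hσ hσ1 hz hvals
  obtain ⟨a, a', hok', hs', h0, h0', hne, -, ⟨v, hv⟩, ⟨v', hv'⟩, -⟩ := M.pair_of hs hse
  have key : ∀ x, x ∈ perpL WB → qb x = false → x = 0 ∨ x = pt := by
    intro x hx hq
    simp only [perpL, List.mem_filter, List.mem_finRange, true_and, List.all_eq_true,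
      beq_iff_eq] at hx
    exact WB_facts.2.1 x hx hq
  rcases key a (hv ▸ hvals v) hok'.1 with h | h
  · exact h0 h
  rcases key a' (hv' ▸ hvals v') hs' with h' | h'
  · exact h0' h'
  · exact hne (h.trans h'.symm)

theorem only_k [Finite G] {k b : G} {u g : G} (W : Swap z Q f u g) (T : Two z Q f ρ k b) :
    Only z k (USub ρ k (wperm flipA)) := by
  intro c hz hcC hck hU
  obtain ⟨hok, hcm, hL, hpt, hw128, hb128, -, hR3⟩ := flipA_ok
  obtain ⟨v0, hv0, hb0⟩ := WK_facts.2.2.2.2.2.2.2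
  obtain ⟨e, he, het⟩ := M.exists_e dataA T.k_fn T.k_sq hv0 hb0 hok hcm hL
  have hce := hU e (mem_USub he (Subgroup.mem_zpowers _) het)
  have hW : ∀ v ∈ WK, wperm wA v = v ∧ bl 2 v = false := fun v hv =>
    ⟨by rw [wperm_apply dataA.ok]; exact (WK_facts.1 v hv).1, (WK_facts.1 v hv).2⟩
  obtain ⟨hc2, hc1⟩ := M.conj_z_facts hz
  by_cases hcQ : c ∈ Q
  · have hperp : ∀ v ∈ WK, bl (f c) v = false := by
      intro v hv
      obtain ⟨q, hq, rfl⟩ := M.f_surj v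
      have hqt := M.unmoved T.k_fn hq (hW _ hv).1 (hW _ hv).2
      exact (M.commute_iff hcQ hq).1 (hU q (mem_USub (M.img_q hq) (one_mem _) hqt.symm)).symm
    have hfl : wap flipA (f c) = f c := by
      rw [← wperm_apply hok, ← M.img_conj he hcQ, ← hce, mul_inv_cancel_right]
    rcases hR3 _ (WK_facts.2.1 _ hperp) hfl with h | h
    · rcases (M.f_ker c hcQ).1 h with h' | h'
      · exact absurd h' hc1
      · exact h'
    · refine absurd (by rw [← hce, mul_inv_cancel_right]) (M.moves_pt T.k_fn T.k_sq he het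
        (wperm_comm hok dataA.ok hcm) (by rw [wperm_apply hok, hpt]) (w := 128)
        (by rw [wperm_apply dataA.ok, hw128]) (by rw [wperm_apply hok]; exact hb128) hcQ h)
  exfalso
  obtain ⟨σ, hσ⟩ : ∃ σ, Img ρ c σ := ⟨_, Img.mk' hcC⟩
  have hσ1 : σ ≠ 1 := fun e => hcQ (M.img_one_mem (e ▸ hσ))
  have hvals : ∀ v, vadd v (σ v) ∈ perpL WK := M.perp_vals T.k_fn hW hσ hU
  obtain ⟨s, hs, hse⟩ := M.small_vals W T perpL_small.1 hσ hσ1 hz hvals
  obtain ⟨a, a', hok', hs', h0, h0', hne, hσe, ⟨v, hv⟩, ⟨v', hv'⟩, hall⟩ := M.pair_of hs hse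
  have inR : ∀ x, x ∈ perpL WK → x ∈ R3 := by
    intro x hx
    simp only [perpL, List.mem_filter, List.mem_finRange, true_and, List.all_eq_true,
      beq_iff_eq] at hx
    exact WK_facts.2.1 x hx
  have hfσ : ∀ x, wap flipA (vadd x (σ x)) = vadd (wap flipA x) (σ (wap flipA x)) := by
    intro x
    have h : wperm flipA * σ = σ * wperm flipA := by
      have h1 := hσ.mul he
      rw [hce] at h1
      exact (h1.unique (he.mul hσ)).symm
    have h' := congrArg (fun p : Perm V8 => p x) h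
    simp only [Perm.mul_apply, wperm_apply hok] at h'
    rw [← wperm_apply hok (vadd x (σ x)), O_add (wperm_mem_O flipA), wperm_apply hok,
      wperm_apply hok, h']
  have hflip : ∀ x y, vadd y (σ y) = x → x ≠ 0 → wap flipA x ∈ [a, a', vadd a a'] := by
    intro x y hy hx
    have h := hall (wap flipA y)
    rw [← hfσ, hy] at h
    rcases List.mem_cons.1 h with h | h
    · refine absurd ((wperm flipA).injective ?_) hx
      rw [wperm_apply hok, h, O_zero (wperm_mem_O flipA)]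
    · exact h
  have hσA : σ = wperm wA := by
    have hp := flipA_pairs a (inR _ (hv ▸ hvals v)) a' (inR _ (hv' ▸ hvals v')) h0 h0' hne
      (hflip a v hv h0) (hflip a' v' hv' h0')
    refine O_ext (M.img_O hσ) (wperm_mem_O _) fun j => ?_
    rw [hσe, sieP_apply hok', wperm_apply dataA.ok]
    exact hp j
  rw [hσA] at hσ
  obtain ⟨r, hr, rfl⟩ := M.img_same T.k_fn.1 hσ
  have hF := M.Fn_mul_q T.k_fn hr
  by_cases hin : vadd 2 (f r) ∈ LA
  · obtain ⟨h1, h2, h3⟩ := K_shift _ hin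
    rw [vadd_cancel] at h1 h2 h3
    have her : e * r = r * e := by
      apply mul_left_cancel (a := k)
      calc k * (e * r) = k * e * r := by group
        _ = e * (k * r) := by rw [← het]; group
        _ = k * r * e := hce.symm
        _ = k * (r * e) := mul_assoc _ _ _
    have hfl : wap flipA (f r) = f r := by
      rw [← wperm_apply hok, ← M.img_conj he hr, her, mul_inv_cancel_right]
    rcases hR3 _ h1 hfl with h | h
    · exact h2 h
    · exact h3 h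
  · obtain ⟨w, hw, hbw⟩ := dataA.outside hin
    obtain ⟨q, hq, hqf⟩ := M.f_surj w
    have hfix : wperm wA (f q) = f q := by rw [hqf, wperm_apply dataA.ok, hw]
    have hnn := M.not_near hσ dataA.ne_one hc2 hq hfix
      (M.moved hF hq hfix (by rw [hqf]; exact hbw))
    rcases M.class_A W T hσ hc2 with h | h
    · exact hnn h
    · obtain ⟨j, hj⟩ := isConj_iff.1 h
      obtain ⟨h', hh'⟩ := hz
      exact M.k_not_z T (j * h') (by rw [← hj, ← hh']; group)

/-- The two representatives are not conjugate. -/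
theorem k_not_b [Finite G] {k b : G} {u g : G} (W : Swap z Q f u g) (T : Two z Q f ρ k b) :
    ¬ IsConj k b := by
  haveI : Fact (Nat.Prime 2) := ⟨Nat.prime_two⟩
  intro hkb
  obtain ⟨h, hh⟩ := isConj_iff.1 hkb
  let K : Subgroup G := Subgroup.centralizer ({k} : Set G)
  let K0 : Subgroup G := Cz z ⊓ K
  let Uk : Subgroup G := USub ρ k (wperm flipA)
  let Ub : Subgroup G := USub ρ b (wperm flipC)
  have hUk0 : Uk ≤ K0 := USub_le
  obtain ⟨S, hS⟩ := ((M.USub_two flipA_pow).of_equiv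
    (Subgroup.subgroupOfEquivOfLe hUk0).symm).exists_le_sylow (G := K0)
  let S1 : Subgroup G := (S : Subgroup K0).map K0.subtype
  have hS10 : S1 ≤ K0 := Subgroup.map_subtype_le _
  have hUS : Uk ≤ S1 := fun x hx => ⟨⟨x, hUk0 hx⟩, hS (show (⟨x, hUk0 hx⟩ : K0) ∈ _ from hx), rfl⟩
  have hS1K : S1 ≤ K := hS10.trans inf_le_right
  have hS12 : IsPGroup 2 S1 := S.2.map _
  obtain ⟨P, hP⟩ := (hS12.of_equiv (Subgroup.subgroupOfEquivOfLe hS1K).symm).exists_le_sylow (G := K)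
  let P1 : Subgroup G := (P : Subgroup K).map K.subtype
  have hP1K : P1 ≤ K := Subgroup.map_subtype_le _
  have hSP : S1 ≤ P1 := fun x hx =>
    ⟨⟨x, hS1K hx⟩, hP (show (⟨x, hS1K hx⟩ : K) ∈ _ from hx), rfl⟩
  have hP12 : IsPGroup 2 P1 := P.2.map _
  have hPS : P1 ≤ S1 := by
    by_contra hlt
    haveI : Group.IsNilpotent P1 := hP12.isNilpotent
    have hH : S1.subgroupOf P1 < ⊤ := lt_top_iff_ne_top.2 fun e => hlt
      (Subgroup.subgroupOf_eq_top.1 e)
    obtain ⟨m, hmN, hmS⟩ := SetLike.exists_of_lt (normalizerCondition_of_isNilpotent _ hH)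
    have hmK : (m : G) ∈ K := hP1K m.2
    have hnorm : ∀ x ∈ S1, (m : G)⁻¹ * x * m ∈ S1 := by
      intro x hx
      have h' := (Subgroup.mem_normalizer_iff''.1 hmN (⟨x, hSP hx⟩ : P1)).1
        (Subgroup.mem_subgroupOf.2 hx)
      simpa [Subgroup.mem_subgroupOf] using h'
    have hzS : z ∈ S1 := hUS (M.z_mem_USub T.k_fn.1.mem)
    have hcK : (m : G) * z * (m : G)⁻¹ ∈ S1 := by
      have h' := (Subgroup.mem_normalizer_iff.1 hmN (⟨z, hSP hzS⟩ : P1)).1
        (Subgroup.mem_subgroupOf.2 hzS)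
      simpa [Subgroup.mem_subgroupOf] using h'
    have hcen : ∀ x ∈ S1, (m : G) * z * (m : G)⁻¹ * x = x * ((m : G) * z * (m : G)⁻¹) := by
      intro x hx
      have h' := mem_Cz.1 (hS10 (hnorm x hx)).1
      calc (m : G) * z * (m : G)⁻¹ * x
          = (m : G) * (z * ((m : G)⁻¹ * x * m)) * (m : G)⁻¹ := by group
        _ = x * ((m : G) * z * (m : G)⁻¹) := by rw [← h']; group
    have hc0 := M.only_k W T _ ⟨(m : G), rfl⟩ (hS10 hcK).1
      (Subgroup.mem_centralizer_singleton_iff.1 (hS10 hcK).2)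
      fun x hx => hcen x (hUS hx)
    have hm0 : (m : G) ∈ K0 := ⟨mem_Cz.2 (mul_inv_eq_iff_eq_mul.1 hc0), hmK⟩
    let X : Subgroup G := P1 ⊓ K0
    have hX : (S : Subgroup K0) ≤ X.subgroupOf K0 := fun x hx =>
      Subgroup.mem_subgroupOf.2 ⟨hSP ⟨x, hx, rfl⟩, x.2⟩
    have h := S.3 (((hP12.to_le (inf_le_left : X ≤ P1))).of_equiv
      (Subgroup.subgroupOfEquivOfLe (inf_le_right : X ≤ K0)).symm) hX
    refine hmS (Subgroup.mem_subgroupOf.2 ⟨⟨m, hm0⟩, ?_, rfl⟩)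
    have : (⟨m, hm0⟩ : K0) ∈ X.subgroupOf K0 := Subgroup.mem_subgroupOf.2 ⟨m.2, hm0⟩
    exact h ▸ this
  -- move the subgroup of `b` into the Sylow subgroup
  let B : Subgroup G := Ub.map (MulAut.conj h⁻¹).toMonoidHom
  have hBK : B ≤ K := by
    rintro _ ⟨x, hx, rfl⟩
    refine Subgroup.mem_centralizer_singleton_iff.2 ?_
    have hxb := Subgroup.mem_centralizer_singleton_iff.1 (USub_le hx).2
    show h⁻¹ * x * h⁻¹⁻¹ * k = k * (h⁻¹ * x * h⁻¹⁻¹)
    calc h⁻¹ * x * h⁻¹⁻¹ * k = h⁻¹ * (x * (h * k * h⁻¹)) * h := by group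
      _ = h⁻¹ * (b * x) * h := by rw [hh, hxb]
      _ = _ := by rw [← hh]; group
  obtain ⟨P2, hP2⟩ := (((M.USub_two flipC_pow).map (MulAut.conj h⁻¹).toMonoidHom).of_equiv
    (Subgroup.subgroupOfEquivOfLe hBK).symm).exists_le_sylow (G := K)
  obtain ⟨m, hm⟩ := MulAction.exists_smul_eq K P2 P
  have hmk : (m : G) * k = k * (m : G) := Subgroup.mem_centralizer_singleton_iff.1 m.2
  have hin : ∀ x ∈ Ub, (m : G) * (h⁻¹ * x * h) * (m : G)⁻¹ ∈ Cz z := by
    intro x hx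
    have hxB : h⁻¹ * x * h ∈ B := ⟨x, hx, by show h⁻¹ * x * h⁻¹⁻¹ = _; rw [inv_inv]⟩
    have h1 : m * ⟨_, hBK hxB⟩ * m⁻¹ ∈ (P : Subgroup K) := by
      rw [← hm, Sylow.coe_subgroup_smul]
      exact Subgroup.mem_map.2
        ⟨⟨_, hBK hxB⟩, hP2 (show (⟨_, hBK hxB⟩ : K) ∈ B.subgroupOf K from hxB), rfl⟩
    exact (hS10 (hPS ⟨_, h1, rfl⟩)).1
  have hcomm : ∀ x ∈ Ub, h * (m : G)⁻¹ * z * (h * (m : G)⁻¹)⁻¹ * x =
      x * (h * (m : G)⁻¹ * z * (h * (m : G)⁻¹)⁻¹) := by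
    intro x hx
    have h' := mem_Cz.1 (hin x hx)
    calc h * (m : G)⁻¹ * z * (h * (m : G)⁻¹)⁻¹ * x
        = h * (m : G)⁻¹ * (z * ((m : G) * (h⁻¹ * x * h) * (m : G)⁻¹)) * (m : G) * h⁻¹ := by group
      _ = x * (h * (m : G)⁻¹ * z * (h * (m : G)⁻¹)⁻¹) := by rw [← h']; group
  have hb' : h * (m : G)⁻¹ * k * (h * (m : G)⁻¹)⁻¹ = b := by
    calc h * (m : G)⁻¹ * k * (h * (m : G)⁻¹)⁻¹ = h * ((m : G)⁻¹ * (k * (m : G))) * h⁻¹ := by group
      _ = b := by rw [← hmk, inv_mul_cancel_left, hh]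
  have hcb : h * (m : G)⁻¹ * z * (h * (m : G)⁻¹)⁻¹ * b =
      b * (h * (m : G)⁻¹ * z * (h * (m : G)⁻¹)⁻¹) := by
    rw [← hb']
    calc h * (m : G)⁻¹ * z * (h * (m : G)⁻¹)⁻¹ * (h * (m : G)⁻¹ * k * (h * (m : G)⁻¹)⁻¹)
        = h * (m : G)⁻¹ * (z * k) * (h * (m : G)⁻¹)⁻¹ := by group
      _ = _ := by rw [← mem_Cz.1 T.k_fn.1.mem]; group
  have hc0 := M.only_b W T _ ⟨_, rfl⟩ (mem_Cz.2 (hcomm z (M.z_mem_USub T.b_fn.1.mem))) hcb hcomm
  have hC : h * (m : G)⁻¹ ∈ Cz z := mem_Cz.2 (mul_inv_eq_iff_eq_mul.1 hc0)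
  have hI := T.k_fn.1.conj (Img.mk' (ρ := ρ) hC)
  rw [hb'] at hI
  have he := (hI.unique T.b_fn.1)
  obtain ⟨v, hv⟩ := dataC.L_mem 136 rankTwo_L.2.2
  have hO := M.img_O (Img.mk' (ρ := ρ) hC)
  have e := dataC.conj_vals hO he ((ρ ⟨_, hC⟩)⁻¹ v)
  rw [show ρ ⟨_, hC⟩ ((ρ ⟨_, hC⟩)⁻¹ v) = v from Equiv.apply_symm_apply _ _, hv] at e
  have h136 := congrArg qb e
  rw [O_q hO, rankTwo_L.2.1, wperm_apply dataA.ok, rankTwo_L.1 _ (dataA.mem_L _)] at h136
  cases h136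

end Model

end CfsgLib.Small.ConTwo
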