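import Cfsg.Agent.Lib.Small.ConTwo.AMove
import Cfsg.Agent.Lib.Small.ConTwo.AOrbit
import Cfsg.Agent.Lib.Small.ConTwo.AVerdict
import Cfsg.Agent.Lib.Small.ConTwo.Fuse

/-!
The class of the central involution in the abelian group.
-/

set_option autoImplicit false
set_option maxRecDepth 100000
set_option synthInstance.maxSize 4000

namespace CfsgLib.Small.ConTwo

open Equiv

theorem prime_check : ∀ p ∈ Code.bigPrimes, p ≠ 2 ∧ ∀ i < 11, 2 ^ (i + 1) % p ≠ 1 := by
  decide +kernel

theorem primes : ∀ p ∈ Code.bigPrimes, p.Prime := by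
  intro p hp
  simp only [Code.bigPrimes, List.mem_cons, List.not_mem_nil, or_false] at hp
  rcases hp with rfl | rfl | rfl | rfl | rfl | rfl | rfl | rfl | rfl | rfl | rfl | rfl | rfl <;>
    norm_num

theorem lab_facts : Code.entry 4 Code.labZ 3 = Code.entry 4 Code.labZ 4 ∧
    Code.entry 4 Code.labB 3 = Code.entry 4 Code.labB 4 ∧ Code.repZ.length = 8 ∧
    Code.repB.length = 7 := by
  decide +kernel

/-- The coordinates of a conjugate. -/
noncomputable def cj {G : Type*} [Group G] (B : List G) (n : G) (m : ℕ) : ℕ :=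
  Classical.epsilon fun m' => m' < 2048 ∧ iota B m' = n * iota B m * n⁻¹

namespace Model

variable {G : Type*} [Group G] [Finite G] {z : G} {Q : Subgroup G} {f : G → V8}
  {ρ : Cz z →* Perm V8} (M : Model z Q f ρ) {u : G} {b e x : ℕ → G} {τ : ℕ}
  (D : ACoordData z Q f ρ u b e x τ)

include M D

theorem bxor (a c : ℕ) :
    iota (basL z b x) (a ^^^ c) = iota (basL z b x) a * iota (basL z b x) c :=
  M.bx_xor D.frame D.lifts D.comm D.sq a c

theorem bmem (m : ℕ) : iota (basL z b x) m ∈ AG Q f :=
  M.iota_AG D.frame D.lifts D.comm D.sq m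

theorem binj {a c : ℕ} (ha : a < 2048) (hc : c < 2048)
    (h : iota (basL z b x) a = iota (basL z b x) c) : a = c :=
  M.iota_inj D.frame D.lifts D.comm D.sq ha hc h

theorem bsurj {a : G} (ha : a ∈ AG Q f) : ∃ m < 2048, iota (basL z b x) m = a :=
  M.iota_surj D.frame D.lifts D.comm D.sq ha

theorem card_AG : Nat.card (AG Q f) = 2048 := by
  rw [← Nat.card_fin 2048]
  refine (Nat.card_congr (Equiv.ofBijective
    (fun m : Fin 2048 => (⟨iota (basL z b x) m.val, M.bmem D m.val⟩ : AG Q f)) ⟨?_, ?_⟩)).symm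
  · intro a c h
    exact Fin.ext (M.binj D a.isLt c.isLt (congrArg Subtype.val h))
  · rintro ⟨a, ha⟩
    obtain ⟨m, hm, he⟩ := M.bsurj D ha
    exact ⟨⟨m, hm⟩, Subtype.ext he⟩

theorem cent_AG {c : G} (h : ∀ a ∈ AG Q f, c * a = a * c) : c ∈ AG Q f :=
  mem_AG.2 fun q hq hl => h q (M.low_mem hq hl)

theorem op_mem {g : ℕ} (hg : g < 10) :
    opG b e g ∈ Subgroup.normalizer (AG Q f : Set G) := by
  refine mem_normalizer_of fun a ha => ?_
  obtain ⟨m, hm, rfl⟩ := M.bsurj D ha
  rw [D.act g hg m hm]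
  exact M.bmem D _

theorem op_Cz {g : ℕ} (hg : g < 10) : opG b e g ∈ Cz z := by
  unfold opG
  split
  · exact (D.frame.eI g ‹_›).mem
  · exact M.le (D.frame.bQ _ (by omega))

theorem cj_spec {n : G} (hn : n ∈ Subgroup.normalizer (AG Q f : Set G)) (m : ℕ) :
    cj (basL z b x) n m < 2048 ∧
      iota (basL z b x) (cj (basL z b x) n m) = n * iota (basL z b x) m * n⁻¹ := by
  obtain ⟨m', hm', he⟩ := M.bsurj D ((Subgroup.mem_normalizer_iff.1 hn _).1 (M.bmem D m))
  exact Classical.epsilon_spec (p := fun m' => m' < 2048 ∧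
    iota (basL z b x) m' = n * iota (basL z b x) m * n⁻¹) ⟨m', hm', he⟩

theorem class_sel {g₀ : G} (W : Swap z Q f u g₀) (hτ : τ = 0 ∨ τ = Code.beta) :
    τ = Code.beta ∧ ∀ m < 2048,
      (iota (basL z b x) m ∈ cOrb (Subgroup.normalizer (AG Q f : Set G)) z ↔
        Code.inSel Code.labB Code.goodSel m = true) := by
  classical
  set N := Subgroup.normalizer (AG Q f : Set G) with hN
  let P : ℕ → Prop := fun m => iota (basL z b x) m ∈ cOrb N z
  have hPinv : ∀ g < 10, ∀ m < 2048, (P (Code.act τ g m) ↔ P m) := by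
    intro g hg m hm
    show iota _ _ ∈ cOrb N z ↔ iota _ _ ∈ cOrb N z
    rw [← D.act g hg m hm]
    constructor
    · rintro ⟨k, hk, he⟩
      refine ⟨(opG b e g)⁻¹ * k, mul_mem (inv_mem (M.op_mem D hg)) hk, ?_⟩
      calc (opG b e g)⁻¹ * k * z * ((opG b e g)⁻¹ * k)⁻¹
          = (opG b e g)⁻¹ * (k * z * k⁻¹) * opG b e g := by group
        _ = _ := by rw [he]; group
    · rintro ⟨k, hk, he⟩
      refine ⟨opG b e g * k, mul_mem (M.op_mem D hg) hk, ?_⟩
      rw [← he]
      group
  obtain ⟨n0, hn0, hn0z, hn0r⟩ := M.exists_move W D.comm D.sq (D.frame.bQ 1 (by norm_num))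
    (by rw [D.frame.bf 1 (by norm_num)]; decide +kernel)
  have hP1 : P 1 := ⟨1, one_mem _, by rw [M.iota_one D.frame]; group⟩
  have hi3 : iota (basL z b x) 3 = z * u := by
    rw [show (3 : ℕ) = 1 ^^^ 2 ^ (1 + 0) from rfl, M.bxor D, M.iota_one D.frame,
      M.iota_b D.frame (by norm_num), D.frame.bu]
  have hP3 : P 3 := ⟨n0, hn0, by rw [hn0z, hi3]⟩
  have hP0 : ¬ P 0 := by
    rintro ⟨k, -, he⟩
    rw [iota_zero] at he
    exact M.z_ne (conj_eq_one_iff.1 he)
  -- the selection
  have main : ∀ (stp lab : ℕ) (rep : List ℕ) (wit : List ℕ),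
      Code.orbOK τ stp lab rep = true → Code.entry 4 lab 3 = Code.entry 4 lab 4 →
      (∀ w ∈ wit, w < 2048) →
      ∃ sel < 2 ^ rep.length, Code.admissible lab sel = true ∧
        (∀ m < 2048, (P m ↔ Code.inSel lab sel m = true)) ∧
        Code.verdict lab sel wit = false := by
    intro stp lab rep wit hok h34 hwit
    let sel := Nat.ofBits fun i : Fin rep.length => decide (P (rep.getD i.val 0))
    have hsel : ∀ m < 2048, (P m ↔ Code.inSel lab sel m = true) := by
      intro m hm
      obtain ⟨h1, h2⟩ := Code.union_of hok hPinv m hm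
      rw [h1, Code.inSel, Nat.testBit_ofBits_lt _ _ h2, decide_eq_true_eq]
    refine ⟨sel, Nat.ofBits_lt_two_pow _, ?_, hsel, ?_⟩
    · simp only [Code.admissible, Bool.and_eq_true, Bool.not_eq_true']
      refine ⟨⟨(hsel 1 (by norm_num)).1 hP1, (hsel 3 (by norm_num)).1 hP3⟩, ?_⟩
      exact Bool.eq_false_iff.2 fun h => hP0 ((hsel 0 (by norm_num)).2 h)
    have hcount : Code.selCount lab sel = Nat.card (cOrb N z) := by
      have h2 : Code.selCount lab sel =
          ((Finset.range 2048).filter fun m => Code.inSel lab sel m = true).card := by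
        rw [Code.selCount, ← List.toFinset_card_of_nodup (List.nodup_range.filter _)]
        congr 1
        ext m
        simp
      rw [h2, ← Nat.card_eq_finsetCard]
      refine Nat.card_congr (Equiv.ofBijective (fun m => (⟨iota (basL z b x) m.val,
        (hsel _ (Finset.mem_range.1 (Finset.mem_filter.1 m.2).1)).2 (Finset.mem_filter.1 m.2).2⟩ :
          cOrb N z)) ⟨fun a c h => Subtype.ext (M.binj D
            (Finset.mem_range.1 (Finset.mem_filter.1 a.2).1)
            (Finset.mem_range.1 (Finset.mem_filter.1 c.2).1) (congrArg Subtype.val h)), ?_⟩)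
      rintro ⟨a, k, hk, rfl⟩
      obtain ⟨m, hm, he⟩ := M.bsurj D ((Subgroup.mem_normalizer_iff.1 hk z).1 M.z_mem_AG)
      exact ⟨⟨m, Finset.mem_filter.2 ⟨Finset.mem_range.2 hm,
        (hsel m hm).1 ⟨k, hk, he.symm⟩⟩⟩, Subtype.ext he⟩
    simp only [Code.verdict, Bool.or_eq_false_iff]
    refine ⟨⟨⟨?_, ?_⟩, ?_⟩, ?_⟩
    · rw [List.any_eq_false]
      intro p hp hdvd
      have hd : p ∣ Nat.card (cOrb N z) := by
        rw [← hcount]; exact Nat.dvd_of_mod_eq_zero (Nat.eq_of_beq_eq_true hdvd)
      refine no_prime (A := AG Q f) (n := 11) (M.card_AG D) (fun c => M.cent_AG D) D.comm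
        (primes p hp) (prime_check p hp).1 (fun i h1 h11 => ?_) M.z_mem_AG hd
      obtain ⟨j, rfl⟩ : ∃ j, i = j + 1 := ⟨i - 1, by omega⟩
      exact (prime_check p hp).2 j (by omega)
    · refine Bool.eq_false_iff.2 fun h => hn0r ?_
      have hlow : ∀ m < 2048, P m → m < 32 := by
        intro m hm hPm
        have := List.all_eq_true.1 h m (List.mem_range.2 hm)
        rw [(hsel m hm).1 hPm] at this
        simpa using this
      have hP4 : P 4 := by
        rw [hsel 4 (by norm_num), Code.inSel, ← h34]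
        exact (hsel 3 (by norm_num)).1 hP3
      obtain ⟨k, hk, he⟩ := hP4
      have hb1 : iota (basL z b x) 4 = b 1 := M.iota_b D.frame (i := 1) (by norm_num)
      obtain ⟨hm, hme⟩ := M.cj_spec D hn0 4
      have hPm : P (cj (basL z b x) n0 4) := ⟨n0 * k, mul_mem hn0 hk, by
        rw [hme, ← he]; group⟩
      rw [← hb1, ← hme, M.iota_low D.frame (hlow _ hm hPm)]
      exact (M.low_part D.frame).1
    · refine Bool.eq_false_iff.2 fun h => ?_
      obtain ⟨k, c, T⟩ := M.exists_Two W
      have hkA : k ∈ AG Q f := mem_AG.2 fun q hq hl => by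
        refine M.unmoved T.k_fn hq ?_ (low_vadd (show Low 2 by decide) hl).2
        rw [wperm_wA, sieP_apply (sieOK_pt (by decide +kernel))]
        have h0 : ∀ v : Fin 16, sie pt 8 (Fin.ofNat 256 v.val) = Fin.ofNat 256 v.val := by
          decide +kernel
        have := h0 ⟨(f q).val, hl⟩
        rwa [show Fin.ofNat 256 (f q).val = f q from Fin.ext (by simp)] at this
      obtain ⟨m, hm, hme⟩ := M.bsurj D hkA
      have hm0 : m ≠ 0 := fun e0 => by
        rw [e0, iota_zero] at hme
        exact dataA.ne_one (T.k_fn.1.unique (hme ▸ Img.one))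
      have h' := List.all_eq_true.1 h m (List.mem_range.2 hm)
      rw [Bool.or_eq_true] at h'
      rcases h' with h' | h'
      · obtain ⟨j, -, hj⟩ := (hsel m hm).2 h'
        exact M.k_not_z T j (hj.trans hme)
      · exact hm0 (Nat.eq_of_beq_eq_true h')
    · rw [List.any_eq_false]
      intro w hw hwt
      simp only [Bool.and_eq_true, Bool.not_eq_true'] at hwt
      obtain ⟨hwsel, hne⟩ := hwt
      have hwlt := hwit w hw
      obtain ⟨k, hk, hke⟩ := (hsel w hwlt).2 hwsel
      have hp : ∀ v, Code.pairs lab sel v = ((Finset.range 2048).filter fun m =>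
          Code.inSel lab sel m = true ∧ Code.inSel lab sel (m ^^^ v) = true).card := by
        intro v
        rw [Code.pairs, ← List.toFinset_card_of_nodup (List.nodup_range.filter _)]
        congr 1
        ext m
        simp
      have hmove : ∀ (n : G), n ∈ N → ∀ m < 2048, P m → P (cj (basL z b x) n m) := by
        intro n hn m hm hPm
        obtain ⟨j, hj, he⟩ := hPm
        exact ⟨n * j, mul_mem hn hj, by rw [(M.cj_spec D hn m).2, ← he]; group⟩
      have hle : ∀ (n : G), n ∈ N → ∀ a c, a < 2048 → c < 2048 →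
          n * iota (basL z b x) a * n⁻¹ = iota (basL z b x) c →
          Code.pairs lab sel a ≤ Code.pairs lab sel c := by
        intro n hn a c ha hc he
        rw [hp, hp]
        refine Finset.card_le_card_of_injOn (cj (basL z b x) n) (fun m hm => ?_) (fun p hp q hq e => ?_)
        · simp only [Finset.coe_filter, Finset.mem_range, Set.mem_ofPred_eq] at hm ⊢
          obtain ⟨hm, h1, h2⟩ := hm
          obtain ⟨hlt, hspec⟩ := M.cj_spec D hn m
          have hmc := Code.xor_lt hm ha
          obtain ⟨hlt', hspec'⟩ := M.cj_spec D hn (m ^^^ a)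
          refine ⟨hlt, (hsel _ hlt).1 (hmove n hn m hm ((hsel m hm).2 h1)), ?_⟩
          have e1 : cj (basL z b x) n m ^^^ c = cj (basL z b x) n (m ^^^ a) := by
            refine M.binj D (Code.xor_lt hlt hc) hlt' ?_
            rw [hspec', M.bxor D, M.bxor D, hspec, ← he]
            group
          rw [e1]
          exact (hsel _ hlt').1 (hmove n hn _ hmc ((hsel _ hmc).2 h2))
        · simp only [Finset.coe_filter, Finset.mem_range, Set.mem_ofPred_eq] at hp hq
          refine M.binj D hp.1 hq.1 ?_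
          have h1 := (M.cj_spec D hn p).2
          rw [e, (M.cj_spec D hn q).2] at h1
          exact (mul_left_cancel (mul_right_cancel h1)).symm
      have hz : k * iota (basL z b x) 1 * k⁻¹ = iota (basL z b x) w := by
        rw [M.iota_one D.frame, hke]
      have heq : Code.pairs lab sel w = Code.pairs lab sel 1 :=
        le_antisymm (hle k⁻¹ (inv_mem hk) w 1 hwlt (by norm_num) (by rw [← hz]; group))
          (hle k hk 1 w (by norm_num) hwlt hz)
      rw [heq, Nat.beq_refl] at hne
      cases hne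
  rcases hτ with rfl | rfl
  · obtain ⟨sel, hlt, hadm, -, hv⟩ := main _ _ _ [32, 33] Code.orbZ lab_facts.1 (by decide)
    rw [lab_facts.2.2.1] at hlt
    have h := List.all_eq_true.1 Code.verdictZ sel (List.mem_range.2 hlt)
    rw [hadm, hv] at h
    cases h
  · obtain ⟨sel, hlt, hadm, hsel, hv⟩ := main _ _ _ [385] Code.orbB lab_facts.2.1 (by decide)
    rw [lab_facts.2.2.2] at hlt
    have h := List.all_eq_true.1 Code.verdictB sel (List.mem_range.2 hlt)
    rw [hadm, hv] at h
    simp only [Bool.not_true, Bool.false_or, Bool.or_false] at h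
    rw [Nat.eq_of_beq_eq_true h] at hsel
    exact ⟨rfl, hsel⟩

end Model

end CfsgLib.Small.ConTwo
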