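import Cfsg.Agent.Lib.Small.ConTwo.AGolay

/-!
The permutation of the points of a symmetry preserves the code.
-/

set_option autoImplicit false
set_option maxRecDepth 100000
set_option maxHeartbeats 0

namespace CfsgLib.Small.ConTwo.Code

open Cfsg CfsgLib.Spor
open scoped Pointwise

/-- The word of a string, normalised at the extra point. -/
def cw (m : ℕ) : ℕ := Nat.ofBits fun i : Fin 24 => par 11 (P i.val) m

theorem testBit_cw (m : ℕ) {i : ℕ} (hi : i < 24) : (cw m).testBit i = par 11 (P i) m := by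
  rw [cw, Nat.testBit_ofBits_lt _ i hi]

theorem cw_lt (m : ℕ) : cw m < 2 ^ 24 := Nat.ofBits_lt_two_pow _

theorem cw_xor (a b : ℕ) : cw (a ^^^ b) = cw a ^^^ cw b := by
  refine Nat.eq_of_testBit_eq fun i => ?_
  rcases Nat.lt_or_ge i 24 with hi | hi
  · rw [Nat.testBit_xor, testBit_cw _ hi, testBit_cw _ hi, testBit_cw _ hi, par_xor_right]
  · rw [Nat.testBit_xor, cw, cw, cw, Nat.testBit_ofBits_ge _ i hi, Nat.testBit_ofBits_ge _ i hi,
      Nat.testBit_ofBits_ge _ i hi]
    rfl

theorem cw_zero : cw 0 = 0 := by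
  have h := cw_xor 0 0
  rw [Nat.xor_self] at h
  rw [h, Nat.xor_self]

theorem cw_basis : (List.range 11).all (fun j => CfsgLib.Spor.inCode (cw (2 ^ j))) = true := by
  decide +kernel

theorem cw_inCode : ∀ m < 2048, CfsgLib.Spor.inCode (cw m) = true := by
  refine bit_induction ?_ ?_ ?_
  · rw [cw_zero]; decide +kernel
  · exact fun j hj => List.all_eq_true.1 cw_basis j (List.mem_range.2 hj)
  · intro a b _ _ ha hb
    rw [cw_xor]
    exact inCode_xor ha hb

theorem cw_inj_check : (List.range 2048).all (fun m => Nat.beq m 0 || !Nat.beq (cw m) 0) = true := by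
  decide +kernel

theorem cw_inj {a b : ℕ} (ha : a < 2048) (hb : b < 2048) (h : cw a = cw b) : a = b := by
  have h0 : cw (a ^^^ b) = 0 := by rw [cw_xor, h, Nat.xor_self]
  have hc := List.all_eq_true.1 cw_inj_check (a ^^^ b) (List.mem_range.2 (xor_lt ha hb))
  rw [h0] at hc
  simp only [Nat.beq_refl, Bool.not_true, Bool.or_false] at hc
  have := Nat.eq_of_beq_eq_true hc
  calc a = a ^^^ (a ^^^ b) ^^^ 0 := by rw [this]; simp
    _ = b := by simp

theorem pre_check : (List.zip golayBasis preBasis).length = golayBasis.length ∧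
    (List.zip golayBasis preBasis).all (fun x => decide (x.2 < 2048) &&
      (Nat.beq x.1 (cw x.2) || Nat.beq x.1 (cw x.2 ^^^ 16777215))) = true ∧
    CfsgLib.Spor.inCode 16777215 = true := by
  decide +kernel

/-- The points as numbers. -/
def ptE : Fin 24 ≃ GolayPt where
  toFun i := pt i.val
  invFun p := ⟨idx p, idx_lt p⟩
  left_inv i := Fin.ext (idx_pt i.isLt)
  right_inv p := pt_idx p

/-- The property tying a symmetry to a permutation of the points. -/
def Rel (g : ℕ → ℕ) (σ : Equiv.Perm (Fin 24)) : Prop :=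
  ∀ a b, a ≠ b → adj g (phiF a b) = phiF (σ a) (σ b)

theorem Rel.cw_apply {g : ℕ → ℕ} (hg : Sym g) {σ : Equiv.Perm (Fin 24)} (h : Rel g σ) {m : ℕ}
    (hm : m < 2048) (i : Fin 24) : (cw (g m)).testBit i.val =
      ((cw m).testBit (σ i).val ^^ (cw m).testBit (σ ⟨23, by norm_num⟩).val) := by
  by_cases hi : i = ⟨23, by norm_num⟩
  · subst hi
    rw [Bool.xor_self, testBit_cw _ (by norm_num), pts_ok.1, par_comm, par_zero]
  · have e := congrArg (fun p => par 11 p m) (h i _ hi)
    simp only [par_adj hg _ m hm] at e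
    simp only [phiF, phi, pts_ok.1, Nat.xor_zero, par_xor_left] at e
    rw [testBit_cw _ i.isLt, testBit_cw _ (σ i).isLt, testBit_cw _ (σ _).isLt, e]

theorem mask_smul_bit (σ : Equiv.Perm GolayPt) (b : ℕ) (i : Fin 24) :
    (mask (σ • toSet b)).testBit i.val = b.testBit (idx (σ⁻¹ (pt i.val))) := by
  have h : (mask (σ • toSet b)).testBit i.val = decide (pt i.val ∈ σ • toSet b) := by
    rw [mask, Nat.testBit_ofBits_lt _ i.val i.isLt]
  rw [h, Bool.eq_iff_iff, decide_eq_true_eq, ← Finset.inv_smul_mem_iff, mem_toSet,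
    Equiv.Perm.smul_def]

/-- The permutation of the code attached to a permutation of the numbers. -/
def toPts (σ : Equiv.Perm (Fin 24)) : Equiv.Perm GolayPt := ptE.permCongr σ⁻¹

theorem full_bit : ∀ (d : Bool) (j : ℕ), j < 24 →
    (if d then 16777215 else 0 : ℕ).testBit j = d := by
  decide +kernel

theorem Rel.mem_M24 {g : ℕ → ℕ} (hg : Sym g) {σ : Equiv.Perm (Fin 24)} (h : Rel g σ) :
    toPts σ ∈ M24 := by
  refine mem_M24_of_basis fun b hb => ?_
  obtain ⟨n, hn, rfl⟩ := List.getElem_of_mem hb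
  have hn' : n < (List.zip golayBasis preBasis).length := by rw [pre_check.1]; exact hn
  have hx := List.all_eq_true.1 pre_check.2.1 _ (List.getElem_mem hn')
  rw [List.getElem_zip] at hx
  generalize golayBasis[n] = b at hx
  generalize preBasis[n]'(by simp [List.length_zip] at hn'; exact hn'.2) = m at hx
  simp only [Bool.and_eq_true, decide_eq_true_eq, Bool.or_eq_true] at hx
  obtain ⟨hm, hb'⟩ := hx
  obtain ⟨e, he⟩ : ∃ e : Bool, b = cw m ^^^ (if e then 16777215 else 0) := by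
    rcases hb' with hb' | hb'
    · exact ⟨false, by simpa using Nat.eq_of_beq_eq_true hb'⟩
    · exact ⟨true, by simpa using Nat.eq_of_beq_eq_true hb'⟩
  have hbit := full_bit e
  set d : Bool := (cw m).testBit (σ ⟨23, by norm_num⟩).val ^^ e
  have key : mask (toPts σ • toSet b) = cw (g m) ^^^ (if d then 16777215 else 0) := by
    refine Nat.eq_of_testBit_eq fun i => ?_
    rcases Nat.lt_or_ge i 24 with hi | hi
    · have hinv : idx ((toPts σ)⁻¹ (pt i)) = (σ ⟨i, hi⟩).val := by
        have : (toPts σ)⁻¹ (pt i) = pt (σ ⟨i, hi⟩).val := by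
          rw [Equiv.Perm.inv_eq_iff_eq]
          show pt i = ptE (σ⁻¹ (ptE.symm (ptE (σ ⟨i, hi⟩))))
          simp [ptE, idx_pt (σ ⟨i, hi⟩).isLt]
        rw [this, idx_pt (σ ⟨i, hi⟩).isLt]
      rw [mask_smul_bit _ _ ⟨i, hi⟩, hinv, he, Nat.testBit_xor, hbit _ (σ ⟨i, hi⟩).isLt,
        Nat.testBit_xor, h.cw_apply hg hm ⟨i, hi⟩,
        full_bit d i hi]
      simp only [d]
      cases (cw m).testBit (σ ⟨i, hi⟩).val <;>
        cases (cw m).testBit (σ ⟨23, by norm_num⟩).val <;> cases e <;> rfl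
    · rw [Nat.testBit_lt_two_pow (lt_of_lt_of_le (mask_lt _)
          (Nat.pow_le_pow_right (show 0 < 2 by norm_num) hi)),
        Nat.testBit_lt_two_pow (lt_of_lt_of_le (Nat.xor_lt_two_pow (cw_lt _) (by cases d <;> simp))
          (Nat.pow_le_pow_right (show 0 < 2 by norm_num) hi))]
  rw [key]
  refine inCode_xor (cw_inCode _ (hg.lt m hm)) ?_
  cases d
  · decide +kernel
  · exact pre_check.2.2

theorem Rel.unique {g : ℕ → ℕ} {σ σ' : Equiv.Perm (Fin 24)} (h : Rel g σ) (h' : Rel g σ') :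
    σ = σ' := by
  ext a
  congr 1
  obtain ⟨b, hb, c, hc, hbc⟩ : ∃ b, a ≠ b ∧ ∃ c, a ≠ c ∧ b ≠ c := by
    revert a
    decide
  have e1 := phiF_eq (fun e => hb (σ.injective e)) (fun e => hb (σ'.injective e))
    ((h a b hb).symm.trans (h' a b hb))
  have e2 := phiF_eq (fun e => hc (σ.injective e)) (fun e => hc (σ'.injective e))
    ((h a c hc).symm.trans (h' a c hc))
  have m1 : σ a ∈ ({σ' a, σ' b} : Finset (Fin 24)) := e1 ▸ by simp
  have m2 : σ a ∈ ({σ' a, σ' c} : Finset (Fin 24)) := e2 ▸ by simp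
  simp only [Finset.mem_insert, Finset.mem_singleton] at m1 m2
  rcases m1 with m1 | m1
  · exact m1
  · rcases m2 with m2 | m2
    · exact m2
    · exact absurd (σ'.injective (m1.symm.trans m2)) hbc

theorem Rel.comp {g h : ℕ → ℕ} (hg : Sym g) (hh : Sym h) {σ τ : Equiv.Perm (Fin 24)}
    (r : Rel g σ) (r' : Rel h τ) (hgh : Sym (g ∘ h)) : Rel (g ∘ h) (τ * σ) := by
  intro a b hab
  rw [Equiv.Perm.mul_apply, Equiv.Perm.mul_apply, ← r' _ _ fun e => hab (σ.injective e),
    ← r a b hab]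
  refine par_ext (adj_lt _ _) (adj_lt _ _) fun j hj => ?_
  have h2 : 2 ^ j < 2048 := Nat.pow_lt_pow_right (a := 2) (by norm_num) hj
  rw [par_adj hgh _ _ h2, par_adj hh _ _ h2, par_adj hg _ _ (hh.lt _ h2)]
  rfl

theorem Rel.eq_of {g g' : ℕ → ℕ} (hg : Sym g) (hg' : Sym g') {σ : Equiv.Perm (Fin 24)}
    (r : Rel g σ) (r' : Rel g' σ) {m : ℕ} (hm : m < 2048) : g m = g' m := by
  refine cw_inj (hg.lt m hm) (hg'.lt m hm) (Nat.eq_of_testBit_eq fun i => ?_)
  rcases Nat.lt_or_ge i 24 with hi | hi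
  · rw [r.cw_apply hg hm ⟨i, hi⟩, r'.cw_apply hg' hm ⟨i, hi⟩]
  · rw [cw, cw, Nat.testBit_ofBits_ge _ i hi, Nat.testBit_ofBits_ge _ i hi]

/-- The known symmetry. -/
def fuse (m : ℕ) : ℕ := app fuseCols m

/-- The translation of the points. -/
def shiftF : Equiv.Perm (Fin 24) := ptE.symm.permCongr gT

theorem fuse_check : (List.range 2048).all (fun m => decide (fuse m < 2048) &&
    (inS (fuse m) == inS m && (Nat.beq m 0 || !Nat.beq (fuse m) 0))) = true := by
  decide +kernel

theorem fuse_sym : Sym fuse := by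
  have h : ∀ m < 2048, fuse m < 2048 ∧ inS (fuse m) = inS m ∧ (m = 0 ∨ fuse m ≠ 0) := by
    intro m hm
    have := List.all_eq_true.1 fuse_check m (List.mem_range.2 hm)
    simp only [Bool.and_eq_true, decide_eq_true_eq, beq_iff_eq, Bool.or_eq_true,
      Bool.not_eq_true'] at this
    refine ⟨this.1, this.2.1, this.2.2.imp Nat.eq_of_beq_eq_true fun e he => ?_⟩
    rw [he] at e
    cases e
  refine ⟨fun m hm => (h m hm).1, fun a b _ _ => app_xor _ a b, fun a b ha hb e => ?_,
    fun m hm => (h m hm).2.1⟩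
  rcases (h (a ^^^ b) (xor_lt ha hb)).2.2 with h0 | h0
  · calc a = a ^^^ (a ^^^ b) := by rw [h0, Nat.xor_zero]
      _ = b := by rw [← Nat.xor_assoc, Nat.xor_self, Nat.zero_xor]
  · refine absurd ?_ h0
    show app fuseCols (a ^^^ b) = 0
    rw [app_xor]
    show fuse a ^^^ fuse b = 0
    rw [e, Nat.xor_self]

theorem fuse_rel : Rel fuse shiftF := by
  unfold Rel
  decide +kernel

theorem fuse_facts : fuseSrc < 2048 ∧ fuseSrc ≠ 0 ∧ inS fuseSrc = false ∧
    inS (fuse fuseSrc) = false ∧ entry 4 labB fuseSrc ≠ entry 4 labB (fuse fuseSrc) := by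
  decide +kernel

end CfsgLib.Small.ConTwo.Code
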