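import Cfsg.Agent.Lib.Small.ConTwo.AFrame

/-!
A basis of the abelian group on which the translations and the six transvections act by the
tabulated matrices, up to signs.
-/

set_option autoImplicit false
set_option maxRecDepth 100000
set_option synthInstance.maxSize 4000

namespace CfsgLib.Small.ConTwo

open Equiv

/-- The basis. -/
def basL {G : Type*} (z : G) (b x : ℕ → G) : List G :=
  [z, b 0, b 1, b 2, b 3, x 0, x 1, x 2, x 3, x 4, x 5]

/-- The operators. -/
def opG {G : Type*} (b e : ℕ → G) (g : ℕ) : G := if g < 6 then e g else b (g - 2)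

/-- The columns in the low five bits. -/
def lowCol : List ℕ := [0, 1, 2, 4, 8]

/-- Normalised lifts of the six pairs. -/
structure Lifts {G : Type*} [Group G] (z : G) (Q : Subgroup G) (f : G → V8)
    (ρ : Cz z →* Perm V8) (b x : ℕ → G) : Prop where
  xA : ∀ k < 6, x k ∈ AG Q f
  xI : ∀ k < 6, Img ρ (x k) (sieP (pairP k).1 (pairP k).2)
  xT : ∀ k < 6, ∀ l < 4, b (4 + l) * x k * (b (4 + l))⁻¹ =
    iota (basL z b x) (Code.app (Code.cols.getD (6 + l) []) (2 ^ (5 + k)))

theorem low_of {m : ℕ} (hm : m < 32) : Code.app lowCol m = m / 2 := by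
  revert m
  decide +kernel

theorem trans_col : ∀ k < 6, ∀ l < 4,
    Code.app (Code.cols.getD (6 + l) []) (2 ^ (5 + k)) < 2048 ∧
    Code.app (Code.cols.getD (6 + l) []) (2 ^ (5 + k)) ^^^ 2 ^ (5 + k) < 32 ∧
    ∀ n : Fin 256, n.val = (Code.app (Code.cols.getD (6 + l) []) (2 ^ (5 + k)) ^^^ 2 ^ (5 + k)) / 2 →
      vadd (sie (pairP k).1 (pairP k).2 (bv (4 + l))) (bv (4 + l)) = n := by
  decide +kernel

theorem low_cols : ∀ g < 10, ∀ i < 4,
    Code.zm g (2 ^ (1 + i)) = 0 ∧
    Code.app (Code.cols.getD g []) (2 ^ (1 + i)) =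
      (if g < 6 then (match movB g i with | none => 2 ^ (1 + i) | some m => 2 ^ (1 + i) ^^^ 2 ^ (1 + m))
        else 2 ^ (1 + i) ^^^ (if i = g - 6 then 1 else 0)) ∧
    (g < 6 → ∀ m, movB g i = some m → m < 4) := by
  intro g hg i hi
  interval_cases g <;> interval_cases i <;>
    refine ⟨by decide +kernel, by decide +kernel, ?_⟩ <;>
    (intro hg' m h; simp [movB] at h) <;> omega

theorem trans_col_low : ∀ g, 6 ≤ g → g < 10 → ∀ m : ℕ, Code.zm g m = 0 := fun g h6 _ m => by
  simp [Code.zm, Nat.not_lt.2 h6]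

theorem img_cols : ∀ g < 6, ∀ k < 6,
    Code.app (Code.cols.getD g []) (2 ^ (5 + k)) < 2048 ∧
    (∀ j : Fin 8, sie (pE g).1 (pE g).2 (sie (pairP k).1 (pairP k).2
        (sie (pE g).1 (pE g).2 (ev j))) =
      wap (topW (Code.app (Code.cols.getD g []) (2 ^ (5 + k)) / 32)) (ev j)) := by
  decide +kernel

theorem topW_ok : ∀ t, WordOK (topW t) := fun t => by
  simp only [WordOK, List.all_eq_true, decide_eq_true_eq]
  intro p hp
  obtain ⟨k, hk, hk'⟩ := List.mem_filterMap.1 hp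
  split at hk'
  · obtain rfl := Option.some.inj hk'
    exact (pair_facts k (List.mem_range.1 hk)).1
  · cases hk'

theorem e_span : ∀ g < 6, ∀ v : Fin 16,
    (∀ l < 4, bl (Fin.ofNat 256 v.val) (sie (pE g).1 (pE g).2 (bv (4 + l))) = false) → v = 0 := by
  decide +kernel

theorem span_w : ∀ v : Fin 16,
    (∀ l < 4, bl (Fin.ofNat 256 v.val) (bv (4 + l)) = false) → v = 0 := by
  decide +kernel

theorem adj_w : ∀ v : Fin 16, ∀ l < 4, bl (bv (4 + l)) (Fin.ofNat 256 v.val) = v.val.testBit l := by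
  decide +kernel

/-- The translation commutes with the transvections in the model. -/
theorem model_comm : ∀ g < 6, ∀ k < 6, ∀ l < 4,
    Code.app (Code.cols.getD g []) (Code.app (Code.cols.getD (6 + l) []) (2 ^ (5 + k))) =
      (match movB g (4 + l) with
        | none => Code.app (Code.cols.getD (6 + l) [])
            (Code.app (Code.cols.getD g []) (2 ^ (5 + k)))
        | some m => Code.app (Code.cols.getD (6 + l) []) (Code.app (Code.cols.getD (2 + m) [])
            (Code.app (Code.cols.getD g []) (2 ^ (5 + k))))) := by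
  decide +kernel

theorem movB_high : ∀ g < 6, ∀ l < 4, ∀ m, movB g (4 + l) = some m → 4 ≤ m ∧ m < 8 := by
  intro g hg l hl
  interval_cases g <;> interval_cases l <;> (intro m h; simp [movB] at h) <;> omega

namespace Model

variable {G : Type*} [Group G] {z : G} {Q : Subgroup G} {f : G → V8}
  {ρ : Cz z →* Perm V8} (M : Model z Q f ρ)
  {u : G} {b e x : ℕ → G} (F : Frame z Q f ρ u b e)

include M F

theorem low_b {i : ℕ} (hi : i < 4) : b i ∈ AG Q f := by
  refine M.low_mem (F.bQ i (by omega)) ?_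
  rw [F.bf i (by omega)]
  revert i
  decide +kernel

theorem basL_mem (hx : ∀ k < 6, x k ∈ AG Q f) : ∀ a ∈ basL z b x, a ∈ AG Q f := by
  intro a ha
  simp only [basL, List.mem_cons, List.not_mem_nil, or_false] at ha
  rcases ha with rfl | rfl | rfl | rfl | rfl | rfl | rfl | rfl | rfl | rfl | rfl
  · exact M.z_mem_AG
  all_goals
    first
      | exact M.low_b F (by norm_num)
      | exact hx _ (by norm_num)

omit M F in
theorem iota_split (m : ℕ) : iota (basL z b x) m =
    iota [z, b 0, b 1, b 2, b 3] m * iota [x 0, x 1, x 2, x 3, x 4, x 5] (m / 32) :=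
  iota_append [z, b 0, b 1, b 2, b 3] [x 0, x 1, x 2, x 3, x 4, x 5] m

theorem low_mem_Q : ∀ a ∈ [z, b 0, b 1, b 2, b 3], a ∈ Q := by
  intro a ha
  simp only [List.mem_cons, List.not_mem_nil, or_false] at ha
  rcases ha with rfl | rfl | rfl | rfl | rfl
  · exact M.z_mem
  all_goals exact F.bQ _ (by norm_num)

theorem low_part {m : ℕ} : iota [z, b 0, b 1, b 2, b 3] m ∈ Q ∧
    (m < 32 → (f (iota [z, b 0, b 1, b 2, b 3] m)).val = m / 2) := by
  refine ⟨iota_mem _ _ (M.low_mem_Q F), fun hm => ?_⟩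
  rw [M.iota_f _ _ (M.low_mem_Q F), ← low_of hm]
  congr 1
  simp [lowCol, M.f_z, F.bf, bv]

theorem iota_top (hxI : ∀ k < 6, Img ρ (x k) (sieP (pairP k).1 (pairP k).2)) {m : ℕ}
    (hm : m < 2048) : Img ρ (iota (basL z b x) m) (wperm (topW (m / 32))) := by
  rw [iota_split]
  have h1 := M.img_q (M.low_part F (m := m)).1
  have h2 := iota_img (ρ := ρ) [x 0, x 1, x 2, x 3, x 4, x 5] pairL (m / 32)
    (.cons (hxI 0 (by norm_num)) (.cons (hxI 1 (by norm_num)) (.cons (hxI 2 (by norm_num))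
      (.cons (hxI 3 (by norm_num)) (.cons (hxI 4 (by norm_num)) (.cons (hxI 5 (by norm_num))
        .nil))))))
  have h := h1.mul h2
  have e := List.all_eq_true.1 selW_top (m / 32) (List.mem_range.2 (by omega))
  rw [one_mul, eq_of_beq e] at h
  exact h

theorem iota_low {m : ℕ} (hm : m < 32) :
    iota (basL z b x) m = iota [z, b 0, b 1, b 2, b 3] m := by
  rw [iota_split, Nat.div_eq_of_lt hm, iota_zero, mul_one]

omit M F in
theorem iota_pow {j : ℕ} (hj : j < 11) :
    iota (basL z b x) (2 ^ j) = (basL z b x).getD j 1 := by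
  interval_cases j <;> simp [basL, iota]

theorem iota_x {k : ℕ} (hk : k < 6) : iota (basL z b x) (2 ^ (5 + k)) = x k := by
  rw [iota_pow (by omega)]
  interval_cases k <;> rfl

theorem iota_b {i : ℕ} (hi : i < 4) : iota (basL z b x) (2 ^ (1 + i)) = b i := by
  rw [iota_pow (by omega)]
  interval_cases i <;> rfl

theorem iota_one : iota (basL z b x) 1 = z := iota_pow (j := 0) (by norm_num)

theorem iota_sign (t : Bool) : iota (basL z b x) t.toNat = zp z t := by
  cases t
  · exact iota_zero _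
  · exact M.iota_one F

variable (hc : ∀ a ∈ AG Q f, ∀ c ∈ AG Q f, a * c = c * a) (h2 : ∀ a ∈ AG Q f, a * a = 1)

include hc h2

/-- Every element over a pair can be normalised. -/
theorem exists_lift {g : G} (W : Swap z Q f u g) {k : ℕ} (hk : k < 6) :
    ∃ y, y ∈ AG Q f ∧ Img ρ y (sieP (pairP k).1 (pairP k).2) ∧
      ∀ l < 4, b (4 + l) * y * (b (4 + l))⁻¹ =
        y * iota [z, b 0, b 1, b 2, b 3]
          (Code.app (Code.cols.getD (6 + l) []) (2 ^ (5 + k)) ^^^ 2 ^ (5 + k)) := by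
  classical
  obtain ⟨y, hy, hyI, -⟩ := M.exists_gen W hk
  have hA : AG Q f ≤ Cz z := M.AG_le
  have herr : ∀ l : Fin 4, ∃ s : Bool, b (4 + l) * y * (b (4 + l))⁻¹ =
      y * iota [z, b 0, b 1, b 2, b 3]
        (Code.app (Code.cols.getD (6 + l) []) (2 ^ (5 + k)) ^^^ 2 ^ (5 + k)) * zp z s := by
    intro l
    obtain ⟨-, hlt, htc⟩ := trans_col k hk l l.isLt
    obtain ⟨hLQ, hLf⟩ := M.low_part F
      (m := Code.app (Code.cols.getD (6 + l) []) (2 ^ (5 + k)) ^^^ 2 ^ (5 + k))
    have hfL := hLf hlt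
    have hb := F.bQ (4 + l) (by omega)
    have hd : y⁻¹ * (b (4 + l) * y * (b (4 + l))⁻¹) ∈ Q := by
      rw [show y⁻¹ * (b (4 + l) * y * (b (4 + l))⁻¹) =
        y⁻¹ * b (4 + l) * y⁻¹⁻¹ * (b (4 + l))⁻¹ by group]
      exact mul_mem (M.normal _ (inv_mem (hA hy)) _ hb) (inv_mem hb)
    have hfd : f (y⁻¹ * (b (4 + l) * y * (b (4 + l))⁻¹)) =
        vadd (sie (pairP k).1 (pairP k).2 (bv (4 + l))) (bv (4 + l)) := by
      rw [show y⁻¹ * (b (4 + l) * y * (b (4 + l))⁻¹) =
        y⁻¹ * b (4 + l) * y⁻¹⁻¹ * (b (4 + l))⁻¹ by group,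
        M.f_mul _ (M.normal _ (inv_mem (hA hy)) _ hb) _ (inv_mem hb), M.f_inv hb,
        M.img_conj hyI.inv hb, F.bf (4 + l) (by omega), sieP_inv,
        sieP_apply (p := (pairP k).1) (w := (pairP k).2) (pair_facts k hk).1]
    rw [htc _ hfL] at hfd
    rcases M.f_eq hLQ hd hfd.symm with h | h
    · exact ⟨false, by rw [← h, zp_false, mul_one]; group⟩
    · exact ⟨true, by rw [zp_true, mul_assoc y, ← h]; group⟩
  choose s hs using herr
  obtain ⟨q, hq, hqf⟩ := M.f_surj (Fin.ofNat 256 (Nat.ofBits s))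
  have hlt : Nat.ofBits s < 16 := Nat.ofBits_lt_two_pow s
  have hql : Low (f q) := by
    rw [hqf]
    show Nat.ofBits s % 256 < 16
    omega
  have hqA := M.low_mem hq hql
  refine ⟨y * q, mul_mem hy hqA, M.img_mul_q hyI hq, fun l hl => ?_⟩
  have hbl : bl (f q) (bv (4 + l)) = s ⟨l, hl⟩ := by
    rw [bl_comm, hqf, adj_w ⟨Nat.ofBits s, hlt⟩ l hl, Nat.testBit_ofBits_lt _ l hl]
  have hcq := M.comm hq (F.bQ (4 + l) (by omega))
  rw [F.bf (4 + l) (by omega), hbl] at hcq
  obtain ⟨hLQ, -⟩ := M.low_part F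
    (m := Code.app (Code.cols.getD (6 + l) []) (2 ^ (5 + k)) ^^^ 2 ^ (5 + k))
  have hLA : iota [z, b 0, b 1, b 2, b 3]
      (Code.app (Code.cols.getD (6 + l) []) (2 ^ (5 + k)) ^^^ 2 ^ (5 + k)) ∈ AG Q f :=
    iota_mem _ _ fun a ha => by
      simp only [List.mem_cons, List.not_mem_nil, or_false] at ha
      rcases ha with rfl | rfl | rfl | rfl | rfl
      · exact M.z_mem_AG
      all_goals exact M.low_b F (by norm_num)
  have hs' := hs ⟨l, hl⟩
  simp only at hs'
  generalize iota [z, b 0, b 1, b 2, b 3]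
      (Code.app (Code.cols.getD (6 + l) []) (2 ^ (5 + k)) ^^^ 2 ^ (5 + k)) = L at hs' hLA ⊢
  calc b (4 + l) * (y * q) * (b (4 + l))⁻¹
      = b (4 + l) * y * (b (4 + l))⁻¹ * (b (4 + l) * q) * (b (4 + l))⁻¹ := by group
    _ = b (4 + l) * y * (b (4 + l))⁻¹ * (zp z (s ⟨l, hl⟩) * q) := by rw [hcq]; group
    _ = y * L * zp z (s ⟨l, hl⟩) * (zp z (s ⟨l, hl⟩) * q) := by
        rw [hs']
    _ = y * L * (zp z (s ⟨l, hl⟩) * zp z (s ⟨l, hl⟩)) * q := by group
    _ = y * (L * q) := by rw [← M.zp_xor, Bool.xor_self, zp_false]; group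
    _ = y * q * L := by rw [hc L hLA q hqA, mul_assoc]

end Model

end CfsgLib.Small.ConTwo
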