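import Cfsg.Agent.Lib.Small.ConTwo.Upper

/-!
The two representatives outside `Q` are not conjugate to `z`.
-/

set_option autoImplicit false

namespace CfsgLib.Small.ConTwo

open Equiv

theorem mem_oStab {π : Perm V8} (hO : π ∈ O) :
    ∀ l : List V8, (∀ f ∈ l, π f = f) → π ∈ oStab l
  | [], _ => hO
  | b :: l, h =>
    ⟨mem_oStab hO l fun f hf => h f (List.mem_cons_of_mem _ hf), h b List.mem_cons_self⟩

theorem oStab_bot {l : List V8} (h : ∀ d, (∀ f ∈ l, bl d f = false) → d = 0) : oStab l = ⊥ := by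
  refine (Subgroup.eq_bot_iff_forall _).2 fun π hπ => Equiv.ext fun v => ?_
  have hO := oStab_le l hπ
  refine (vadd_eq_zero (h (vadd v (π v)) fun f hf => ?_)).symm
  rw [bl_vadd_left]
  nth_rw 2 [← oStab_fix l π hπ f hf]
  rw [O_bl hO, Bool.xor_self]

theorem tr_tr (a v : V8) : tr a (tr a v) = v := by
  simp only [tr, bl_vadd_left, bl_sel_left, bl_self, Bool.and_false, Bool.xor_false, vadd_assoc,
    vadd_self, vadd_zero]

/-- A transvection as a permutation. -/
def trP (a : V8) : Perm V8 := Function.Involutive.toPerm (tr a) (tr_tr a)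

theorem trP_mem {a : V8} (h : qb a = true) : trP a ∈ O := by
  refine ⟨fun v w => ?_, fun v => ?_⟩
  · show tr a (vadd v w) = vadd (tr a v) (tr a w)
    simp only [tr, bl_vadd_left, sel_xor]
    ac_rfl
  · show qb (tr a v) = qb v
    simp only [tr, qb_vadd, qb_sel, bl_sel_right, h]
    cases qb v <;> cases bl v a <;> rfl

theorem bound_K {B : Subgroup (Perm V8)} (hB : B ≤ O) (hfix : ∀ π ∈ B, ∀ v ∈ WK, π v = v) :
    Nat.card B < 16 := by
  obtain ⟨hn, hb⟩ := optsK
  have h0 : Nat.card B ≤ Nat.card (oStab WK) :=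
    Subgroup.card_le_of_le fun π hπ => mem_oStab (hB hπ) _ (hfix π hπ)
  have s1 := oStab_step (b := 16) (by decide) WK
  have s2 := oStab_step (b := 32) (by decide) (16 :: WK)
  have s3 := oStab_step (b := 128) (by decide) (32 :: 16 :: WK)
  rw [oStab_bot hb, Subgroup.card_bot, Nat.mul_one] at s3
  have := h0.trans (s1.trans (Nat.mul_le_mul le_rfl (s2.trans (Nat.mul_le_mul le_rfl s3))))
  rw [← Nat.mul_assoc] at this
  omega

theorem bound_B {B : Subgroup (Perm V8)} (hB : B ≤ O) (h2 : IsPGroup 2 B)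
    (hfix : ∀ π ∈ B, ∀ v ∈ WB, π v = v) : Nat.card B < 16 := by
  haveI : Fact (Nat.Prime 2) := ⟨Nat.prime_two⟩
  haveI : Fact (Nat.Prime 3) := ⟨Nat.prime_three⟩
  obtain ⟨hn, hb⟩ := optsB
  obtain ⟨q42, q136, tfix, t3, t1⟩ := tr_facts
  have hle : B ≤ oStab WB := fun π hπ => mem_oStab (hB hπ) _ (hfix π hπ)
  have s1 := oStab_step (b := 16) (by decide) WB
  have s2 := oStab_step (b := 2) (by decide) (16 :: WB)
  have s3 := oStab_step (b := 8) (by decide) (2 :: 16 :: WB)
  rw [oStab_bot hb, Subgroup.card_bot, Nat.mul_one] at s3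
  have hN : Nat.card (oStab WB) ≤ 24 := by
    have := s1.trans (Nat.mul_le_mul le_rfl (s2.trans (Nat.mul_le_mul le_rfl s3)))
    rw [← Nat.mul_assoc] at this
    omega
  by_contra hge
  obtain ⟨n, hn'⟩ := IsPGroup.iff_card.1 h2
  have h16 : 16 ∣ Nat.card (oStab WB) := by
    refine dvd_trans ?_ (Subgroup.card_dvd_of_le hle)
    rw [hn']
    refine Nat.pow_dvd_pow 2 (m := 4) ?_
    by_contra h4
    have := Nat.pow_lt_pow_right (a := 2) (by norm_num) (show n < 4 by omega)
    omega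
  have hτ : trP 42 * trP 136 ∈ oStab WB :=
    mem_oStab (mul_mem (trP_mem q42) (trP_mem q136)) _ tfix
  have ho : orderOf (trP 42 * trP 136) = 3 := by
    refine orderOf_eq_prime (Equiv.ext fun v => t3 v) fun e => ?_
    obtain ⟨v, hv⟩ := t1
    exact hv (congrArg (fun p : Perm V8 => p v) e)
  have h3 : 3 ∣ Nat.card (oStab WB) := ho ▸ Subgroup.orderOf_dvd_natCard _ hτ
  have hpos : 0 < Nat.card (oStab WB) := Nat.card_pos
  omega

namespace Model

variable {G : Type*} [Group G] {z : G} {Q : Subgroup G} {f : G → V8}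
  {ρ : Cz z →* Perm V8} (M : Model z Q f ρ)

include M

/-- An involution moving an element over its fixed space is far from `Q`. -/
theorem not_near {t r : G} {π : Perm V8} (ht : Img ρ t π) (hπ : π ≠ 1) (h2 : t * t = 1)
    (hr : r ∈ Q) (hfix : π (f r) = f r) (hne : t * r ≠ r * t) : ¬ PNear z Q t := by
  rintro ⟨v, hv, hi⟩
  obtain ⟨u, g, W⟩ := M.exists_Swap
  obtain ⟨c, hc, hcv⟩ := M.nc_trans hv W.nc
  have hiu := InQ_conj c hi
  rw [hcv] at hiu
  have hQ := M.InQ_any hiu W.gz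
  have hI := ht.conj (Img.mk' (ρ := ρ) hc)
  obtain ⟨w, hw, he⟩ := M.D_trans W hI hQ
  rw [he] at hI
  have hne1 : sieP pt w ≠ 1 := by
    rw [← he]
    exact fun e => hπ (conj_eq_one_iff.1 e)
  have h0 : w ≠ 0 := fun e => hne1 (by rw [e]; exact sieP_zero)
  have h1 : w ≠ pt := fun e => hne1 (by rw [e]; exact sieP_pt)
  have h := M.D_fix_comm W hI hQ hw h0 h1 (M.normal c hc r hr) (by
    rw [← he, M.img_conj (Img.mk' (ρ := ρ) hc) hr]
    simp [Perm.mul_apply, hfix])
  refine hne ?_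
  calc t * r = c⁻¹ * (c * t * c⁻¹ * (c * r * c⁻¹)) * c := by group
    _ = r * t := by rw [h]; group

theorem moved {t v : G} {π : Perm V8} {a : V8} (ht : Fn Q f ρ t π a) (hv : v ∈ Q)
    (hfix : π (f v) = f v) (hb : bl a (f v) = true) : t * v ≠ v * t := by
  intro e
  have h := ht.2 v hv hfix
  rw [e, mul_inv_cancel_right, hb, zp_true] at h
  exact M.z_ne (mul_eq_left.1 h.symm)

theorem unmoved {t v : G} {π : Perm V8} {a : V8} (ht : Fn Q f ρ t π a) (hv : v ∈ Q)
    (hfix : π (f v) = f v) (hb : bl a (f v) = false) : t * v = v * t := by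
  have h := ht.2 v hv hfix
  rw [hb, zp_false, mul_one] at h
  exact mul_inv_eq_iff_eq_mul.1 h

/-- A large centraliser in `Q` of an element of the centraliser. -/
theorem sixteen [Finite G] {t : G} (ht : t ∈ Cz z) (h2 : t * t = 1) (hQ : t ∉ Q) :
    16 ≤ Nat.card (Q ⊓ Subgroup.centralizer ({t} : Set G) : Subgroup G) := by
  classical
  obtain ⟨π, hπ⟩ : ∃ π, Img ρ t π := ⟨_, Img.mk' ht⟩
  obtain ⟨c, hc, l, hl, he⟩ := M.invol π hπ.mem_range ((h2 ▸ hπ.mul hπ).unique Img.one)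
    (fun e => hQ (M.img_one_mem (e ▸ hπ)))
  obtain ⟨L, B, D⟩ := reps_data l hl
  set S : Subgroup G := Q ⊓ Subgroup.centralizer ({t} : Set G) with hS
  let F := (List.finRange 256).filter fun v => wap l v == v
  have hFd : F.Nodup := List.Nodup.filter _ (List.nodup_finRange 256)
  let X := {q : G // q ∈ Q ∧ π (f q) = f q}
  have hq : ∀ i : Fin F.length, ∃ q ∈ Q, f q = c⁻¹ F[i] := fun i => M.f_surj _
  choose q hqQ hqf using hq
  have hfix : ∀ i, π (f (q i)) = f (q i) := by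
    intro i
    have hm : wap l F[i] = F[i] := by
      have h := (List.mem_filter.1 (List.getElem_mem i.2)).2
      simpa using h
    rw [hqf]
    apply c.injective
    rw [show c (c⁻¹ F[i]) = F[i] from c.apply_symm_apply _]
    nth_rw 2 [← hm]
    rw [← wperm_apply D.ok, ← he]
    rfl
  have hfz : ∀ i b, f (q i * zp z b) = f (q i) := by
    intro i b
    cases b
    · rw [zp_false, mul_one]
    · exact M.f_mul_z (hqQ i)
  have hzQ : ∀ b, zp z b ∈ Q := by
    intro b
    cases b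
    · exact one_mem Q
    · exact M.z_mem
  let ι : Fin F.length × Bool → X := fun p =>
    ⟨q p.1 * zp z p.2, mul_mem (hqQ p.1) (hzQ p.2), by rw [hfz]; exact hfix p.1⟩
  have hι : Function.Injective ι := by
    rintro ⟨i, a⟩ ⟨j, b⟩ e
    have e' : q i * zp z a = q j * zp z b := congrArg Subtype.val e
    have hij : i = j := by
      have h := congrArg f e'
      rw [hfz, hfz, hqf, hqf] at h
      exact Fin.ext (hFd.getElem_inj_iff.1 ((c⁻¹).injective h))
    subst hij
    rw [M.zp_inj (mul_left_cancel e')]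
  have hX : 32 ≤ Nat.card X := by
    have h := Nat.card_le_card_of_injective ι hι
    have hb : Nat.card Bool = 2 := by simp
    rw [Nat.card_prod, Nat.card_fin, hb] at h
    have hF : 16 ≤ F.length := fix16 l hl
    omega
  have hmem : ∀ x : G, x ∈ Q → x * t = t * x → x ∈ S := fun x h h' =>
    ⟨h, Subgroup.mem_centralizer_singleton_iff.2 h'⟩
  have anti : ∀ x : X, (x : G) * t ≠ t * x → t * x * t⁻¹ = x * z := by
    intro x hne
    have hf : f x.1 = f (t * x * t⁻¹) := by rw [M.img_conj hπ x.2.1, x.2.2]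
    rcases M.f_eq x.2.1 (M.normal t ht _ x.2.1) hf with h | h
    · exact absurd (mul_inv_eq_iff_eq_mul.1 h).symm hne
    · exact h
  have main : Nat.card X ≤ Nat.card S * 2 := by
    by_cases hall : ∀ x : X, (x : G) * t = t * x
    · refine le_trans (Nat.card_le_card_of_injective
        (fun x : X => (⟨x, hmem _ x.2.1 (hall x)⟩ : S)) fun x y h => Subtype.ext
          (congrArg (fun s : S => (s : G)) h)) ?_
      omega
    push Not at hall
    obtain ⟨p, hp⟩ := hall
    have hmk : ∀ x : X, (x : G) * t ≠ t * x → (x : G) * p ∈ S := by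
      intro x hne
      refine hmem _ (mul_mem x.2.1 p.2.1) ?_
      refine (mul_inv_eq_iff_eq_mul.1 ?_).symm
      calc t * ((x : G) * p) * t⁻¹ = (t * x * t⁻¹) * (t * p * t⁻¹) := by group
        _ = x * (z * p) * z := by rw [anti x hne, anti p hp]; group
        _ = x * p * (z * z) := by rw [← mem_Cz.1 (M.le p.2.1)]; group
        _ = x * p := by rw [M.zz, mul_one]
    let κ : X → S × Bool := fun x => if h : (x : G) * t = t * x then (⟨x, hmem _ x.2.1 h⟩, false)
      else (⟨x * p, hmk x h⟩, true)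
    have h := Nat.card_le_card_of_injective κ fun x y e => by
      simp only [κ] at e
      split at e <;> split at e <;> simp only [Prod.mk.injEq, Subtype.mk.injEq, Bool.false_eq_true,
        Bool.true_eq_false, and_false, and_true, mul_left_inj] at e <;> exact Subtype.ext e
    have hb : Nat.card Bool = 2 := by simp
    rwa [Nat.card_prod, hb] at h
  omega

/-- An involution with a moved fixed element and a rigid centraliser is not conjugate to `z`. -/
theorem not_conj_z [Finite G] {t h : G} {l : List (V8 × V8)} {L : List V8} {B : List (V8 × V8)}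
    (D : RepData l L B) {a v0 : V8} {WL : List V8} (ht : Fn Q f ρ t (wperm l) a) (h2 : t * t = 1)
    (hv0 : wap l v0 = v0) (hb0 : bl a v0 = true)
    (hW : ∀ v ∈ WL, wap l v = v ∧ bl a v = false)
    (hbd : ∀ B : Subgroup (Perm V8), B ≤ O → IsPGroup 2 B → (∀ π ∈ B, ∀ v ∈ WL, π v = v) →
      Nat.card B < 16) : h * z * h⁻¹ ≠ t := by
  obtain ⟨r0, hr0, hr0f⟩ := M.f_surj v0
  have hnear : ¬ PNear z Q t := M.not_near ht.1 D.ne_one h2 hr0
    (by rw [hr0f, wperm_apply D.ok, hv0])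
    (M.moved ht hr0 (by rw [hr0f, wperm_apply D.ok, hv0]) (by rw [hr0f]; exact hb0))
  intro hh
  have htQ : t ∉ Q := M.not_mem_of_img ht.1 D.ne_one
  have hzh : h * z = t * h := by rw [← hh]; group
  set t' := h⁻¹ * z * h with ht'def
  have ht'C : t' ∈ Cz z := mem_Cz.2 (by
    calc h⁻¹ * z * h * z = h⁻¹ * z * (h * z) := by group
      _ = h⁻¹ * (z * t) * h := by rw [hzh]; group
      _ = h⁻¹ * (t * z) * h := by rw [mem_Cz.1 ht.1.mem]
      _ = h⁻¹ * t * h * (h⁻¹ * z * h) := by group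
      _ = z * (h⁻¹ * z * h) := by rw [← hh]; group)
  have ht'2 : t' * t' = 1 := by
    calc h⁻¹ * z * h * (h⁻¹ * z * h) = h⁻¹ * (z * z) * h := by group
      _ = 1 := by rw [M.zz]; group
  have ht'z : t' ≠ z := fun e => htQ (by
    have : z = t := by
      calc z = h * t' * h⁻¹ := by rw [ht'def]; group
        _ = t := by rw [e, hh]
    exact this ▸ M.z_mem)
  have ht'1 : t' ≠ 1 := fun e => M.z_ne (by
    calc z = h * t' * h⁻¹ := by rw [ht'def]; group
      _ = 1 := by rw [e]; group)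
  have ht'Q : t' ∉ Q := fun e => htQ (by
    have h1 := M.InQ_any (M.InQ_self_z ⟨e, ht'2, ht'1, ht'z⟩) (g := h⁻¹)
      (by rw [inv_inv])
    rwa [inv_inv, hh] at h1)
  have hswap : h * t' * h⁻¹ = z := by rw [ht'def]; group
  -- no conjugate of `z` in `Q` is close to `t'`
  have hnear' : ¬ PNear z Q t' := by
    rintro ⟨v, hv, hi⟩
    have hi' := InQ_conj h hi
    rw [hswap] at hi'
    obtain ⟨k, hk⟩ := M.nc_conj_z hv
    have hw : ∃ k : G, k * z * k⁻¹ = h * v * h⁻¹ := ⟨h * k, by rw [← hk]; group⟩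
    have hwz : h * v * h⁻¹ ≠ z := fun e => ht'Q (by
      have : v = t' := by
        calc v = h⁻¹ * (h * v * h⁻¹) * h := by group
          _ = t' := by rw [e]
      exact this ▸ hv.1)
    have hw2 : h * v * h⁻¹ * (h * v * h⁻¹) = 1 := conj_sq_one h hv.2.1
    have hw1 : h * v * h⁻¹ ≠ 1 := fun e => hv.2.2.1 (conj_eq_one_iff.1 e)
    have hwQ : h * v * h⁻¹ ∈ Q := M.InQ_z.1 (M.InQ_symm hw M.zz M.z_ne hwz.symm hi')
    have hwnc : Nc z Q (h * v * h⁻¹) := ⟨hwQ, hw2, hw1, hwz⟩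
    refine hnear ⟨_, hwnc, M.InQ_symm ⟨h, hh⟩ hw2 hw1 (fun e => htQ (e ▸ hwQ)) ⟨h, hh, ?_⟩⟩
    rw [show h⁻¹ * (h * v * h⁻¹) * h = v by group]
    exact hv.1
  have htriv : ∀ q ∈ Q, h⁻¹ * q * h ∈ Q → q = 1 := by
    intro q hq hq'
    by_contra hq1
    have hq2 : q * q = 1 := by
      cases hb : qb (f q)
      · rw [M.sq_zp hq, hb, zp_false]
      · exfalso
        refine ht'Q ?_
        have hm := mul_mem hq' hq'
        rw [show h⁻¹ * q * h * (h⁻¹ * q * h) = h⁻¹ * (q * q) * h by group, M.sq_zp hq, hb,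
          zp_true] at hm
        exact hm
    have hqz : q ≠ z := fun e => ht'Q (by rwa [e] at hq')
    exact hnear ⟨q, ⟨hq, hq2, hq1, hqz⟩, M.InQ_symm ⟨h, hh⟩ hq2 hq1
      (fun e => htQ (e ▸ hq)) ⟨h, hh, hq'⟩⟩
  let S : Subgroup G := Q ⊓ Subgroup.centralizer ({t'} : Set G)
  have hS : ∀ x, x ∈ S ↔ x ∈ Q ∧ x * t' = t' * x := fun x =>
    and_congr Iff.rfl Subgroup.mem_centralizer_singleton_iff
  have hCS : ∀ x ∈ S, h * x * h⁻¹ ∈ Cz z := fun x hx => mem_Cz.2 (by
    rw [← hswap]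
    calc h * x * h⁻¹ * (h * t' * h⁻¹) = h * (x * t') * h⁻¹ := by group
      _ = _ := by rw [((hS x).1 hx).2]; group)
  let φ : S →* Perm V8 := ρ.comp
    (((MulAut.conj h).toMonoidHom.comp S.subtype).codRestrict (Cz z) fun x => hCS x.1 x.2)
  have hφI : ∀ x : S, Img ρ (h * (x : G) * h⁻¹) (φ x) := fun x => ⟨hCS x.1 x.2, rfl⟩
  have hfix : ∀ (x : S) (y : G), y ∈ Q → y * t = t * y → φ x (f y) = f y := by
    intro x y hy hyt
    have hyC : h⁻¹ * y * h ∈ Cz z := mem_Cz.2 (by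
      calc h⁻¹ * y * h * z = h⁻¹ * y * (h * z) := by group
        _ = h⁻¹ * (y * t) * h := by rw [hzh]; group
        _ = h⁻¹ * t * h * (h⁻¹ * y * h) := by rw [hyt]; group
        _ = z * (h⁻¹ * y * h) := by rw [← hh]; group)
    have hx := ((hS x.1).1 x.2).1
    have k1 : h * (x : G) * h⁻¹ * y * (h * (x : G) * h⁻¹)⁻¹ * y⁻¹ ∈ Q :=
      mul_mem (M.normal _ (hφI x).mem y hy) (inv_mem hy)
    have k2 : h⁻¹ * (h * (x : G) * h⁻¹ * y * (h * (x : G) * h⁻¹)⁻¹ * y⁻¹) * h ∈ Q := by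
      have := mul_mem hx (M.normal _ hyC _ (inv_mem hx))
      rwa [show (x : G) * (h⁻¹ * y * h * (x : G)⁻¹ * (h⁻¹ * y * h)⁻¹) =
        h⁻¹ * (h * (x : G) * h⁻¹ * y * (h * (x : G) * h⁻¹)⁻¹ * y⁻¹) * h by group] at this
    rw [← M.img_conj (hφI x) hy, mul_inv_eq_one.1 (htriv _ k1 k2)]
  have hinj : Function.Injective φ := by
    intro x y hxy
    have hq : h * ((x : G)⁻¹ * (y : G)) * h⁻¹ ∈ Q := by
      have hI := (hφI x).inv.mul (hxy ▸ hφI y)
      rw [inv_mul_cancel] at hI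
      rw [show h * ((x : G)⁻¹ * (y : G)) * h⁻¹ = (h * x * h⁻¹)⁻¹ * (h * y * h⁻¹) by group]
      exact M.img_one_mem hI
    have hq' : h⁻¹ * (h * ((x : G)⁻¹ * (y : G)) * h⁻¹) * h ∈ Q := by
      rw [show h⁻¹ * (h * ((x : G)⁻¹ * (y : G)) * h⁻¹) * h = (x : G)⁻¹ * y by group]
      exact mul_mem (inv_mem ((hS x.1).1 x.2).1) ((hS y.1).1 y.2).1
    exact Subtype.ext (inv_mul_eq_one.1 (conj_eq_one_iff.1 (htriv _ hq hq')))
  have hSp : IsPGroup 2 S := M.isPGroup.to_le inf_le_left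
  have hcard : 16 ≤ Nat.card φ.range := by
    rw [← Nat.card_congr (MonoidHom.ofInjective hinj).toEquiv]
    exact M.sixteen ht'C ht'2 ht'Q
  have hlt : Nat.card φ.range < 16 := by
    refine hbd _ ?_ (hSp.of_surjective φ.rangeRestrict φ.rangeRestrict_surjective) ?_
    · rintro _ ⟨x, rfl⟩
      exact M.range_le (hφI x).mem_range
    · rintro _ ⟨x, rfl⟩ v hv
      obtain ⟨y, hy, hyf⟩ := M.f_surj v
      have hyt := M.unmoved ht hy (by rw [hyf, wperm_apply D.ok, (hW v hv).1])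
        (by rw [hyf]; exact (hW v hv).2)
      have h' := hfix x y hy hyt.symm
      rwa [hyf] at h'
  omega

theorem k_not_z [Finite G] {k b : G} (T : Two z Q f ρ k b) (h : G) : h * z * h⁻¹ ≠ k := by
  obtain ⟨v, hv, hb⟩ := WK_facts.2.2.2.2.2.2.2
  exact M.not_conj_z dataA T.k_fn T.k_sq hv hb WK_facts.1 fun B hB _ hfix => bound_K hB hfix

theorem b_not_z [Finite G] {k b : G} (T : Two z Q f ρ k b) (h : G) : h * z * h⁻¹ ≠ b := by
  obtain ⟨v, hv, hb⟩ := WB_facts.2.2.2.2.2
  exact M.not_conj_z dataC T.b_fn T.b_sq hv hb WB_facts.1 fun B hB => bound_B hB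

end Model

end CfsgLib.Small.ConTwo
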