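import Cfsg.Agent.Lib.Small.ConTwo.Invol
import Cfsg.Agent.Lib.Small.ConTwo.Lower

/-!
Change of coordinates by an orthogonal map.
-/

set_option autoImplicit false

namespace CfsgLib.Small.ConTwo

open Equiv

namespace Model

variable {G : Type*} [Group G] {z : G} {Q : Subgroup G} {f : G → V8}
  {ρ : Cz z →* Perm V8} (M : Model z Q f ρ)

include M

/-- Coordinates changed by an orthogonal map. -/
theorem recoord {τ : Perm V8} (hτ : τ ∈ O) :
    Model z Q (fun x => τ (f x)) ((MulAut.conj τ).toMonoidHom.comp ρ) := by
  have hφ : ∀ c, (MulAut.conj τ).toMonoidHom.comp ρ c = τ * ρ c * τ⁻¹ := fun c => rfl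
  have hrange : ((MulAut.conj τ).toMonoidHom.comp ρ).range =
      ρ.range.map (MulAut.conj τ).toMonoidHom := by
    rw [MonoidHom.map_range]
  have hle : ((MulAut.conj τ).toMonoidHom.comp ρ).range ≤ O := by
    rintro _ ⟨c, rfl⟩
    rw [hφ]
    exact mul_mem (mul_mem hτ (M.range_le ⟨c, rfl⟩)) (inv_mem hτ)
  have hcard : Nat.card ((MulAut.conj τ).toMonoidHom.comp ρ).range = 174182400 := by
    rw [hrange, Subgroup.card_map_of_injective (MulAut.conj τ).injective, M.ρ_card]
  exact
    { ord := M.ord
      le := M.le
      normal := M.normal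
      card := M.card
      z_mem := M.z_mem
      f_mul := fun q hq r hr => by rw [M.f_mul q hq r hr, O_add hτ]
      f_ker := fun q hq => by
        rw [← M.f_ker q hq]
        constructor
        · intro h
          exact τ.injective (h.trans (O_zero hτ).symm)
        · intro h
          rw [h, O_zero hτ]
      f_surj := fun v => by
        obtain ⟨q, hq, he⟩ := M.f_surj (τ⁻¹ v)
        exact ⟨q, hq, by rw [he]; exact τ.apply_symm_apply v⟩
      f_sq := fun q hq => by rw [O_q hτ]; exact M.f_sq q hq
      ρ_conj := fun c q hq => by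
        rw [hφ, Perm.mul_apply, Perm.mul_apply, show τ⁻¹ (τ (f q)) = f q from τ.symm_apply_apply _,
          M.ρ_conj c q hq]
      ρ_ker := fun c => by rw [← M.ρ_ker c, hφ, conj_eq_one_iff]
      ρ_card := hcard
      nwc := M.nwc
      sie_mem := fun p w => sieP_mem_R hle hcard p w
      invol := fun _ hπ h2 h1 => invol_conj hle hcard hπ h2 h1 }

end Model

end CfsgLib.Small.ConTwo
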