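import Cfsg.Agent.Lib.Small.ConTwo.Fuse
import Cfsg.Agent.Lib.Small.ConTwo.ATwist

/-!
In one of the two families of totally singular four-spaces the lifts of complementary
translations commute.
-/

set_option autoImplicit false
set_option maxRecDepth 100000
set_option synthInstance.maxSize 4000

namespace CfsgLib.Small.ConTwo

open Equiv

theorem fam_table : bl 8 128 = true ∧ qb 8 = false ∧ qb 128 = false ∧
    (∀ a ∈ [(2 : V8), 4, 8, 128, 32, 64], bl a pt = false ∧ qb a = false) ∧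
    (∀ v ∈ LE, qb v = false → v ∈ LE.filter fun x => !qb x) ∧
    (LE.filter fun x => !qb x).length = 8 ∧ LA.length = 4 ∧ LC.length = 4 ∧
    (∀ a b c : Bool, (vadd (vadd (sel a 2) (sel b 4)) (sel c 128) = 0 ∨
      vadd (vadd (sel a 2) (sel b 4)) (sel c 128) = pt) → a = false ∧ b = false ∧ c = false) ∧
    (∀ a b c : Bool, bl (vadd (vadd (sel a 2) (sel b 4)) (sel c 128)) pt = false) ∧
    sie 2 4 8 = 8 ∧ sie 2 4 128 = 128 ∧ sie 2 4 pt = pt ∧ sie 2 4 32 = 36 ∧ sie 2 4 64 = 66 ∧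
    vadd 32 4 = 36 ∧ vadd 64 2 = 66 ∧ sie pt 8 8 = 8 ∧ bl 128 128 = false := by
  decide +kernel

theorem fam_comb : (∀ a b : Bool, bl (vadd (sel a 2) (sel b 4)) pt = false) ∧
    (∀ a : Bool, bl (sel a 2) pt = false ∧ bl (sel a 4) pt = false ∧ bl (sel a 128) pt = false) ∧
    ∀ a b c : Bool, qb (vadd (vadd (sel a 2) (sel b 4)) (sel c 128)) = false := by
  decide +kernel

theorem comb_zero {x y : V8} (h : vadd x y = 0 ∨ vadd x y = pt) (a : V8) :
    vadd (vadd a x) (vadd a y) = 0 ∨ vadd (vadd a x) (vadd a y) = pt := by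
  rw [vadd_four, vadd_self, zero_vadd]
  exact h

namespace Model

variable {G : Type*} [Group G] {z : G} {Q : Subgroup G} {f : G → V8}
  {ρ : Cz z →* Perm V8} (M : Model z Q f ρ) {u g : G} (W : Swap z Q f u g)

include M W

/-- The commutator of a translation with an element centralising `u`. -/
theorem D_commutator {x a : G} (hx' : g⁻¹ * x * g ∈ Q) (hau : a * u = u * a)
    (hκ : a * x * a⁻¹ * x⁻¹ ∈ Q) :
    f (a * x * a⁻¹ * x⁻¹) = 0 ∨ f (a * x * a⁻¹ * x⁻¹) = pt := by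
  refine M.R0_f W hκ ?_
  have h2 : g⁻¹ * x⁻¹ * g ∈ Q := by
    have h := inv_mem hx'
    rwa [show (g⁻¹ * x * g)⁻¹ = g⁻¹ * x⁻¹ * g by group] at h
  exact M.D_mul_mem W (M.D_conj_mem W hau hx') h2

/-- A lift of the second factor. -/
theorem exists_y : ∃ y, Img ρ y (sieP 2 4) ∧ y * y = 1 ∧
    (∀ q ∈ Q, sieP 2 4 (f q) = f q → y * q = q * y) ∧ y * u = u * y ∧
    ∀ x, g⁻¹ * x * g ∈ Q → ∀ w, (w = 8 ∨ w = 128) → Img ρ x (sieP pt w) → x * x = 1 →
      y * x * y⁻¹ = x ∨ y * x * y⁻¹ = x * z := by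
  obtain ⟨x0, hx0, hx0', hx02⟩ := M.DInv_sing W (w := 8) (by decide +kernel) (by decide +kernel)
  obtain ⟨T', hT⟩ := M.lift moveT
  have hτ : wperm moveT * sieP pt 8 * (wperm moveT)⁻¹ = sieP 2 4 := by
    rw [O_sieP (wperm_mem_O _) (sieOK_pt (by decide +kernel)), wperm_apply moveT_ok.1,
      wperm_apply moveT_ok.1, moveT_ok.2.1, moveT_ok.2.2]
  have hy : Img ρ (T' * x0 * T'⁻¹) (sieP 2 4) := hτ ▸ hx0.conj hT
  have hy2 : T' * x0 * T'⁻¹ * (T' * x0 * T'⁻¹) = 1 := conj_sq_one T' hx02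
  have fix2 : ∀ q ∈ Q, sieP 2 4 (f q) = f q → T' * x0 * T'⁻¹ * q = q * (T' * x0 * T'⁻¹) := by
    intro q hq hfix
    have hq' : T'⁻¹ * q * T'⁻¹⁻¹ ∈ Q := M.normal _ (inv_mem hT.mem) q hq
    have h := M.D_fix_comm W hx0 hx0' (by decide +kernel) (by decide) (by decide +kernel) hq' (by
      rw [M.img_conj hT.inv hq]
      apply (wperm moveT).injective
      rw [show wperm moveT ((wperm moveT)⁻¹ (f q)) = f q from Equiv.apply_symm_apply _ _]
      nth_rw 2 [← hfix]
      rw [← hτ]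
      rfl)
    calc T' * x0 * T'⁻¹ * q = T' * (x0 * (T'⁻¹ * q * T'⁻¹⁻¹)) * T'⁻¹ := by group
      _ = q * (T' * x0 * T'⁻¹) := by rw [h]; group
  have h24 : SieOK (2, 4) := by decide +kernel
  obtain ⟨-, -, -, -, -, -, -, -, -, -, -, -, hpt24, -⟩ := fam_table
  have hyu := fix2 u W.nc.1 (by rw [W.fu, sieP_apply h24, hpt24])
  refine ⟨_, hy, hy2, fix2, hyu, fun x hx' w hw hx hx2 => ?_⟩
  have hw3 : w = 8 ∨ w = 128 ∨ w = 136 := by tauto
  have hwp : bl w pt = false ∧ w ≠ 0 ∧ w ≠ pt := by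
    rcases hw with rfl | rfl <;> decide +kernel
  have hu2Q : T' * u * T'⁻¹ ∈ Q := M.normal _ hT.mem u W.nc.1
  have hu2 : f (T' * u * T'⁻¹) = 2 := by
    rw [M.img_conj hT W.nc.1, W.fu, wperm_apply moveT_ok.1, moveT_ok.2.1]
  have hxu2 : x * (T' * u * T'⁻¹) = T' * u * T'⁻¹ * x :=
    M.D_fix_comm W hx hx' hwp.1 hwp.2.1 hwp.2.2 hu2Q (by
      rw [hu2, sieP_apply (sieOK_pt hwp.1)]
      exact (four_comm w hw3).1.1)
  generalize hye : T' * x0 * T'⁻¹ = y at hy hy2 hyu
  have hperm : sieP 2 4 * sieP pt w * (sieP 2 4)⁻¹ * (sieP pt w)⁻¹ = 1 := by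
    rw [← (four_perm hw3).1, mul_inv_cancel_right, mul_inv_cancel]
  have hκQ : y * x * y⁻¹ * x⁻¹ ∈ Q := by
    have h := (hx.conj hy).mul hx.inv
    rw [hperm] at h
    exact M.img_one_mem h
  have h1 := M.D_commutator W hx' hyu hκQ
  have hQ' := M.normal _ (inv_mem hT.mem) _ hκQ
  have hau : T'⁻¹ * x * T' * u = u * (T'⁻¹ * x * T') := by
    calc T'⁻¹ * x * T' * u = T'⁻¹ * (x * (T' * u * T'⁻¹)) * T' := by group
      _ = u * (T'⁻¹ * x * T') := by rw [hxu2]; group
  have e : T'⁻¹ * (y * x * y⁻¹ * x⁻¹) * T'⁻¹⁻¹ =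
      (T'⁻¹ * x * T' * x0 * (T'⁻¹ * x * T')⁻¹ * x0⁻¹)⁻¹ := by
    rw [← hye]; group
  rw [e] at hQ'
  have hQ'' := inv_mem hQ'
  rw [inv_inv] at hQ''
  have h2 := M.D_commutator W hx0' hau hQ''
  rw [← M.f_inv hQ'', ← e, M.img_conj hT.inv hκQ] at h2
  have h0 : f (y * x * y⁻¹ * x⁻¹) = 0 := by
    rcases h1 with h | h
    · exact h
    · rcases h2 with h' | h' <;> have h'' := congrArg (wperm moveT) h' <;>
        rw [show wperm moveT ((wperm moveT)⁻¹ (f (y * x * y⁻¹ * x⁻¹))) =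
          f (y * x * y⁻¹ * x⁻¹) from Equiv.apply_symm_apply _ _, wperm_apply moveT_ok.1] at h''
      · rw [h'', ← wperm_apply moveT_ok.1, O_zero (wperm_mem_O _)]
      · rw [h, moveT_ok.2.1] at h''
        exact absurd h'' (by decide +kernel)
  rcases (M.f_ker _ hκQ).1 h0 with h | h
  · exact Or.inl (mul_inv_eq_one.1 h)
  · refine Or.inr ?_
    calc y * x * y⁻¹ = y * x * y⁻¹ * x⁻¹ * x := by group
      _ = x * z := by rw [h, ← mem_Cz.1 hx.mem]

omit M in
theorem z_to_u : g⁻¹ * z * g = u := W.zg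

/-- One of the two commutators is trivial. -/
theorem one_family [Finite G] : ∃ y x, (y * y = 1 ∧ Img ρ y (sieP 2 4) ∧ y * u = u * y ∧
      (∀ q ∈ Q, sieP 2 4 (f q) = f q → y * q = q * y)) ∧
    ∃ w, (w = 8 ∨ w = 128) ∧ Img ρ x (sieP pt w) ∧ g⁻¹ * x * g ∈ Q ∧ x * x = 1 ∧
      y * x * y⁻¹ = x := by
  obtain ⟨y, hy, hy2, fix2, hyu, hcomm⟩ := M.exists_y W
  obtain ⟨b88, q8, q128, hsix, hLE, hLEc, hLA, hLC, hind, hperp, f8, f128, -, f32, f64, e36, e66,
    s88, -⟩ := fam_table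
  have hD : ∀ a ∈ [(2 : V8), 4, 8, 128, 32, 64],
      ∃ x, Img ρ x (sieP pt a) ∧ g⁻¹ * x * g ∈ Q ∧ x * x = 1 :=
    fun a ha => M.DInv_sing W (hsix a ha).1 (hsix a ha).2
  obtain ⟨x8, hx8, hx8', hx82⟩ := hD 8 (by simp)
  obtain ⟨xh, hxh, hxh', hxh2⟩ := hD 128 (by simp)
  rcases hcomm x8 hx8' 8 (Or.inl rfl) hx8 hx82 with h8 | h8
  · exact ⟨y, x8, ⟨hy2, hy, hyu, fix2⟩, 8, Or.inl rfl, hx8, hx8', hx82, h8⟩
  rcases hcomm xh hxh' 128 (Or.inr rfl) hxh hxh2 with hh | hh
  · exact ⟨y, xh, ⟨hy2, hy, hyu, fix2⟩, 128, Or.inr rfl, hxh, hxh', hxh2, hh⟩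
  exfalso
  have h24 : SieOK (2, 4) := by decide +kernel
  obtain ⟨r, hr, hrf⟩ := M.f_surj (8 : V8)
  have hru : r * u = u * r := M.perp_comm W hr (by rw [hrf]; exact (hsix 8 (by simp)).1)
  have hyr : y * r = r * y := fix2 r hr (by rw [hrf, sieP_apply h24]; exact f8)
  have hr2 : r * r = 1 := by rw [M.sq_zp hr, hrf, q8, zp_false]
  have hx8r : x8 * r = r * x8 := M.D_fix_comm W hx8 hx8' (hsix 8 (by simp)).1 (by decide)
    (by decide +kernel) hr (by rw [hrf, sieP_apply (sieOK_pt (hsix 8 (by simp)).1)]; exact s88)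
  have hxhr : r * xh * r⁻¹ = xh * (u * z) := by
    have h := M.D_comm W hxh hxh' (hsix 128 (by simp)).1 r hr
      (by rw [hrf]; exact (hsix 8 (by simp)).1)
    rw [hrf, b88] at h
    have hinv := inv_eq_of_mul_eq_one_right hxh2
    have hrinv := inv_eq_of_mul_eq_one_right hr2
    calc r * xh * r⁻¹ = r * (xh * r * xh⁻¹) * xh := by rw [hrinv, hinv]; simp [mul_assoc, hxh2]
      _ = (r * r) * (u * z) * xh := by rw [h]; simp [up, mul_assoc]
      _ = xh * (u * z) := by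
          rw [hr2, one_mul]
          exact ((show Commute xh u from M.D_comm_u W hxh').mul_right (mem_Cz.1 hxh.mem)).symm.eq
  have hrinv' : r * y = y * r := hyr.symm
  set t := y * r with htdef
  have htu : t * u = u * t := ((show Commute y u from hyu).mul_left hru).eq
  have ht2 : t * t = 1 := by
    rw [htdef]
    calc y * r * (y * r) = y * (r * y) * r := by group
      _ = y * (y * r) * r := by rw [hrinv', htdef]
      _ = y * y * (r * r) := by group
      _ = 1 := by rw [hy2, hr2, one_mul]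
  have htinv : t⁻¹ = t := inv_eq_of_mul_eq_one_right ht2
  have ht8 : t * x8 * t⁻¹ = x8 * z := by
    calc y * r * x8 * (y * r)⁻¹ = y * (r * x8 * r⁻¹) * y⁻¹ := by group
      _ = y * x8 * y⁻¹ := by rw [← hx8r]; group
      _ = x8 * z := h8
  have hth : t * xh * t⁻¹ = xh * u := by
    calc y * r * xh * (y * r)⁻¹ = y * (r * xh * r⁻¹) * y⁻¹ := by group
      _ = y * xh * y⁻¹ * (y * (u * z) * y⁻¹) := by rw [hxhr]; group
      _ = xh * z * (u * z) := by
          rw [hh, ((show Commute y u from hyu).mul_right (mem_Cz.1 hy.mem)).eq, mul_inv_cancel_right]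
      _ = xh * (z * u) * z := by group
      _ = xh * u * (z * z) := by rw [← mem_Cz.1 (M.le W.nc.1)]; group
      _ = xh * u := by rw [M.zz, mul_one]
  have htI : Img ρ t (sieP 2 4) := M.img_mul_q hy hr
  have hC := conj_mem_Cz W htu
  obtain ⟨π, hπ⟩ : ∃ π, Img ρ (g⁻¹ * t * g) π := ⟨_, Img.mk' hC⟩
  have hO := M.img_O hπ
  have hs : ∀ x, g⁻¹ * x * g ∈ Q → π (f (g⁻¹ * x * g)) = f (g⁻¹ * (t * x * t⁻¹) * g) := by
    intro x hx
    rw [← M.img_conj hπ hx]
    congr 1
    group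
  have hfu : f (g⁻¹ * z * g) = pt := by rw [W.zg, W.fu]
  have hmove8 : π (f (g⁻¹ * x8 * g)) = vadd (f (g⁻¹ * x8 * g)) pt := by
    rw [hs x8 hx8', ht8, show g⁻¹ * (x8 * z) * g = g⁻¹ * x8 * g * (g⁻¹ * z * g) by group,
      M.f_mul _ hx8' _ (W.zg ▸ W.nc.1), hfu]
  have hfix : π (f (g⁻¹ * xh * g)) = f (g⁻¹ * xh * g) := by
    rw [hs xh hxh', hth, show g⁻¹ * (xh * u) * g = g⁻¹ * xh * g * (g⁻¹ * u * g) by group,
      M.f_mul _ hxh' _ ((swap_ug W).symm ▸ M.z_mem), swap_ug W, M.f_z, vadd_zero]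
  obtain ⟨x2, hx2, hx2', hx22⟩ := hD 2 (by simp)
  obtain ⟨x4, hx4, hx4', hx42⟩ := hD 4 (by simp)
  have hshift : ∀ a b : V8, ∀ xa xb : G, Img ρ xa (sieP pt a) → Img ρ xb (sieP pt b) →
      g⁻¹ * xa * g ∈ Q → g⁻¹ * xb * g ∈ Q → bl a pt = false → bl b pt = false →
      sie 2 4 a = vadd a b → sie 2 4 pt = pt →
      vadd (vadd (f (g⁻¹ * xa * g)) (π (f (g⁻¹ * xa * g)))) (f (g⁻¹ * xb * g)) = 0 ∨
      vadd (vadd (f (g⁻¹ * xa * g)) (π (f (g⁻¹ * xa * g)))) (f (g⁻¹ * xb * g)) = pt := by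
    intro a b xa xb ha hb ha' hb' hap hbp hab hp
    have hI := ha.conj htI
    rw [O_sieP (sieP_mem _ _) (sieOK_pt hap), sieP_apply h24, sieP_apply h24, hp, hab,
      ← sieP_mul hap hbp] at hI
    have h := M.D_same_f W hI (ha.mul hb) (M.D_conj_mem W htu ha') (M.D_mul_mem W ha' hb')
    rw [← hs xa ha', show g⁻¹ * (xa * xb) * g = g⁻¹ * xa * g * (g⁻¹ * xb * g) by group,
      M.f_mul _ ha' _ hb'] at h
    have e : vadd (vadd (f (g⁻¹ * xa * g)) (π (f (g⁻¹ * xa * g)))) (f (g⁻¹ * xb * g)) =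
        vadd (π (f (g⁻¹ * xa * g))) (vadd (f (g⁻¹ * xa * g)) (f (g⁻¹ * xb * g))) := by ac_rfl
    rw [e]
    exact h
  have hpt24 : sie 2 4 pt = pt := fam_table.2.2.2.2.2.2.2.2.2.2.2.2.1
  obtain ⟨x32, hx32, hx32', -⟩ := hD 32 (by simp)
  obtain ⟨x64, hx64, hx64', -⟩ := hD 64 (by simp)
  have s4 := hshift 32 4 x32 x4 hx32 hx4 hx32' hx4' (hsix 32 (by simp)).1 (hsix 4 (by simp)).1
    (by rw [f32, e36]) hpt24
  have s2 := hshift 64 2 x64 x2 hx64 hx2 hx64' hx2' (hsix 64 (by simp)).1 (hsix 2 (by simp)).1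
    (by rw [f64, e66]) hpt24
  let V : V8 → Prop := fun a => ∃ v, vadd v (π v) = a
  have Vadd : ∀ a b, V a → V b → V (vadd a b) := by
    rintro _ _ ⟨v, rfl⟩ ⟨w, rfl⟩
    exact ⟨vadd v w, by rw [O_add hO, vadd_four]⟩
  have Vpt : V pt := ⟨f (g⁻¹ * x8 * g), by rw [hmove8, vadd_cancel]⟩
  have Vof : ∀ a b : V8, V a → (vadd a b = 0 ∨ vadd a b = pt) → V b := by
    intro a b ha h
    rcases h with h | h
    · rwa [← vadd_eq_zero h]
    · have := Vadd a pt ha Vpt
      rwa [← h, vadd_cancel] at this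
  have V4 := Vof _ _ ⟨_, rfl⟩ s4
  have V2 := Vof _ _ ⟨_, rfl⟩ s2
  -- the combinations
  let e2 : Bool → G := fun b => if b then x2 else 1
  let e4 : Bool → G := fun b => if b then x4 else 1
  let eh : Bool → G := fun b => if b then xh else 1
  have hone : g⁻¹ * (1 : G) * g ∈ Q := by simp
  have E : ∀ a b c, Img ρ (e2 a * e4 b * eh c)
        (sieP pt (vadd (vadd (sel a 2) (sel b 4)) (sel c 128))) ∧
      g⁻¹ * (e2 a * e4 b * eh c) * g ∈ Q ∧
      f (g⁻¹ * (e2 a * e4 b * eh c) * g) =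
        vadd (vadd (sel a (f (g⁻¹ * x2 * g))) (sel b (f (g⁻¹ * x4 * g))))
          (sel c (f (g⁻¹ * xh * g))) := by
    intro a b c
    have one : ∀ (d : Bool) (v : V8) (x : G), Img ρ x (sieP pt v) → g⁻¹ * x * g ∈ Q →
        Img ρ (if d then x else 1) (sieP pt (sel d v)) ∧ g⁻¹ * (if d then x else 1) * g ∈ Q ∧
          f (g⁻¹ * (if d then x else 1) * g) = sel d (f (g⁻¹ * x * g)) := by
      intro d v x hx hx'
      cases d
      · refine ⟨by show Img ρ 1 (sieP pt 0); rw [sieP_zero]; exact Img.one, hone, ?_⟩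
        show f (g⁻¹ * 1 * g) = 0
        rw [show g⁻¹ * (1 : G) * g = 1 by group, M.f_one]
      · exact ⟨hx, hx', rfl⟩
    obtain ⟨i2, m2, v2⟩ := one a 2 x2 hx2 hx2'
    obtain ⟨i4, m4, v4⟩ := one b 4 x4 hx4 hx4'
    obtain ⟨ih, mh, vh⟩ := one c 128 xh hxh hxh'
    have p24 := fam_comb.1 a b
    have p2 := (fam_comb.2.1 a).1
    have p4 := (fam_comb.2.1 b).2.1
    have ph := (fam_comb.2.1 c).2.2
    refine ⟨?_, M.D_mul_mem W (M.D_mul_mem W m2 m4) mh, ?_⟩
    · rw [← sieP_mul p24 ph, ← sieP_mul p2 p4]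
      exact (i2.mul i4).mul ih
    · rw [show g⁻¹ * (e2 a * e4 b * eh c) * g = g⁻¹ * e2 a * g * (g⁻¹ * e4 b * g) *
        (g⁻¹ * eh c * g) by group, M.f_mul _ (mul_mem m2 m4) _ mh, M.f_mul _ m2 _ m4, v2, v4, vh]
  let S : Bool × Bool × Bool → V8 := fun p =>
    vadd (vadd (sel p.1 (f (g⁻¹ * x2 * g))) (sel p.2.1 (f (g⁻¹ * x4 * g))))
      (sel p.2.2 (f (g⁻¹ * xh * g)))
  have Sadd : ∀ p q : Bool × Bool × Bool, vadd (S p) (S q) =
      S (p.1 ^^ q.1, p.2.1 ^^ q.2.1, p.2.2 ^^ q.2.2) := by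
    intro p q
    simp only [S, sel_xor]
    ac_rfl
  have S0 : ∀ p, (S p = 0 ∨ S p = pt) → p = (false, false, false) := by
    rintro ⟨a, b, c⟩ h
    obtain ⟨hI, hQ', hf⟩ := E a b c
    have hπ1 := M.D_inj W hI (M.img_q (one_mem Q)) hQ' hone (by
      rw [hf, show g⁻¹ * (1 : G) * g = 1 by group, M.f_one, vadd_zero]; exact h)
    rw [← sieP_zero] at hπ1
    have h' := sieP_eq (hperp a b c) (by decide +kernel) hπ1
    rw [vadd_zero] at h'
    obtain ⟨rfl, rfl, rfl⟩ := hind a b c h'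
    rfl
  let S' : (Bool × Bool × Bool) × Bool → V8 := fun p => vadd (S p.1) (sel p.2 pt)
  have S'inj : Function.Injective S' := by
    rintro ⟨p, i⟩ ⟨q, j⟩ h
    have h1 : vadd (S p) (S q) = sel (i ^^ j) pt := by
      rw [sel_xor]
      apply vadd_eq_zero
      rw [vadd_four]
      show vadd (S' (p, i)) (S' (q, j)) = 0
      rw [h, vadd_self]
    have h2 := S0 _ (by rw [← Sadd, h1]; cases (i ^^ j) <;> simp [sel])
    have hpq : p = q := by
      obtain ⟨a, b, c⟩ := p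
      obtain ⟨a', b', c'⟩ := q
      simp only [Prod.mk.injEq, bne_eq_false_iff_eq] at h2 ⊢
      exact h2
    subst hpq
    rw [vadd_self] at h1
    have : (i ^^ j) = false := by
      cases hij : (i ^^ j)
      · rfl
      · rw [hij] at h1; exact absurd h1.symm pt_facts.2.1
    rw [bne_eq_false_iff_eq.1 this]
  have hsq : ∀ a b c, (e2 a * e4 b * eh c) * (e2 a * e4 b * eh c) = 1 := by
    intro a b c
    obtain ⟨hI, hQ', -⟩ := E a b c
    exact M.D_sq W hI hQ' (hperp a b c) (fam_comb.2.2 a b c)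
  have hsing : ∀ p i, qb (S' (p, i)) = false := by
    rintro ⟨a, b, c⟩ i
    obtain ⟨hI, hQ', hf⟩ := E a b c
    show qb (vadd (vadd (vadd _ _) _) _) = false
    rw [qb_vadd, ← hf, M.D_fy_sing W hQ' (hsq a b c), qb_sel, pt_facts.1, bl_sel_right,
      M.D_fy W hI.mem hQ']
    simp
  have h2' : g⁻¹ * t * g * (g⁻¹ * t * g) = 1 := by
    calc g⁻¹ * t * g * (g⁻¹ * t * g) = g⁻¹ * (t * t) * g := by group
      _ = 1 := by rw [ht2]; group
  have hπ1 : π ≠ 1 := fun e => by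
    rw [e, Perm.one_apply] at hmove8
    have := congrArg (vadd (f (g⁻¹ * x8 * g))) hmove8
    rw [vadd_self, vadd_cancel] at this
    exact pt_facts.2.1 this.symm
  obtain ⟨c, hc, l, hl, he⟩ := M.invol π hπ.mem_range ((h2' ▸ hπ.mul hπ).unique Img.one) hπ1
  have hcO := M.range_le hc
  rcases reps_cases hl with h | h | h
  rotate_left 2
  · by_cases hE : l = wE
    · subst hE
      obtain ⟨L, B, D, -, -, hsub⟩ := reps4_data (l := wE) (by simp [reps4])
      have hLeq : ∀ a, V a → c a ∈ LE := by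
        rintro _ ⟨v, rfl⟩
        rw [dataE.conj_vals hcO he]
        exact dataE.mem_L _
      have hfixLE : c (f (g⁻¹ * xh * g)) ∈ LE := by
        refine rankFour (c (f (g⁻¹ * xh * g))) |>.2.2 ?_
        have e := dataE.conj_vals hcO he (f (g⁻¹ * xh * g))
        rw [hfix, vadd_self, O_zero hcO] at e
        exact (vadd_eq_zero e.symm).symm
      have LEadd : ∀ a ∈ LE, ∀ b ∈ LE, vadd a b ∈ LE := by decide +kernel
      have LE0 : (0 : V8) ∈ LE := by decide +kernel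
      have LEsel : ∀ (b : Bool) (a : V8), a ∈ LE → sel b a ∈ LE := fun b a ha => by
        cases b
        · exact LE0
        · exact ha
      have hin : ∀ p i, c (S' (p, i)) ∈ LE := by
        intro p i
        simp only [S', S, O_add hcO, O_sel hcO]
        exact LEadd _ (LEadd _ (LEadd _ (LEsel _ _ (hLeq _ V2)) _ (LEsel _ _ (hLeq _ V4))) _
          (LEsel _ _ hfixLE)) _ (LEsel _ _ (hLeq _ Vpt))
      have hcard : Fintype.card ((Bool × Bool × Bool) × Bool) ≤
          ((LE.filter fun x => !qb x).toFinset).card := by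
        rw [← Finset.card_univ]
        refine Finset.card_le_card_of_injOn (fun p => c (S' p)) (fun p _ => ?_)
          (fun p _ q _ e => S'inj (c.injective e))
        refine List.mem_toFinset.2 (hLE _ (hin p.1 p.2) ?_)
        rw [O_q hcO]
        exact hsing p.1 p.2
      have := hcard.trans (List.toFinset_card_le _)
      rw [hLEc] at this
      simp at this
    · obtain ⟨s, hs'⟩ := exists_img hc
      have hI : Img ρ (s * (g⁻¹ * t * g) * s⁻¹) (wperm l) := he ▸ hπ.conj hs'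
      obtain ⟨w, x, hlw, hx, hx', hx2, hxy⟩ : ∃ w x, (l = wF ∧ w = 8 ∨ l = wF' ∧ w = 128) ∧
          Img ρ x (sieP pt w) ∧ g⁻¹ * x * g ∈ Q ∧ x * x = 1 ∧ y * x * y⁻¹ = x * z := by
        simp only [reps4, List.mem_cons, List.not_mem_nil, or_false] at h
        rcases h with h | h | h
        · exact ⟨8, x8, Or.inl ⟨h, rfl⟩, hx8, hx8', hx82, h8⟩
        · exact ⟨128, xh, Or.inr ⟨h, rfl⟩, hxh, hxh', hxh2, hh⟩
        · exact absurd h hE
      have hwp : bl w pt = false ∧ w ≠ 0 ∧ w ≠ pt := by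
        rcases hlw with ⟨-, rfl⟩ | ⟨-, rfl⟩ <;> decide +kernel
      have hπl : wperm l = sieP pt w * sieP 2 4 := by
        rcases hlw with ⟨rfl, rfl⟩ | ⟨rfl, rfl⟩
        · exact wperm_wF
        · exact wperm_wF'
      have hxyI : Img ρ (x * y) (wperm l) := hπl ▸ hx.mul hy
      obtain ⟨q, hq, heq⟩ := M.img_same hxyI hI
      have hsq : x * y * q * (x * y * q) = 1 := by rw [← heq]; exact conj_sq_one s h2'
      have hκ : x * y * (x * y) = z := by
        have hyinv := inv_eq_of_mul_eq_one_right hy2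
        rw [hyinv] at hxy
        calc x * y * (x * y) = x * (y * x * y) := by group
          _ = (x * x) * z := by rw [hxy]; group
          _ = z := by rw [hx2, one_mul]
      have hqfix : wperm l (f q) = f q := by
        have hq1 := M.normal _ hxyI.mem q hq
        have e : x * y * q * (x * y)⁻¹ * z * q = 1 := by
          calc x * y * q * (x * y)⁻¹ * z * q
              = x * y * q * (x * y)⁻¹ * (x * y * (x * y)) * q := by rw [hκ]
            _ = x * y * q * (x * y * q) := by group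
            _ = 1 := hsq
        have h := congrArg f e
        rw [M.f_one, M.f_mul _ (mul_mem hq1 M.z_mem) q hq, M.f_mul _ hq1 _ M.z_mem, M.f_z,
          vadd_zero, M.img_conj hxyI hq] at h
        exact vadd_eq_zero h
      have hfour : qb (f q) = false ∧ sieP pt w (f q) = f q ∧ sieP 2 4 (f q) = f q := by
        rw [sieP_apply (sieOK_pt hwp.1), sieP_apply h24]
        rcases hlw with ⟨rfl, rfl⟩ | ⟨rfl, rfl⟩
        · exact (four_fix _).1 (by rwa [wperm_apply dataF.ok] at hqfix)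
        · exact (four_fix _).2 (by rwa [wperm_apply dataF'.ok] at hqfix)
      have c1 := M.D_fix_comm W hx hx' hwp.1 hwp.2.1 hwp.2.2 hq hfour.2.1
      have c2 := fix2 q hq hfour.2.2
      have hc' : Commute q (x * y) := Commute.mul_right c1.symm c2.symm
      refine M.z_ne ?_
      calc z = x * y * (x * y) * (q * q) := by
            rw [hκ, M.sq_zp hq, hfour.1, zp_false, mul_one]
        _ = x * y * ((x * y) * q) * q := by group
        _ = x * y * (q * (x * y)) * q := by rw [hc'.eq]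
        _ = x * y * q * (x * y * q) := by group
        _ = 1 := hsq
  all_goals
    subst h
    let S2 : (Bool × Bool) × Bool → V8 := fun p => S' ((p.1.1, p.1.2, false), p.2)
    have hin : ∀ p, V (S2 p) := by
      intro p
      have V0 : V 0 := ⟨0, by rw [O_zero hO, vadd_self]⟩
      have Vsel : ∀ (b : Bool) (a : V8), V a → V (sel b a) := fun b a ha => by
        cases b
        · exact V0
        · exact ha
      exact Vadd _ _ (Vadd _ _ (Vadd _ _ (Vsel _ _ V2) (Vsel _ _ V4)) V0) (Vsel _ _ Vpt)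
    have S2inj : Function.Injective S2 := fun p q e => by
      have := S'inj e
      simp only [Prod.mk.injEq, and_true] at this
      exact Prod.ext (Prod.ext this.1.1 this.1.2) this.2
  · have hsubL : ∀ p, c (S2 p) ∈ LA := fun p => by
      obtain ⟨v, hv⟩ := hin p
      rw [← hv, dataA.conj_vals hcO he]
      exact dataA.mem_L _
    have hcard := Finset.card_le_card_of_injOn (s := Finset.univ) (t := LA.toFinset)
      (fun p => c (S2 p)) (fun p _ => List.mem_toFinset.2 (hsubL p))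
      (fun p _ q _ e => S2inj (c.injective e))
    have := hcard.trans (List.toFinset_card_le _)
    rw [hLA] at this
    simp at this
  · have hsubL : ∀ p, c (S2 p) ∈ LC := fun p => by
      obtain ⟨v, hv⟩ := hin p
      rw [← hv, dataC.conj_vals hcO he]
      exact dataC.mem_L _
    have hcard := Finset.card_le_card_of_injOn (s := Finset.univ) (t := LC.toFinset)
      (fun p => c (S2 p)) (fun p _ => List.mem_toFinset.2 (hsubL p))
      (fun p _ q _ e => S2inj (c.injective e))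
    have := hcard.trans (List.toFinset_card_le _)
    rw [hLC] at this
    simp at this

end Model

end CfsgLib.Small.ConTwo
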