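import Cfsg.Agent.Lib.Small.ConTwo.AIota

/-!
Lifts of the coordinate vectors and of six transvections with exact action on them.
-/

set_option autoImplicit false
set_option maxRecDepth 100000
set_option synthInstance.maxSize 4000

namespace CfsgLib.Small.ConTwo

open Equiv

/-- The basis vectors. -/
def bv (j : ℕ) : V8 := Fin.ofNat 256 (2 ^ j)

/-- The parameters of the six transvections. -/
def pE (g : ℕ) : V8 × V8 :=
  [(2, 16), (1, 32), (4, 32), (2, 64), (8, 64), (4, 128)].getD g (2, 16)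

/-- The second factor in the image of a basis lift. -/
def movB (g j : ℕ) : Option ℕ :=
  let p := [(0, 1), (1, 0), (1, 2), (2, 1), (2, 3), (3, 2)].getD g ((0 : ℕ), (1 : ℕ))
  if j = p.1 then some p.2 else if j = 4 + p.2 then some (4 + p.1) else none

theorem bv_facts : ∀ i < 8, qb (bv i) = false ∧ ∀ j < 8,
    bl (bv i) (bv j) = decide (i + 4 = j ∨ j + 4 = i) := by
  decide +kernel

theorem pE_facts : ∀ g < 6, SieOK (pE g) ∧ (∀ v : Fin 16,
    (sie (pE g).1 (pE g).2 (Fin.ofNat 256 v.val)).val < 16) ∧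
    ∀ j < 8, sie (pE g).1 (pE g).2 (bv j) =
      (match movB g j with | none => bv j | some m => vadd (bv j) (bv m)) ∧
      ∀ m, movB g j = some m → m < 8 ∧ bl (bv j) (bv m) = false := by
  intro g hg
  interval_cases g <;>
    refine ⟨by decide +kernel, by decide +kernel, fun j hj => ?_⟩ <;>
    interval_cases j <;> refine ⟨by decide +kernel, ?_⟩ <;>
    (intro m h; simp [movB] at h) <;> (subst h; decide +kernel)

/-- The target of a basis lift. -/
def tgt {G : Type*} [Group G] (b : ℕ → G) (g j : ℕ) : G :=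
  match movB g j with
  | none => b j
  | some m => b j * b m

/-- Lifts of the basis and of the transvections. -/
structure Frame {G : Type*} [Group G] (z : G) (Q : Subgroup G) (f : G → V8)
    (ρ : Cz z →* Perm V8) (u : G) (b e : ℕ → G) : Prop where
  bu : b 0 = u
  bQ : ∀ j < 8, b j ∈ Q
  bf : ∀ j < 8, f (b j) = bv j
  eI : ∀ g < 6, Img ρ (e g) (sieP (pE g).1 (pE g).2)
  eAct : ∀ g < 6, ∀ j < 8, e g * b j * (e g)⁻¹ = tgt b g j

namespace Model

variable {G : Type*} [Group G] {z : G} {Q : Subgroup G} {f : G → V8}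
  {ρ : Cz z →* Perm V8} (M : Model z Q f ρ)

include M

theorem exists_Frame {u g : G} (W : Swap z Q f u g) : ∃ b e, Frame z Q f ρ u b e := by
  classical
  choose q hq hqf using fun j : ℕ => M.f_surj (bv j)
  let b : ℕ → G := fun j => if j = 0 then u else q j
  have hb : ∀ j, b j ∈ Q ∧ f (b j) = bv j := by
    intro j
    by_cases h : j = 0
    · subst h
      exact ⟨W.nc.1, W.fu⟩
    · simp only [b, if_neg h]
      exact ⟨hq j, hqf j⟩
  have hex : ∀ i : ℕ, ∃ e, i < 6 → Img ρ e (sieP (pE i).1 (pE i).2) ∧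
      ∀ j < 8, e * b j * e⁻¹ = tgt b i j := by
    intro i
    by_cases hi : i < 6
    swap
    · exact ⟨1, fun h => absurd h hi⟩
    obtain ⟨e0, he0⟩ := exists_img (M.sie_mem (pE i).1 (pE i).2)
    obtain ⟨hok, -, hact⟩ := pE_facts i hi
    have hT : ∀ j < 8, tgt b i j ∈ Q ∧ f (tgt b i j) = sie (pE i).1 (pE i).2 (bv j) := by
      intro j hj
      have h := (hact j hj).1
      unfold tgt
      cases hm : movB i j with
      | none => rw [hm] at h; exact ⟨(hb j).1, by rw [h, (hb j).2]⟩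
      | some m =>
        rw [hm] at h
        exact ⟨mul_mem (hb j).1 (hb m).1, by rw [M.f_mul _ (hb j).1 _ (hb m).1, (hb j).2, (hb m).2, h]⟩
    have herr : ∀ j : Fin 8, ∃ s : Bool, e0 * b j * e0⁻¹ = tgt b i j * zp z s := by
      intro j
      have hj := j.isLt
      have hfe : f (e0 * b j * e0⁻¹) = f (tgt b i j) := by
        rw [M.img_conj he0 (hb j).1, (hT j hj).2, (hb j).2,
          sieP_apply (p := (pE i).1) (w := (pE i).2) hok]
      rcases M.f_eq (hT j hj).1 (M.normal _ he0.mem _ (hb j).1) hfe.symm with h | h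
      · exact ⟨false, by rw [h, zp_false, mul_one]⟩
      · exact ⟨true, h⟩
    choose s hs using herr
    obtain ⟨r, hr, hrb⟩ : ∃ r ∈ Q, ∀ j : Fin 8, bl (bv j) (f r) = s j := by
      obtain ⟨r, hr, hrf⟩ := M.f_surj
        (Fin.ofNat 256 (Nat.ofBits fun j : Fin 8 => s ⟨(j.val + 4) % 8, Nat.mod_lt _ (by norm_num)⟩))
      refine ⟨r, hr, fun j => ?_⟩
      rw [hrf]
      have key : ∀ (t : Fin 8 → Bool) (j : Fin 8),
          bl (bv j) (Fin.ofNat 256 (Nat.ofBits t)) = t ⟨(j.val + 4) % 8, Nat.mod_lt _ (by norm_num)⟩ := by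
        intro t j
        have hlt : Nat.ofBits t < 256 := Nat.ofBits_lt_two_pow t
        have hbit : ∀ i : Fin 8, bit (Fin.ofNat 256 (Nat.ofBits t)) i.val = t i := fun i => by
          show (Nat.ofBits t % 256).testBit i.val = t i
          rw [Nat.mod_eq_of_lt hlt, Nat.testBit_ofBits_lt _ i.val i.isLt]
        generalize Fin.ofNat 256 (Nat.ofBits t) = v at hbit
        have hkey : ∀ (v : V8) (j : Fin 8), bl (bv j) v = bit v ((j.val + 4) % 8) := by decide +kernel
        rw [hkey, ← hbit ⟨(j.val + 4) % 8, _⟩]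
      rw [key]
      congr 1
      apply Fin.ext
      show ((j.val + 4) % 8 + 4) % 8 = j.val
      have := j.isLt
      omega
    refine ⟨e0 * r, fun _ => ⟨M.img_mul_q he0 hr, fun j hj => ?_⟩⟩
    have hc := M.comm (hb j).1 hr
    rw [(hb j).2, hrb ⟨j, hj⟩] at hc
    calc e0 * r * b j * (e0 * r)⁻¹ = e0 * (r * b j) * r⁻¹ * e0⁻¹ := by group
      _ = e0 * zp z (s ⟨j, hj⟩) * e0⁻¹ * (e0 * b j * e0⁻¹) := by rw [hc]; group
      _ = zp z (s ⟨j, hj⟩) * (tgt b i j * zp z (s ⟨j, hj⟩)) := by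
          rw [hs ⟨j, hj⟩, M.zp_comm _ he0.mem, mul_inv_cancel_right]
      _ = zp z (s ⟨j, hj⟩) * zp z (s ⟨j, hj⟩) * tgt b i j := by
          rw [M.zp_comm _ (M.le (hT j hj).1)]; group
      _ = tgt b i j := by rw [← M.zp_xor, Bool.xor_self, zp_false, one_mul]
  choose e he using hex
  exact ⟨b, e, rfl, fun j _ => (hb j).1, fun j _ => (hb j).2, fun i hi => (he i hi).1,
    fun i hi => (he i hi).2⟩

variable {u : G} {b e : ℕ → G} (F : Frame z Q f ρ u b e)

include F

theorem b_comm {i j : ℕ} (hi : i < 8) (hj : j < 8) :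
    b j * b i = zp z (decide (i + 4 = j ∨ j + 4 = i)) * (b i * b j) := by
  rw [M.comm (F.bQ i hi) (F.bQ j hj), F.bf i hi, F.bf j hj, (bv_facts i hi).2 j hj]

theorem b_sq {j : ℕ} (hj : j < 8) : b j * b j = 1 := by
  rw [M.sq_zp (F.bQ j hj), F.bf j hj, (bv_facts j hj).1, zp_false]

omit M F in
theorem e_low {g : ℕ} (hg : g < 6) (v : V8) (hv : Low v) :
    Low (sieP (pE g).1 (pE g).2 v) := by
  rw [sieP_apply (p := (pE g).1) (w := (pE g).2) (pE_facts g hg).1]
  have h := (pE_facts g hg).2.1 ⟨v.val, hv⟩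
  rwa [show Fin.ofNat 256 v.val = v from Fin.ext (by simp)] at h

theorem e_AG {g : ℕ} (hg : g < 6) {x : G} (hx : x ∈ AG Q f) : e g * x * (e g)⁻¹ ∈ AG Q f :=
  M.AG_conj (F.eI g hg) (e_low hg) hx

end Model

end CfsgLib.Small.ConTwo
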