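import Cfsg.Agent.Lib.Small.ConTwo.AWalsh
import Cfsg.Agent.Lib.Spor.M24Gens

/-!
Linear maps preserving the selected class act on the 24 points as automorphisms of the code.
-/

set_option autoImplicit false
set_option maxRecDepth 100000
set_option maxHeartbeats 0

namespace CfsgLib.Small.ConTwo.Code

open CfsgLib.Spor (idx pt idx_lt pt_idx idx_pt idx_injective toSet mask inCode inCode_xor golayBasis)

/-- Membership in the selected class. -/
def inS (m : ℕ) : Bool := inSel labB goodSel m

/-- The functional of a point. -/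
def P (i : ℕ) : ℕ := pts.getD i 0

/-- The functional of a pair of points. -/
def phi (i j : ℕ) : ℕ := P i ^^^ P j

/-- The number of selected strings where a functional is nonzero. -/
def sCount (p : ℕ) : ℕ := cnt 11 (fun m => inS m && par 11 p m)

/-- Whether a functional belongs to a pair of points. -/
def isD (p : ℕ) : Bool :=
  let e := entry 10 duad p
  decide (e % 32 < 24) && (decide (e / 32 < 24) && (decide (e % 32 < e / 32) &&
    Nat.beq (phi (e % 32) (e / 32)) p))

theorem scan : (wal 11 inS).zipIdx.all (fun x => Nat.beq x.1 352 == isD x.2) = true := by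
  decide +kernel

theorem isD_iff {p : ℕ} (hp : p < 2048) : isD p = true ↔ sCount p = 352 := by
  have hl : p < (wal 11 inS).length := by rw [wal_length]; exact hp
  have h := List.all_eq_true.1 scan ((wal 11 inS)[p], p)
    (by rw [List.mem_zipIdx_iff_getElem?]; exact List.getElem?_eq_getElem hl)
  have h2 := wal_get 11 inS p hp
  rw [List.getD_eq_getElem _ _ hl] at h2
  simp only [beq_iff_eq] at h
  rw [h2] at h
  show isD p = true ↔ _
  rw [← h, show sCount p = cnt 11 (fun m => inS m && par 11 p m) from rfl]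
  exact ⟨Nat.eq_of_beq_eq_true, fun e => by rw [e]; rfl⟩

theorem pts_ok : P 23 = 0 ∧ (List.range 24).all (fun i => decide (P i < 2048) &&
    (List.range 24).all fun j => !decide (i < j) ||
      Nat.beq (entry 10 duad (phi i j)) (i + 32 * j) && isD (phi i j)) = true := by
  decide +kernel

theorem four_check : (List.range 24).all (fun a => (List.range a).all fun b =>
    (List.range b).all fun c => (List.range c).all fun d =>
      !isD (phi a b ^^^ phi c d)) = true := by
  decide +kernel

theorem P_lt {i : ℕ} (h : i < 24) : P i < 2048 := by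
  have := List.all_eq_true.1 pts_ok.2 i (List.mem_range.2 h)
  simp only [Bool.and_eq_true, decide_eq_true_eq] at this
  exact this.1

theorem phi_lt {i j : ℕ} (h : i < 24) (h' : j < 24) : phi i j < 2048 := xor_lt (P_lt h) (P_lt h')

theorem phi_comm (i j : ℕ) : phi i j = phi j i := Nat.xor_comm _ _

theorem phi_facts {i j : ℕ} (h' : j < 24) (hij : i < j) :
    entry 10 duad (phi i j) = i + 32 * j ∧ isD (phi i j) = true := by
  have := List.all_eq_true.1 pts_ok.2 i (List.mem_range.2 (lt_trans hij h'))
  simp only [Bool.and_eq_true, List.all_eq_true, List.mem_range] at this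
  have h2 := this.2 j h'
  simp only [hij, decide_true, Bool.not_true, Bool.false_or, Bool.and_eq_true] at h2
  exact ⟨Nat.eq_of_beq_eq_true h2.1, h2.2⟩

theorem phi_isD {i j : ℕ} (h : i < 24) (h' : j < 24) (hij : i ≠ j) : isD (phi i j) = true := by
  rcases Nat.lt_or_gt_of_ne hij with e | e
  · exact (phi_facts h' e).2
  · rw [phi_comm]; exact (phi_facts h e).2

theorem phi_inj {i j k l : ℕ} (h' : j < 24) (k' : l < 24) (hij : i < j) (hkl : k < l)
    (e : phi i j = phi k l) : i = k ∧ j = l := by
  have h1 := (phi_facts h' hij).1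
  rw [e, (phi_facts k' hkl).1] at h1
  omega

theorem four {a b c d : ℕ} (ha : a < 24) (hb : b < a) (hc : c < b) (hd : d < c) :
    isD (phi a b ^^^ phi c d) = false := by
  have h := four_check
  simp only [List.all_eq_true, List.mem_range, Bool.not_eq_true'] at h
  exact h a ha b hb c hc d hd

/-- An additive permutation of the strings preserving the class. -/
structure Sym (g : ℕ → ℕ) : Prop where
  lt : ∀ m < 2048, g m < 2048
  add : ∀ a b, a < 2048 → b < 2048 → g (a ^^^ b) = g a ^^^ g b
  inj : ∀ a b, a < 2048 → b < 2048 → g a = g b → a = b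
  pres : ∀ m < 2048, inS (g m) = inS m

namespace Sym

variable {g : ℕ → ℕ} (hg : Sym g)

include hg

theorem zero : g 0 = 0 := by
  have h := hg.add 0 0 (by norm_num) (by norm_num)
  rw [Nat.xor_self] at h
  rw [h, Nat.xor_self]

theorem surj {m : ℕ} (hm : m < 2048) : ∃ a < 2048, g a = m := by
  obtain ⟨a, ha, h⟩ := Finset.surj_on_of_inj_on_of_card_le (s := Finset.range 2048)
    (t := Finset.range 2048) (fun a _ => g a)
    (fun a ha => Finset.mem_range.2 (hg.lt a (Finset.mem_range.1 ha)))
    (fun a b ha hb e => hg.inj a b (Finset.mem_range.1 ha) (Finset.mem_range.1 hb) e)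
    le_rfl m (Finset.mem_range.2 hm)
  exact ⟨a, Finset.mem_range.1 ha, h.symm⟩

end Sym

/-- The composite of a functional with a map. -/
def adj (g : ℕ → ℕ) (p : ℕ) : ℕ := Nat.ofBits fun j : Fin 11 => par 11 p (g (2 ^ j.val))

theorem adj_lt (g : ℕ → ℕ) (p : ℕ) : adj g p < 2048 := Nat.ofBits_lt_two_pow _

theorem par_ext {p q : ℕ} (hp : p < 2048) (hq : q < 2048)
    (h : ∀ j < 11, par 11 p (2 ^ j) = par 11 q (2 ^ j)) : p = q := by
  refine Nat.eq_of_testBit_eq fun i => ?_
  rcases Nat.lt_or_ge i 11 with hi | hi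
  · rw [← par_two_pow p i hi, h i hi, par_two_pow q i hi]
  · rw [Nat.testBit_lt_two_pow (lt_of_lt_of_le hp (Nat.pow_le_pow_right (show 0 < 2 by norm_num) hi)),
      Nat.testBit_lt_two_pow (lt_of_lt_of_le hq (Nat.pow_le_pow_right (show 0 < 2 by norm_num) hi))]

theorem par_adj {g : ℕ → ℕ} (hg : Sym g) (p : ℕ) :
    ∀ m < 2048, par 11 (adj g p) m = par 11 p (g m) := by
  refine bit_induction ?_ ?_ ?_
  · rw [hg.zero, par_zero, par_zero]
  · intro j hj
    rw [par_two_pow _ j hj, adj, Nat.testBit_ofBits_lt _ j hj]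
  · intro a b ha hb h1 h2
    rw [hg.add a b ha hb, par_xor_right, par_xor_right, h1, h2]

theorem adj_xor {g : ℕ → ℕ} (hg : Sym g) (p q : ℕ) :
    adj g (p ^^^ q) = adj g p ^^^ adj g q := by
  refine par_ext (adj_lt _ _) (xor_lt (adj_lt _ _) (adj_lt _ _)) fun j hj => ?_
  have h2 : 2 ^ j < 2048 := Nat.pow_lt_pow_right (a := 2) (by norm_num) hj
  rw [par_xor_left, par_adj hg _ _ h2, par_adj hg _ _ h2, par_adj hg _ _ h2, par_xor_left]

theorem adj_inj {g : ℕ → ℕ} (hg : Sym g) {p q : ℕ} (hp : p < 2048) (hq : q < 2048)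
    (h : adj g p = adj g q) : p = q := by
  refine par_ext hp hq fun j hj => ?_
  obtain ⟨a, ha, e⟩ := hg.surj (Nat.pow_lt_pow_right (a := 2) (by norm_num) hj)
  rw [← e, ← par_adj hg p a ha, h, par_adj hg q a ha]

theorem sCount_adj {g : ℕ → ℕ} (hg : Sym g) (p : ℕ) : sCount (adj g p) = sCount p := by
  have key : ∀ q : ℕ → Bool, ∀ r : ℕ → Bool, (∀ m < 2048, r m = q (g m)) →
      cnt 11 r ≤ cnt 11 q := by
    intro q r h
    rw [cnt_eq, cnt_eq]
    calc ∑ m ∈ Finset.range (2 ^ 11), (r m).toNat
        = ∑ m ∈ (Finset.range (2 ^ 11)).image g, (q m).toNat := by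
          rw [Finset.sum_image (fun a ha b hb e => hg.inj a b (Finset.mem_range.1 ha)
            (Finset.mem_range.1 hb) e : Set.InjOn g ↑(Finset.range (2 ^ 11)))]
          exact Finset.sum_congr rfl fun m hm => by rw [h m (Finset.mem_range.1 hm)]
      _ ≤ _ := Finset.sum_le_sum_of_subset fun x hx => by
          obtain ⟨a, ha, rfl⟩ := Finset.mem_image.1 hx
          exact Finset.mem_range.2 (hg.lt a (Finset.mem_range.1 ha))
  have h1 := key (fun m => inS m && par 11 p m) (fun m => inS m && par 11 (adj g p) m)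
    fun m hm => by simp only [hg.pres m hm, par_adj hg p m hm]
  have h2 := key (fun m => inS m && !par 11 p m) (fun m => inS m && !par 11 (adj g p) m)
    fun m hm => by simp only [hg.pres m hm, par_adj hg p m hm]
  have h3 := cnt_split 11 inS (fun m => par 11 p m)
  have h4 := cnt_split 11 inS (fun m => par 11 (adj g p) m)
  unfold sCount
  omega

/-- The functional of an unordered pair. -/
def phiF (a b : Fin 24) : ℕ := phi a.val b.val

theorem phiF_eq {a b c d : Fin 24} (hab : a ≠ b) (hcd : c ≠ d) (e : phiF a b = phiF c d) :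
    ({a, b} : Finset (Fin 24)) = {c, d} := by
  unfold phiF at e
  rcases lt_or_gt_of_ne (Fin.val_ne_of_ne hab) with h | h <;>
    rcases lt_or_gt_of_ne (Fin.val_ne_of_ne hcd) with h' | h'
  · obtain ⟨r, s⟩ := phi_inj b.isLt d.isLt h h' e
    rw [Fin.ext r, Fin.ext s]
  · rw [phi_comm c.val] at e
    obtain ⟨r, s⟩ := phi_inj b.isLt c.isLt h h' e
    rw [Fin.ext r, Fin.ext s, Finset.pair_comm]
  · rw [phi_comm a.val] at e
    obtain ⟨r, s⟩ := phi_inj a.isLt d.isLt h h' e
    rw [Fin.ext r, Fin.ext s, Finset.pair_comm]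
  · rw [phi_comm a.val, phi_comm c.val] at e
    obtain ⟨r, s⟩ := phi_inj a.isLt c.isLt h h' e
    rw [Fin.ext r, Fin.ext s]

theorem disjoint_not_isD {a b c d : Fin 24} (hab : a ≠ b) (hcd : c ≠ d) (hac : a ≠ c)
    (had : a ≠ d) (hbc : b ≠ c) (hbd : b ≠ d) : isD (phiF a b ^^^ phiF c d) = false := by
  have key : ∀ l : List (Fin 24), l = [a, b, c, d] →
      phiF a b ^^^ phiF c d = (l.map fun x => P x.val).foldr (· ^^^ ·) 0 := by
    intro l hl
    simp [hl, phiF, phi, Nat.xor_assoc]
  have hn : [a, b, c, d].Nodup := by simp [hab, hac, had, hbc, hbd, hcd]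
  rw [key _ rfl]
  have hp := List.mergeSort_perm [a, b, c, d] (fun x y => decide (y.val ≤ x.val))
  have hs := List.pairwise_mergeSort (le := fun x y : Fin 24 => decide (y.val ≤ x.val))
    (fun x y w => by simp; omega) (fun x y => by simp; omega) [a, b, c, d]
  generalize [a, b, c, d].mergeSort (fun x y => decide (y.val ≤ x.val)) = l at hp hs
  rw [← List.Perm.foldr_eq (hp.map _) 0]
  have hl := hp.length_eq
  have hnl := hp.nodup_iff.2 hn
  obtain ⟨p, q, r, s, rfl⟩ : ∃ p q r s, l = [p, q, r, s] := by
    match l, hl with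
    | [p, q, r, s], _ => exact ⟨p, q, r, s, rfl⟩
  simp only [List.nodup_cons, List.mem_cons, List.not_mem_nil, or_false, not_or, Fin.ext_iff]
    at hnl
  simp only [List.pairwise_cons, List.mem_cons, List.not_mem_nil, or_false, forall_eq_or_imp,
    forall_eq, decide_eq_true_eq] at hs
  have h := four (a := p.val) (b := q.val) (c := r.val) (d := s.val) p.isLt (by omega) (by omega)
    (by omega)
  simpa [phi, Nat.xor_assoc] using h

theorem meet {a b c d : Fin 24} (hab : a ≠ b) (hcd : c ≠ d)
    (h : isD (phiF a b ^^^ phiF c d) = true) : a = c ∨ a = d ∨ b = c ∨ b = d := by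
  by_contra hne
  push Not at hne
  rw [disjoint_not_isD hab hcd hne.1 hne.2.1 hne.2.2.1 hne.2.2.2] at h
  cases h

theorem isD_pair {p : ℕ} (h : isD p = true) : ∃ a b : Fin 24, a ≠ b ∧ phiF a b = p := by
  simp only [isD, Bool.and_eq_true, decide_eq_true_eq] at h
  obtain ⟨h1, h2, h3, h4⟩ := h
  exact ⟨⟨_, h1⟩, ⟨_, h2⟩, Fin.ne_of_val_ne h3.ne, Nat.eq_of_beq_eq_true h4⟩

/-- A linear map preserving the class induces a permutation of the points. -/
theorem exists_sigma {g : ℕ → ℕ} (hg : Sym g) : ∃ σ : Equiv.Perm (Fin 24), ∀ a b, a ≠ b →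
    adj g (phiF a b) = phiF (σ a) (σ b) := by
  classical
  have himg : ∀ a b : Fin 24, ∃ c d, a ≠ b → c ≠ d ∧ phiF c d = adj g (phiF a b) := by
    intro a b
    by_cases hab : a = b
    · exact ⟨a, a, fun h => absurd hab h⟩
    have h : isD (adj g (phiF a b)) = true := by
      rw [isD_iff (adj_lt _ _), sCount_adj hg, phiF, ← isD_iff (phi_lt a.isLt b.isLt)]
      exact phi_isD a.isLt b.isLt (Fin.val_ne_of_ne hab)
    obtain ⟨c, d, hcd, he⟩ := isD_pair h
    exact ⟨c, d, fun _ => ⟨hcd, he⟩⟩
  choose c d hcd using himg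
  let T : Fin 24 → Fin 24 → Finset (Fin 24) := fun a b => {c a b, d a b}
  have hTinj : ∀ a b a' b', a ≠ b → a' ≠ b' → T a b = T a' b' →
      ({a, b} : Finset (Fin 24)) = {a', b'} := by
    intro a b a' b' hab hab' e
    refine phiF_eq hab hab' (adj_inj hg (phi_lt a.isLt b.isLt) (phi_lt a'.isLt b'.isLt) ?_)
    rw [← (hcd a b hab).2, ← (hcd a' b' hab').2]
    have h1 := (hcd a b hab).1
    have m1 : c a b ∈ T a' b' := e ▸ by simp [T]
    have m2 : d a b ∈ T a' b' := e ▸ by simp [T]
    simp only [T, Finset.mem_insert, Finset.mem_singleton] at m1 m2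
    rcases m1 with m1 | m1 <;> rcases m2 with m2 | m2
    · exact absurd (m1.trans m2.symm) h1
    · rw [m1, m2]
    · rw [m1, m2]; exact phi_comm _ _
    · exact absurd (m1.trans m2.symm) h1
  have hmeet : ∀ a b b', a ≠ b → a ≠ b' → b ≠ b' → ∃ x, x ∈ T a b ∧ x ∈ T a b' := by
    intro a b b' h1 h2 h3
    have hD : isD (phiF (c a b) (d a b) ^^^ phiF (c a b') (d a b')) = true := by
      rw [(hcd a b h1).2, (hcd a b' h2).2, ← adj_xor hg, isD_iff (adj_lt _ _), sCount_adj hg]
      have e : phiF a b ^^^ phiF a b' = phiF b b' := by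
        simp only [phiF, phi]
        rw [Nat.xor_comm (P a.val) (P b.val), Nat.xor_assoc, ← Nat.xor_assoc (P a.val),
          Nat.xor_self, Nat.zero_xor]
      rw [e, phiF, ← isD_iff (phi_lt b.isLt b'.isLt)]
      exact phi_isD b.isLt b'.isLt (Fin.val_ne_of_ne h3)
    rcases meet (hcd a b h1).1 (hcd a b' h2).1 hD with e | e | e | e
    · exact ⟨c a b, by simp [T], by rw [e]; simp [T]⟩
    · exact ⟨c a b, by simp [T], by rw [e]; simp [T]⟩
    · exact ⟨d a b, by simp [T], by rw [e]; simp [T]⟩
    · exact ⟨d a b, by simp [T], by rw [e]; simp [T]⟩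
  have hstar : ∀ a, ∃ x, ∀ b, a ≠ b → x ∈ T a b := by
    intro a
    obtain ⟨b1, hb1⟩ : ∃ b, a ≠ b := exists_ne a |>.imp fun _ h => h.symm
    obtain ⟨b2, hb2, hb12⟩ : ∃ b, a ≠ b ∧ b1 ≠ b := by
      have h : ({a, b1} : Finset (Fin 24)) ≠ Finset.univ := fun e => by
        have := congrArg Finset.card e
        rw [Finset.card_univ, Fintype.card_fin, Finset.card_pair hb1] at this
        omega
      obtain ⟨b, hb⟩ : ∃ b, b ∉ ({a, b1} : Finset (Fin 24)) := by
        by_contra hall
        exact h (Finset.eq_univ_iff_forall.2 fun x => by_contra fun hx => hall ⟨x, hx⟩)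
      simp only [Finset.mem_insert, Finset.mem_singleton, not_or] at hb
      exact ⟨b, Ne.symm hb.1, Ne.symm hb.2⟩
    obtain ⟨x, hx1, hx2⟩ := hmeet a b1 b2 hb1 hb2 hb12
    have hpair : ∀ b, a ≠ b → (T a b).card = 2 := fun b hb => Finset.card_pair (hcd a b hb).1
    have ne_pair : ∀ {b b' : Fin 24}, a ≠ b → a ≠ b' → b ≠ b' → T a b ≠ T a b' := by
      intro b b' h h' hne e
      have := hTinj a b a b' h h' e
      have hm : b ∈ ({a, b'} : Finset (Fin 24)) := this ▸ by simp
      simp only [Finset.mem_insert, Finset.mem_singleton] at hm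
      rcases hm with hm | hm
      · exact h hm.symm
      · exact hne hm
    obtain ⟨y1, hy1⟩ := Finset.card_eq_one.1 (show ((T a b1).erase x).card = 1 by
      rw [Finset.card_erase_of_mem hx1, hpair b1 hb1])
    obtain ⟨y2, hy2⟩ := Finset.card_eq_one.1 (show ((T a b2).erase x).card = 1 by
      rw [Finset.card_erase_of_mem hx2, hpair b2 hb2])
    have e1 : T a b1 = {x, y1} := by rw [← Finset.insert_erase hx1, hy1]
    have e2 : T a b2 = {x, y2} := by rw [← Finset.insert_erase hx2, hy2]
    have y12 : y1 ≠ y2 := fun e => ne_pair hb1 hb2 hb12 (by rw [e1, e2, e])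
    refine ⟨x, fun b hb => by_contra fun hx => ?_⟩
    have htri : ∀ b', a ≠ b' → x ∉ T a b' → T a b' = {y1, y2} := by
      intro b' hb' hx'
      have hb1' : b1 ≠ b' := fun e => hx' (e ▸ hx1)
      have hb2' : b2 ≠ b' := fun e => hx' (e ▸ hx2)
      obtain ⟨u, hu, hu'⟩ := hmeet a b1 b' hb1 hb' hb1'
      obtain ⟨v, hv, hv'⟩ := hmeet a b2 b' hb2 hb' hb2'
      rw [e1] at hu
      rw [e2] at hv
      simp only [Finset.mem_insert, Finset.mem_singleton] at hu hv
      rcases hu with rfl | rfl
      · exact absurd hu' hx'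
      rcases hv with rfl | rfl
      · exact absurd hv' hx'
      exact (Finset.eq_of_subset_of_card_le (Finset.insert_subset hu'
        (Finset.singleton_subset_iff.2 hv')) (by rw [hpair b' hb', Finset.card_pair y12])).symm
    have eb := htri b hb hx
    have h3 : ∀ b', a ≠ b' → T a b' ∈ ({T a b1, T a b2, T a b} : Finset _) := by
      intro b' hb'
      simp only [Finset.mem_insert, Finset.mem_singleton]
      by_cases hx' : x ∈ T a b'
      swap
      · exact Or.inr (Or.inr ((htri b' hb' hx').trans eb.symm))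
      by_cases hbb : b = b'
      · exact absurd (hbb ▸ hx') hx
      obtain ⟨w, hw, hw'⟩ := hmeet a b b' hb hb' hbb
      rw [eb] at hw
      simp only [Finset.mem_insert, Finset.mem_singleton] at hw
      have hsub : ({x, w} : Finset (Fin 24)) ⊆ T a b' :=
        Finset.insert_subset hx' (Finset.singleton_subset_iff.2 hw')
      have hxw : x ≠ w := by
        intro e
        apply hx
        rw [eb, e]
        simpa using hw
      have heq := (Finset.eq_of_subset_of_card_le hsub
        (by rw [hpair b' hb', Finset.card_pair hxw])).symm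
      rcases hw with rfl | rfl
      · exact Or.inl (heq.trans e1.symm)
      · exact Or.inr (Or.inl (heq.trans e2.symm))
    have hc := Finset.card_le_card_of_injOn (s := Finset.univ.erase a) (T a)
      (fun b' hb' => h3 b' (Ne.symm (Finset.ne_of_mem_erase hb')))
      (fun p hp q hq e => by_contra fun hne => ne_pair (Ne.symm (Finset.ne_of_mem_erase hp))
        (Ne.symm (Finset.ne_of_mem_erase hq)) hne e)
    have h3' : ({T a b1, T a b2, T a b} : Finset _).card ≤ 3 := Finset.card_le_three
    rw [Finset.card_erase_of_mem (Finset.mem_univ a), Finset.card_univ, Fintype.card_fin] at hc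
    omega
  choose s hs using hstar
  have hsinj : Function.Injective s := by
    intro a a' e
    by_contra hne
    let X : Finset (Finset (Fin 24)) := (Finset.univ.erase (s a)).image fun y => {s a, y}
    have hX : X.card ≤ 23 := Finset.card_image_le.trans (by
      rw [Finset.card_erase_of_mem (Finset.mem_univ _), Finset.card_univ, Fintype.card_fin])
    let Y : Finset (Finset (Fin 24)) :=
      ((Finset.univ.erase a).image fun b => {a, b}) ∪ ((Finset.univ.erase a').image fun b => {a', b})
    have hsub : ∀ p b, p ≠ b → (p = a ∨ p = a') → T p b ∈ X := by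
      intro p b hpb hp
      have hsp : s p = s a := by rcases hp with rfl | rfl; exacts [rfl, e.symm]
      have hm := hs p b hpb
      rw [hsp] at hm
      obtain ⟨y, hy⟩ := Finset.card_eq_one.1 (show ((T p b).erase (s a)).card = 1 by
        rw [Finset.card_erase_of_mem hm, Finset.card_pair (hcd p b hpb).1])
      refine Finset.mem_image.2 ⟨y, ?_, by rw [← hy, Finset.insert_erase hm]⟩
      have : y ∈ (T p b).erase (s a) := by rw [hy]; simp
      exact Finset.mem_erase.2 ⟨Finset.ne_of_mem_erase this, Finset.mem_univ _⟩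
    obtain ⟨b3, hb3⟩ : ∃ b, b ∉ ({a, a'} : Finset (Fin 24)) := by
      by_contra hall
      have := congrArg Finset.card
        (Finset.eq_univ_iff_forall.2 fun x => by_contra fun hx => hall ⟨x, hx⟩ :
          ({a, a'} : Finset (Fin 24)) = Finset.univ)
      rw [Finset.card_univ, Fintype.card_fin, Finset.card_pair hne] at this
      omega
    simp only [Finset.mem_insert, Finset.mem_singleton, not_or] at hb3
    let U : Finset (Fin 24 × Fin 24) :=
      insert (a', b3) ((Finset.univ.erase a).image fun b => (a, b))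
    have hU : U.card = 24 := by
      rw [Finset.card_insert_of_notMem (by simp [hne]), Finset.card_image_of_injective _
        (Prod.mk_right_injective a), Finset.card_erase_of_mem (Finset.mem_univ _),
        Finset.card_univ, Fintype.card_fin]
    have hU' : ∀ p ∈ U, p.1 ≠ p.2 ∧ (p.1 = a ∨ p.1 = a') := by
      intro p hp
      simp only [U, Finset.mem_insert, Finset.mem_image, Finset.mem_erase, Finset.mem_univ,
        and_true] at hp
      rcases hp with rfl | ⟨b, hb, rfl⟩
      · exact ⟨Ne.symm hb3.2, Or.inr rfl⟩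
      · exact ⟨Ne.symm hb, Or.inl rfl⟩
    have hc := Finset.card_le_card_of_injOn (s := U) (fun p => T p.1 p.2)
      (fun p hp => hsub _ _ (hU' p hp).1 (hU' p hp).2) (by
        intro p hp q hq hpq
        have h := hTinj _ _ _ _ (hU' p hp).1 (hU' q hq).1 hpq
        have hp1 : p.1 ∈ ({q.1, q.2} : Finset (Fin 24)) := h ▸ by simp
        have hp2 : p.2 ∈ ({q.1, q.2} : Finset (Fin 24)) := h ▸ by simp
        simp only [U, Finset.coe_insert, Finset.coe_image, Set.mem_insert_iff, Set.mem_image,
          Finset.coe_erase, Finset.coe_univ] at hp hq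
        simp only [Finset.mem_insert, Finset.mem_singleton] at hp1 hp2
        rcases hp with rfl | ⟨b, hb, rfl⟩ <;> rcases hq with rfl | ⟨b', hb', rfl⟩
        · rfl
        · simp only at hp1 hp2
          rcases hp2 with h2 | h2
          · exact absurd h2 hb3.1
          · rcases hp1 with h1 | h1
            · exact absurd h1 (Ne.symm hne)
            · exact absurd (h1.trans h2.symm) (Ne.symm hb3.2)
        · simp only at hp1 hp2
          rcases hp1 with h1 | h1
          · exact absurd h1 hne
          · exact absurd h1.symm hb3.1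
        · simp only at hp1 hp2
          rcases hp2 with h2 | h2
          · exact absurd h2 hb.2
          · rw [h2])
    omega
  refine ⟨Equiv.ofBijective s (Finite.injective_iff_bijective.1 hsinj), fun a b hab => ?_⟩
  have e := hcd a b hab
  rw [← e.2]
  show phiF (c a b) (d a b) = phiF (s a) (s b)
  have hba : T b a = T a b := by
    have h1 := hcd b a (Ne.symm hab)
    have h2 : phiF (c b a) (d b a) = phiF (c a b) (d a b) := by
      rw [h1.2, e.2]; exact congrArg (adj g) (phi_comm _ _)
    exact phiF_eq h1.1 e.1 h2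
  have m1 := hs a b hab
  have m2 := hs b a (Ne.symm hab)
  rw [hba] at m2
  have hne : s a ≠ s b := fun h => hab (hsinj h)
  simp only [T, Finset.mem_insert, Finset.mem_singleton] at m1 m2
  rcases m1 with m1 | m1 <;> rcases m2 with m2 | m2
  · exact absurd (m1.trans m2.symm) hne
  · rw [m1, m2]
  · rw [m1, m2]; exact phi_comm _ _
  · exact absurd (m1.trans m2.symm) hne

end CfsgLib.Small.ConTwo.Code
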