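import Cfsg.Agent.Lib.Small.ConTwo.ABase
import Cfsg.Agent.Lib.Small.ConTwo.AChecks

/-!
Products along bit strings.
-/

set_option autoImplicit false

namespace CfsgLib.Small.ConTwo

open Equiv

/-- The product of the members of a list selected by the bits of a number. -/
def iota {G : Type*} [Group G] : List G → ℕ → G
  | [], _ => 1
  | b :: L, m => (if m % 2 = 1 then b else 1) * iota L (m / 2)

section

variable {G : Type*} [Group G]

theorem iota_zero : ∀ L : List G, iota L 0 = 1
  | [] => rfl
  | b :: L => by simp [iota, iota_zero L]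

theorem iota_mem {H : Subgroup G} : ∀ (L : List G) (m : ℕ), (∀ b ∈ L, b ∈ H) → iota L m ∈ H
  | [], _, _ => one_mem H
  | b :: L, m, h => by
    refine mul_mem ?_ (iota_mem L _ fun x hx => h x (List.mem_cons_of_mem _ hx))
    split
    · exact h b List.mem_cons_self
    · exact one_mem H

theorem iota_xor {H : Subgroup G} (hc : ∀ a ∈ H, ∀ b ∈ H, a * b = b * a)
    (h2 : ∀ a ∈ H, a * a = 1) : ∀ (L : List G) (a b : ℕ), (∀ x ∈ L, x ∈ H) →
      iota L (a ^^^ b) = iota L a * iota L b
  | [], _, _, _ => (one_mul 1).symm
  | x :: L, a, b, h => by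
    have hx := h x List.mem_cons_self
    have hL : ∀ y ∈ L, y ∈ H := fun y hy => h y (List.mem_cons_of_mem _ hy)
    have hA := iota_mem L (a / 2) hL
    simp only [iota, Nat.xor_div_two, iota_xor hc h2 L _ _ hL]
    simp only [Nat.xor_mod_two_eq_one]
    by_cases ha : a % 2 = 1 <;> by_cases hb : b % 2 = 1 <;>
      simp [ha, hb] <;> simp only [← mul_assoc]
    · calc iota L (a / 2) * iota L (b / 2) = x * x * iota L (a / 2) * iota L (b / 2) := by
            rw [h2 x hx, one_mul]
        _ = x * (x * iota L (a / 2)) * iota L (b / 2) := by group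
        _ = x * (iota L (a / 2) * x) * iota L (b / 2) := by rw [hc x hx _ hA]
        _ = x * iota L (a / 2) * x * iota L (b / 2) := by group
    all_goals
      first
        | rw [hc _ hA x hx]
        | rfl

theorem iota_map {K : Type*} [Group K] (φ : G →* K) : ∀ (L : List G) (m : ℕ),
    φ (iota L m) = iota (L.map φ) m
  | [], _ => map_one φ
  | b :: L, m => by
    simp only [iota, List.map_cons, map_mul, iota_map φ L]
    split <;> simp

theorem iota_conj (c : G) (L : List G) (m : ℕ) :
    c * iota L m * c⁻¹ = iota (L.map fun x => c * x * c⁻¹) m :=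
  iota_map (MulAut.conj c).toMonoidHom L m

theorem iota_append : ∀ (L K : List G) (m : ℕ),
    iota (L ++ K) m = iota L m * iota K (m / 2 ^ L.length)
  | [], K, m => by simp [iota]
  | b :: L, K, m => by
    simp only [List.cons_append, iota, iota_append L K, List.length_cons]
    rw [Nat.div_div_eq_div_mul, ← pow_succ', mul_assoc]

end

/-- The selected part of a word. -/
def selW : List (V8 × V8) → ℕ → List (V8 × V8)
  | [], _ => []
  | p :: L, t => if t % 2 = 1 then p :: selW L (t / 2) else selW L (t / 2)

theorem selW_top : (List.range 64).all (fun t => selW pairL t == topW t) = true := by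
  decide +kernel

namespace Model

variable {G : Type*} [Group G] {z : G} {Q : Subgroup G} {f : G → V8}
  {ρ : Cz z →* Perm V8} (M : Model z Q f ρ)

include M

theorem iota_f : ∀ (L : List G) (m : ℕ), (∀ b ∈ L, b ∈ Q) →
    (f (iota L m)).val = Code.app (L.map fun b => (f b).val) m
  | [], m, _ => by show (f 1).val = 0; rw [M.f_one]; rfl
  | b :: L, m, h => by
    have hL : ∀ y ∈ L, y ∈ Q := fun y hy => h y (List.mem_cons_of_mem _ hy)
    have hb : (if m % 2 = 1 then b else 1) ∈ Q := by
      split
      · exact h b List.mem_cons_self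
      · exact one_mem Q
    rw [iota, M.f_mul _ hb _ (iota_mem L _ hL), vadd_val, iota_f L _ hL]
    show _ = (if m % 2 = 1 then (f b).val else 0) ^^^ _
    split
    · rfl
    · rw [M.f_one]; rfl

omit M in
theorem iota_img : ∀ (L : List G) (P : List (V8 × V8)) (t : ℕ),
    List.Forall₂ (fun x p => Img ρ x (sieP p.1 p.2)) L P → Img ρ (iota L t) (wperm (selW P t))
  | _, _, _, .nil => Img.one
  | x :: L, p :: P, t, .cons h h' => by
    have ih := iota_img L P (t / 2) h'
    by_cases ht : t % 2 = 1
    · simp only [iota, selW, ht, if_true]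
      exact h.mul ih
    · simp only [iota, selW, ht, if_false, one_mul]
      exact ih

end Model

end CfsgLib.Small.ConTwo
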