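import Cfsg.Agent.Lib.Small.ConTwo.ASigns

/-!
An element of the normaliser moving the central involution.
-/

set_option autoImplicit false
set_option maxRecDepth 100000
set_option maxHeartbeats 0
set_option synthInstance.maxSize 4000

namespace CfsgLib.Small.ConTwo

open Equiv

/-- The span of four vectors. -/
def span4 (a b c : V8) : List V8 :=
  (List.range 16).map fun i =>
    vadd (vadd (sel (i.testBit 0) pt) (sel (i.testBit 1) a))
      (vadd (sel (i.testBit 2) b) (sel (i.testBit 3) c))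

/-- Perpendicular to `pt` and the vectors, singular and outside their span. -/
def nextOK (l : List V8) (v : V8) : Bool :=
  !bl v pt && !qb v && l.all fun w => !bl v w

theorem perp_check : ([8, 9] : List V8).all (fun a => (List.finRange 256).all fun b =>
    !nextOK [a] b || (span4 a 0 0).contains b || (List.finRange 256).all fun c =>
      !nextOK [a, b] c || (span4 a b 0).contains c || (List.finRange 256).all fun v =>
        bl v pt || bl v a || bl v b || bl v c || (span4 a b c).contains v) = true := by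
  decide +kernel

theorem perp_span {a b c v w : V8} (ha : qb a = false) (hap : bl a pt = false)
    (hb : nextOK [a] b = true) (hc : nextOK [a, b] c = true)
    (hind : ∀ i j k : Bool, (vadd (vadd (sel i a) (sel j b)) (sel k c) = 0 ∨
      vadd (vadd (sel i a) (sel j b)) (sel k c) = pt) → i = false ∧ j = false ∧ k = false)
    (hv : bl v pt = false ∧ bl v a = false ∧ bl v b = false ∧ bl v c = false)
    (hw : bl w pt = false ∧ bl w a = false ∧ bl w b = false ∧ bl w c = false) :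
    bl v w = false := by
  have ha0 : a ≠ 0 ∧ a ≠ pt := by
    constructor <;> intro e <;> have := (hind true false false (by simp [sel, vadd_zero, e])).1 <;>
      cases this
  obtain ⟨l, hl, hlp, hla⟩ := stab_orbit a hap ha0.1 ha0.2
  have hO := wperm_mem_O l
  simp only [ha, Bool.false_eq_true, if_false] at hla
  rw [← wperm_apply hl] at hlp hla
  generalize wperm l = σ at hO hlp hla
  have hmem : σ a ∈ ([8, 9] : List V8) := by
    rcases hla with h | h <;> rw [h] <;> decide +kernel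
  have hnb : nextOK [σ a] (σ b) = true := by
    simp only [nextOK, List.all_cons, List.all_nil, Bool.and_eq_true, Bool.not_eq_true'] at hb ⊢
    rw [O_q hO, O_bl hO]
    nth_rw 1 [← hlp]
    rw [O_bl hO]
    exact hb
  have hnc : nextOK [σ a, σ b] (σ c) = true := by
    simp only [nextOK, List.all_cons, List.all_nil, Bool.and_eq_true, Bool.not_eq_true'] at hc ⊢
    rw [O_q hO, O_bl hO, O_bl hO]
    nth_rw 1 [← hlp]
    rw [O_bl hO]
    exact hc
  have hspan : ∀ x : V8, x ∈ span4 (σ a) (σ b) (σ c) →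
      ∃ s i j k : Bool, x = σ (vadd (vadd (sel s pt) (sel i a)) (vadd (sel j b) (sel k c))) := by
    intro x hx
    obtain ⟨i, -, rfl⟩ := List.mem_map.1 hx
    exact ⟨i.testBit 0, i.testBit 1, i.testBit 2, i.testBit 3, by
      simp only [O_add hO, O_sel hO, hlp]⟩
  have sel0 : ∀ t : Bool, sel t (0 : V8) = 0 := fun t => by cases t <;> rfl
  have shift : ∀ p x y : V8, vadd p x = y → vadd x y = p := by
    intro p x y h
    rw [← h, vadd_comm p x, vadd_cancel]
  have hsel : ∀ t : Bool, sel t pt = 0 ∨ sel t pt = pt := fun t => by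
    cases t
    · exact Or.inl rfl
    · exact Or.inr rfl
  have hb' : σ b ∉ span4 (σ a) 0 0 := by
    intro hx
    obtain ⟨i, -, he⟩ := List.mem_map.1 hx
    simp only [sel0, vadd_zero] at he
    have h : vadd (sel (i.testBit 0) pt) (sel (i.testBit 1) a) = b := σ.injective (by
      simp only [O_add hO, O_sel hO, hlp, he])
    have := (hind (i.testBit 1) true false (by
      show vadd (vadd (sel (i.testBit 1) a) b) 0 = 0 ∨ vadd (vadd (sel (i.testBit 1) a) b) 0 = pt
      rw [vadd_zero, shift _ _ _ h]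
      exact hsel _)).2.1
    cases this
  have hc' : σ c ∉ span4 (σ a) (σ b) 0 := by
    intro hx
    obtain ⟨i, -, he⟩ := List.mem_map.1 hx
    simp only [sel0, vadd_zero] at he
    have h : vadd (sel (i.testBit 0) pt) (vadd (sel (i.testBit 1) a) (sel (i.testBit 2) b)) = c :=
      σ.injective (by simp only [O_add hO, O_sel hO, hlp]; rw [← vadd_assoc, he])
    have := (hind (i.testBit 1) (i.testBit 2) true (by
      show vadd (vadd (sel (i.testBit 1) a) (sel (i.testBit 2) b)) c = 0 ∨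
        vadd (vadd (sel (i.testBit 1) a) (sel (i.testBit 2) b)) c = pt
      rw [shift _ _ _ h]
      exact hsel _)).2.2
    cases this
  have key : ∀ x, (bl x pt = false ∧ bl x a = false ∧ bl x b = false ∧ bl x c = false) →
      σ x ∈ span4 (σ a) (σ b) (σ c) := by
    intro x hx
    have h := perp_check
    simp only [List.all_eq_true, List.mem_finRange, forall_true_left, Bool.or_eq_true,
      Bool.not_eq_true', List.contains_iff_mem] at h
    rcases h _ hmem (σ b) with (h1 | h1) | h1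
    · rw [hnb] at h1; cases h1
    · exact absurd h1 hb'
    rcases h1 (σ c) with (h2 | h2) | h2
    · rw [hnc] at h2; cases h2
    · exact absurd h2 hc'
    have hp : bl (σ x) pt = false := by nth_rw 1 [← hlp]; rw [O_bl hO]; exact hx.1
    rcases h2 (σ x) with (((h3 | h3) | h3) | h3) | h3
    · rw [hp] at h3; cases h3
    · rw [O_bl hO, hx.2.1] at h3; cases h3
    · rw [O_bl hO, hx.2.2.1] at h3; cases h3
    · rw [O_bl hO, hx.2.2.2] at h3; cases h3
    · exact h3
  obtain ⟨s, i, j, k, he⟩ := hspan _ (key v hv)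
  have hv' := σ.injective he
  rw [hv', bl_vadd_left, bl_vadd_left, bl_vadd_left, bl_sel_left, bl_sel_left, bl_sel_left,
    bl_sel_left, bl_comm pt, bl_comm a, bl_comm b, bl_comm c, hw.1, hw.2.1, hw.2.2.1, hw.2.2.2]
  simp

theorem nextOK_of {l : List V8} {v : V8} (h1 : bl v pt = false) (h2 : qb v = false)
    (h3 : ∀ w ∈ l, bl v w = false) : nextOK l v = true := by
  simp only [nextOK, h1, h2, Bool.not_false, Bool.true_and, List.all_eq_true, Bool.not_eq_true']
  exact h3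

theorem mem_normalizer_of {G : Type*} [Group G] [Finite G] {A : Subgroup G} {c : G}
    (h : ∀ a ∈ A, c * a * c⁻¹ ∈ A) : c ∈ Subgroup.normalizer (A : Set G) := by
  have hle : A.map (MulAut.conj c).toMonoidHom ≤ A := by
    rintro _ ⟨a, ha, rfl⟩
    exact h a ha
  have he := Subgroup.eq_of_le_of_card_ge hle
    (le_of_eq (Subgroup.card_map_of_injective (MulAut.conj c).injective).symm)
  refine Subgroup.mem_normalizer_iff.2 fun a => ⟨fun ha => h a ha, fun ha => ?_⟩
  rw [← he] at ha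
  obtain ⟨a', ha', e⟩ := ha
  have : a' = a := (MulAut.conj c).injective e
  exact this ▸ ha'

theorem comb_low : ∀ i j k : Bool,
    (vadd (vadd (sel i 2) (sel j 4)) (sel k 8)).val < 16 ∧
    ((vadd (vadd (sel i 2) (sel j 4)) (sel k 8) = 0 ∨
      vadd (vadd (sel i 2) (sel j 4)) (sel k 8) = pt) → i = false ∧ j = false ∧ k = false) ∧
    bl (vadd (sel i 2) (sel j 4)) pt = false ∧ bl (sel i 2) pt = false ∧ bl (sel j 4) pt = false ∧
    bl (sel k 8) pt = false := by
  decide +kernel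

namespace Model

variable {G : Type*} [Group G] [Finite G] {z : G} {Q : Subgroup G} {f : G → V8}
  {ρ : Cz z →* Perm V8} (M : Model z Q f ρ)

include M

/-- An element of the normaliser sending `z` to `u * z` and leaving the centraliser. -/
theorem exists_move {u g : G} (W : Swap z Q f u g)
    (hc : ∀ a ∈ AG Q f, ∀ c ∈ AG Q f, a * c = c * a) (h2 : ∀ a ∈ AG Q f, a * a = 1)
    {r : G} (hr : r ∈ Q) (hrf : f r = 2) :
    ∃ n ∈ Subgroup.normalizer (AG Q f : Set G), n * z * n⁻¹ = z * u ∧ n * r * n⁻¹ ∉ Q := by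
  obtain ⟨q, hq, hqf⟩ := M.f_surj (ev 4)
  have hqpt : bl (f q) pt = true := by rw [hqf]; exact perp_basis.2.2.1
  have huA : u ∈ AG Q f := M.low_mem W.nc.1 (by rw [W.fu]; decide)
  obtain ⟨xa, hxa, hxaI, hxa', -⟩ := M.D_in_AG W (w := 2) (by decide)
  obtain ⟨xb, hxb, hxbI, hxb', -⟩ := M.D_in_AG W (w := 4) (by decide)
  obtain ⟨xc, hxc, hxcI, hxc', -⟩ := M.D_in_AG W (w := 8) (by decide)
  have back : ∀ x, g⁻¹ * x * g ∈ Q → g * x * g⁻¹ ∈ Q := by
    intro x hx
    have h := M.normal _ (gg_mem W) _ hx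
    rwa [show g * g * (g⁻¹ * x * g) * (g * g)⁻¹ = g * x * g⁻¹ by group] at h
  have hperp : ∀ x ∈ AG Q f, g * x * g⁻¹ ∈ Q → bl (f (g * x * g⁻¹)) pt = false := by
    intro x hx hxQ
    rw [← W.fu]
    refine (M.commute_iff hxQ W.nc.1).1 ?_
    calc u * (g * x * g⁻¹) = g * z * g⁻¹ * (g * x * g⁻¹) := by rw [W.gz]
      _ = g * (z * x) * g⁻¹ := by group
      _ = g * x * g⁻¹ * (g * z * g⁻¹) := by rw [← mem_Cz.1 (M.AG_le hx)]; group
      _ = g * x * g⁻¹ * u := by rw [W.gz]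
  have hsing : ∀ x ∈ AG Q f, g * x * g⁻¹ ∈ Q → qb (f (g * x * g⁻¹)) = false := by
    intro x hx hxQ
    refine M.zp_inj ?_
    rw [← M.sq_zp hxQ, zp_false, show g * x * g⁻¹ * (g * x * g⁻¹) = g * (x * x) * g⁻¹ by group,
      h2 x hx]
    group
  have hortho : ∀ x ∈ AG Q f, ∀ y ∈ AG Q f, g * x * g⁻¹ ∈ Q → g * y * g⁻¹ ∈ Q →
      bl (f (g * x * g⁻¹)) (f (g * y * g⁻¹)) = false := by
    intro x hx y hy hxQ hyQ
    refine (M.commute_iff hxQ hyQ).1 ?_
    calc g * y * g⁻¹ * (g * x * g⁻¹) = g * (y * x) * g⁻¹ := by group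
      _ = g * x * g⁻¹ * (g * y * g⁻¹) := by rw [hc y hy x hx]; group
  have ha := back xa hxa'
  have hb := back xb hxb'
  have hc' := back xc hxc'
  have hind : ∀ i j k : Bool,
      (vadd (vadd (sel i (f (g * xa * g⁻¹))) (sel j (f (g * xb * g⁻¹))))
        (sel k (f (g * xc * g⁻¹))) = 0 ∨
       vadd (vadd (sel i (f (g * xa * g⁻¹))) (sel j (f (g * xb * g⁻¹))))
        (sel k (f (g * xc * g⁻¹))) = pt) → i = false ∧ j = false ∧ k = false := by
    intro i j k h
    obtain ⟨-, hz, hij, hi, hj, hk⟩ := comb_low i j k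
    let X : G := (if i then xa else 1) * (if j then xb else 1) * (if k then xc else 1)
    have hone : g * (1 : G) * g⁻¹ ∈ Q := by simp
    have one : ∀ (d : Bool) (v : V8) (x : G), Img ρ x (sieP pt v) → g * x * g⁻¹ ∈ Q →
        Img ρ (if d then x else 1) (sieP pt (sel d v)) ∧ g * (if d then x else 1) * g⁻¹ ∈ Q ∧
          f (g * (if d then x else 1) * g⁻¹) = sel d (f (g * x * g⁻¹)) := by
      intro d v x hx hx'
      cases d
      · refine ⟨by show Img ρ 1 (sieP pt 0); rw [sieP_zero]; exact Img.one, hone, ?_⟩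
        show f (g * 1 * g⁻¹) = 0
        rw [show g * (1 : G) * g⁻¹ = 1 by group, M.f_one]
      · exact ⟨hx, hx', rfl⟩
    obtain ⟨ia, ma, va⟩ := one i 2 xa hxaI ha
    obtain ⟨ib, mb, vb⟩ := one j 4 xb hxbI hb
    obtain ⟨ic, mc, vc⟩ := one k 8 xc hxcI hc'
    have hI : Img ρ X (sieP pt (vadd (vadd (sel i 2) (sel j 4)) (sel k 8))) := by
      rw [← sieP_mul hij hk, ← sieP_mul hi hj]
      exact (ia.mul ib).mul ic
    have hX : g * X * g⁻¹ ∈ Q := by
      show g * (_ * _ * _) * g⁻¹ ∈ Q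
      have h' := mul_mem (mul_mem ma mb) mc
      rwa [show ∀ a b c : G, g * a * g⁻¹ * (g * b * g⁻¹) * (g * c * g⁻¹) = g * (a * b * c) * g⁻¹
        from fun a b c => by group] at h'
    have hfX : f (g * X * g⁻¹) = vadd (vadd (sel i (f (g * xa * g⁻¹))) (sel j (f (g * xb * g⁻¹))))
        (sel k (f (g * xc * g⁻¹))) := by
      show f (g * (_ * _ * _) * g⁻¹) = _
      rw [show ∀ a b c : G, g * (a * b * c) * g⁻¹ = g * a * g⁻¹ * (g * b * g⁻¹) * (g * c * g⁻¹)
        from fun a b c => by group, M.f_mul _ (mul_mem ma mb) _ mc, M.f_mul _ ma _ mb, va, vb, vc]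
    rw [← hfX] at h
    have hXQ : X ∈ Q := by
      have hcases : g * X * g⁻¹ = 1 ∨ g * X * g⁻¹ = z ∨ g * X * g⁻¹ = u ∨ g * X * g⁻¹ = u * z := by
        rcases h with h | h
        · rcases (M.f_ker _ hX).1 h with h' | h' <;> tauto
        · rcases M.f_eq W.nc.1 hX (W.fu.trans h.symm) with h' | h' <;> tauto
      have e : X = g⁻¹ * (g * X * g⁻¹) * g := by group
      rcases hcases with h' | h' | h' | h' <;> rw [e, h']
      · simp
      · rw [W.zg]; exact W.nc.1
      · rw [swap_ug W]; exact M.z_mem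
      · rw [show g⁻¹ * (u * z) * g = g⁻¹ * u * g * (g⁻¹ * z * g) by group, swap_ug W, W.zg]
        exact mul_mem M.z_mem W.nc.1
    have hπ := hI.unique (M.img_q hXQ)
    rw [← sieP_zero] at hπ
    have h' := sieP_eq (perp_sum hij hk) (by decide +kernel) hπ
    rw [vadd_zero] at h'
    exact hz h'
  have hD : ∀ s ∈ Q, Low (f s) → ∃ ω, bl ω pt = false ∧ Img ρ (g * s * g⁻¹) (sieP pt ω) ∧
      Cm z u Q f ω (g * s * g⁻¹) ∧ g⁻¹ * (g * s * g⁻¹) * g ∈ Q := by
    intro s hs hl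
    obtain ⟨hC, hQ'⟩ := M.mk_D W hs (low_vadd hl (show Low pt by decide)).2
    obtain ⟨ω, hω, he⟩ := M.D_trans W (Img.mk' (ρ := ρ) hC) hQ'
    have hI : Img ρ (g * s * g⁻¹) (sieP pt ω) := ⟨hC, he⟩
    exact ⟨ω, hω, hI, M.D_comm W hI hQ' hω, hQ'⟩
  have hωperp : ∀ s ∈ Q, Low (f s) → ∀ ω, Cm z u Q f ω (g * s * g⁻¹) → ∀ x ∈ AG Q f,
      g * x * g⁻¹ ∈ Q → bl ω (f (g * x * g⁻¹)) = false := by
    intro s hs hl ω hcm x hx hxQ
    have h := hcm _ hxQ (hperp x hx hxQ)
    have hcomm : g * s * g⁻¹ * (g * x * g⁻¹) * (g * s * g⁻¹)⁻¹ = g * x * g⁻¹ := by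
      calc g * s * g⁻¹ * (g * x * g⁻¹) * (g * s * g⁻¹)⁻¹ = g * (s * x) * s⁻¹ * g⁻¹ := by group
        _ = g * x * g⁻¹ := by rw [← mem_AG.1 hx s hs hl]; group
    rw [hcomm] at h
    have h' := congrArg f (mul_eq_left.1 h.symm)
    rw [M.f_up W, M.f_one] at h'
    rw [bl_comm]
    cases hb : bl (f (g * x * g⁻¹)) ω
    · rfl
    · rw [hb] at h'; exact absurd h' pt_facts.2.1
  have key : ∀ a ∈ AG Q f, g⁻¹ * (q * (g * a * g⁻¹) * q⁻¹) * g ∈ AG Q f := by
    intro a ha'
    have hau : a * u = u * a := (hc a ha' u huA)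
    have haC := conj_mem_Cz' W hau
    have hcQ : q * (g * a * g⁻¹) * q⁻¹ * (g * a * g⁻¹)⁻¹ ∈ Q := by
      have h := mul_mem hq (M.normal _ haC _ (inv_mem hq))
      rwa [show q * (g * a * g⁻¹ * q⁻¹ * (g * a * g⁻¹)⁻¹) =
        q * (g * a * g⁻¹) * q⁻¹ * (g * a * g⁻¹)⁻¹ by group] at h
    obtain ⟨π, hπ⟩ : ∃ π, Img ρ (g * a * g⁻¹) π := ⟨_, Img.mk' haC⟩
    have hfc : f (q * (g * a * g⁻¹) * q⁻¹ * (g * a * g⁻¹)⁻¹) = vadd (f q) (π (f q)) := by
      rw [show q * (g * a * g⁻¹) * q⁻¹ * (g * a * g⁻¹)⁻¹ =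
        q * (g * a * g⁻¹ * q⁻¹ * (g * a * g⁻¹)⁻¹) by group,
        M.f_mul q hq _ (M.normal _ haC _ (inv_mem hq)), M.img_conj hπ (inv_mem hq), M.f_inv hq]
    have hv : ∀ x, g * x * g⁻¹ ∈ Q → a * x = x * a →
        bl (f (q * (g * a * g⁻¹) * q⁻¹ * (g * a * g⁻¹)⁻¹)) (f (g * x * g⁻¹)) = false := by
      intro x hxQ hax
      have hfix : π (f (g * x * g⁻¹)) = f (g * x * g⁻¹) := by
        rw [← M.img_conj hπ hxQ]
        congr 1
        calc g * a * g⁻¹ * (g * x * g⁻¹) * (g * a * g⁻¹)⁻¹ = g * (a * x) * a⁻¹ * g⁻¹ := by group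
          _ = g * x * g⁻¹ := by rw [hax]; group
      rw [hfc, bl_vadd_left]
      nth_rw 2 [← hfix]
      rw [O_bl (M.img_O hπ), Bool.xor_self]
    have hcc : g⁻¹ * (q * (g * a * g⁻¹) * q⁻¹ * (g * a * g⁻¹)⁻¹) * g ∈ AG Q f := by
      refine mem_AG.2 fun s hs hl => ?_
      obtain ⟨ω, hω, -, hcm, -⟩ := hD s hs hl
      have hcp : bl (f (q * (g * a * g⁻¹) * q⁻¹ * (g * a * g⁻¹)⁻¹)) pt = false := by
        rw [← W.fu]
        have h := hv z (by rw [W.gz]; exact W.nc.1) (hc a ha' z M.z_mem_AG)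
        rwa [W.gz] at h
      have hbl : bl (f (q * (g * a * g⁻¹) * q⁻¹ * (g * a * g⁻¹)⁻¹)) ω = false :=
        perp_span (hsing xa hxa ha) (hperp xa hxa ha)
          (nextOK_of (hperp xb hxb hb) (hsing xb hxb hb) (by
            simpa using hortho xb hxb xa hxa hb ha))
          (nextOK_of (hperp xc hxc hc') (hsing xc hxc hc') (by
            simpa using ⟨hortho xc hxc xa hxa hc' ha, hortho xc hxc xb hxb hc' hb⟩))
          hind ⟨hcp, hv xa ha (hc a ha' xa hxa), hv xb hb (hc a ha' xb hxb),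
            hv xc hc' (hc a ha' xc hxc)⟩
          ⟨hω, hωperp s hs hl ω hcm xa hxa ha, hωperp s hs hl ω hcm xb hxb hb,
            hωperp s hs hl ω hcm xc hxc hc'⟩
      have h := hcm _ hcQ hcp
      rw [hbl, M.up_false W, mul_one] at h
      generalize q * (g * a * g⁻¹) * q⁻¹ * (g * a * g⁻¹)⁻¹ = c at h
      calc g⁻¹ * c * g * s = g⁻¹ * (c * (g * s * g⁻¹)) * g := by group
        _ = g⁻¹ * (g * s * g⁻¹ * c * (g * s * g⁻¹)⁻¹ * (g * s * g⁻¹)) * g := by rw [h]
        _ = s * (g⁻¹ * c * g) := by group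
    have := mul_mem hcc ha'
    rwa [show g⁻¹ * (q * (g * a * g⁻¹) * q⁻¹ * (g * a * g⁻¹)⁻¹) * g * a =
      g⁻¹ * (q * (g * a * g⁻¹) * q⁻¹) * g by group] at this
  refine ⟨g⁻¹ * q * g, mem_normalizer_of fun a ha' => ?_, ?_, fun hin => ?_⟩
  · have := key a ha'
    rwa [show g⁻¹ * (q * (g * a * g⁻¹) * q⁻¹) * g = g⁻¹ * q * g * a * (g⁻¹ * q * g)⁻¹ by group]
      at this
  · have h := M.comm W.nc.1 hq
    rw [W.fu, bl_comm, hqpt, zp_true] at h
    calc g⁻¹ * q * g * z * (g⁻¹ * q * g)⁻¹ = g⁻¹ * (q * (g * z * g⁻¹)) * q⁻¹ * g := by group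
      _ = g⁻¹ * (z * (u * q)) * q⁻¹ * g := by rw [W.gz, h]
      _ = g⁻¹ * z * g * (g⁻¹ * u * g) := by group
      _ = z * u := by rw [W.zg, swap_ug W, mem_Cz.1 (M.le W.nc.1)]
  · have hrl : Low (f r) := by rw [hrf]; decide
    obtain ⟨ω, hω, hI, hcm, hQ'⟩ := hD r hr hrl
    have hcQ : q * (g * r * g⁻¹) * q⁻¹ * (g * r * g⁻¹)⁻¹ ∈ Q := by
      have h := mul_mem hq (M.normal _ hI.mem _ (inv_mem hq))
      rwa [show q * (g * r * g⁻¹ * q⁻¹ * (g * r * g⁻¹)⁻¹) =
        q * (g * r * g⁻¹) * q⁻¹ * (g * r * g⁻¹)⁻¹ by group] at h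
    have hne : sieP pt ω ≠ 1 := by
      intro e
      have h := M.D_back W hQ' (M.img_one_mem (e ▸ hI))
      rw [show g⁻¹ * (g * r * g⁻¹) * g = r by group, hrf] at h
      revert h
      decide +kernel
    have h0 : ω ≠ 0 := fun e => hne (by rw [e]; exact sieP_zero)
    have h1 : ω ≠ pt := fun e => hne (by rw [e]; exact sieP_pt)
    have hωs := M.D_sing W hI hQ' (by
      rw [show g * r * g⁻¹ * (g * r * g⁻¹) = g * (r * r) * g⁻¹ by group, M.sq_zp hr,
        (low_bl _).1 hrl, zp_false]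
      group) hω h0 h1
    have hfc : f (q * (g * r * g⁻¹) * q⁻¹ * (g * r * g⁻¹)⁻¹) =
        vadd ω (sel (bl (f q) ω) pt) := by
      rw [show q * (g * r * g⁻¹) * q⁻¹ * (g * r * g⁻¹)⁻¹ =
        q * (g * r * g⁻¹ * q⁻¹ * (g * r * g⁻¹)⁻¹) by group,
        M.f_mul q hq _ (M.normal _ hI.mem _ (inv_mem hq)), M.img_conj hI (inv_mem hq), M.f_inv hq,
        sieP_apply (sieOK_pt hω)]
      show vadd (f q) (vadd (f q) _) = _
      rw [vadd_cancel, hqpt, hωs]
      simp [sel, vadd_zero]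
    have hQc : g⁻¹ * (q * (g * r * g⁻¹) * q⁻¹ * (g * r * g⁻¹)⁻¹) * g ∈ Q := by
      have h := mul_mem hin (inv_mem hr)
      rwa [show g⁻¹ * q * g * r * (g⁻¹ * q * g)⁻¹ * r⁻¹ =
        g⁻¹ * (q * (g * r * g⁻¹) * q⁻¹ * (g * r * g⁻¹)⁻¹) * g by group] at h
    have h := M.R0_f W hcQ hQc
    rw [hfc] at h
    cases hbb : bl (f q) ω <;> rw [hbb] at h
    · rw [show sel false pt = 0 from rfl, vadd_zero] at h
      exact h.elim h0 h1
    · rw [show sel true pt = pt from rfl] at h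
      rcases h with h | h
      · exact h1 (vadd_eq_zero h)
      · exact h0 (by
          have := congrArg (fun x => vadd x pt) h
          simpa [vadd_assoc, vadd_self, vadd_zero] using this)

end Model

end CfsgLib.Small.ConTwo
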