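import Cfsg.Agent.Lib.Small.ConTwo.AClass
import Cfsg.Agent.Lib.Small.ConTwo.ACodeMap
import Cfsg.Agent.Lib.Small.ConTwo.AChainData
import Cfsg.Agent.Lib.Spor.M24Order

/-!
The automiser of the abelian group and its two orbits.
-/

set_option autoImplicit false
set_option maxRecDepth 100000
set_option synthInstance.maxSize 4000

namespace CfsgLib.Small.ConTwo

open Cfsg Equiv

namespace Code

theorem chain_check : (List.range 4).all (fun i => (chainW.getD i []).all (fun w =>
      w.all (fun g => decide (g < 10)) &&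
        (List.range i).all fun j => Nat.beq (run beta w (2 ^ (1 + j))) (2 ^ (1 + j))) &&
      decide ((chainW.getD i []).map fun w => run beta w (2 ^ (1 + i))).Nodup) = true := by
  decide +kernel

theorem chain_len : (List.range 4).map (fun i => (chainW.getD i []).length) = [30, 28, 24, 16] := by
  decide +kernel

theorem inS_count : selCount labB goodSel = 759 := by decide +kernel

theorem other_labels : (List.range 2048).all (fun m => Nat.beq m 0 || inS m ||
    Nat.beq (entry 4 labB m) (entry 4 labB fuseSrc) ||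
    Nat.beq (entry 4 labB m) (entry 4 labB (fuse fuseSrc))) = true := by
  decide +kernel

theorem adj_congr {g g' : ℕ → ℕ} (h : ∀ m < 2048, g m = g' m) (p : ℕ) : adj g p = adj g' p := by
  refine Nat.eq_of_testBit_eq fun i => ?_
  rcases Nat.lt_or_ge i 11 with hi | hi
  · rw [adj, adj, Nat.testBit_ofBits_lt _ i hi, Nat.testBit_ofBits_lt _ i hi,
      h _ (Nat.pow_lt_pow_right (a := 2) (by norm_num) hi)]
  · rw [adj, adj, Nat.testBit_ofBits_ge _ i hi, Nat.testBit_ofBits_ge _ i hi]

theorem rel_one : Rel (fun m => m) 1 := by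
  intro a b _
  refine par_ext (adj_lt _ _) (phi_lt a.isLt b.isLt) fun j hj => ?_
  rw [adj, par_two_pow _ j hj, Nat.testBit_ofBits_lt _ j hj]
  rfl

theorem sym_id : Sym (fun m => m) :=
  ⟨fun _ h => h, fun _ _ _ _ => rfl, fun _ _ _ _ e => e, fun _ _ => rfl⟩

theorem toPts_mul (σ τ : Equiv.Perm (Fin 24)) : toPts (τ * σ) = toPts σ * toPts τ := by
  refine Equiv.ext fun p => ?_
  simp [toPts]

theorem toPts_inj {σ τ : Equiv.Perm (Fin 24)} (h : toPts σ = toPts τ) : σ = τ := by
  refine inv_injective (Equiv.ext fun i => ?_)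
  have := Equiv.ext_iff.1 h (ptE i)
  simpa [toPts] using this

theorem toPts_one : toPts 1 = 1 := by
  refine Equiv.ext fun p => ?_
  simp [toPts]

end Code

theorem cOrb_conj {G : Type*} [Group G] {K : Subgroup G} {a n c : G} (hn : n ∈ K) :
    n * c * n⁻¹ ∈ cOrb K a ↔ c ∈ cOrb K a := by
  constructor
  · rintro ⟨k, hk, he⟩
    refine ⟨n⁻¹ * k, mul_mem (inv_mem hn) hk, ?_⟩
    calc n⁻¹ * k * a * (n⁻¹ * k)⁻¹ = n⁻¹ * (k * a * k⁻¹) * n := by group
      _ = c := by rw [he]; group
  · rintro ⟨k, hk, rfl⟩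
    exact ⟨n * k, mul_mem hn hk, by group⟩

/-- The successive stabilisers of the base. -/
def chainK {G : Type*} [Group G] (K : Subgroup G) (L : ℕ → G) : ℕ → Subgroup G
  | 0 => K
  | i + 1 => chainK K L i ⊓ Subgroup.centralizer {L i}

theorem mem_chainK {G : Type*} [Group G] {K : Subgroup G} {L : ℕ → G} {c : G} (hc : c ∈ K) :
    ∀ i, (∀ j < i, c * L j = L j * c) → c ∈ chainK K L i
  | 0, _ => hc
  | i + 1, h => ⟨mem_chainK hc i fun j hj => h j (Nat.lt_succ_of_lt hj),
      Subgroup.mem_centralizer_singleton_iff.2 (h i i.lt_succ_self)⟩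

theorem chainK_le {G : Type*} [Group G] {K : Subgroup G} {L : ℕ → G} : ∀ i, chainK K L i ≤ K
  | 0 => le_rfl
  | i + 1 => inf_le_left.trans (chainK_le i)

namespace Model

variable {G : Type*} [Group G] [Finite G] {z : G} {Q : Subgroup G} {f : G → V8}
  {ρ : Cz z →* Perm V8} (M : Model z Q f ρ) {u : G} {b e x : ℕ → G} {τ : ℕ}
  (D : ACoordData z Q f ρ u b e x τ)

include M D

theorem opW_act : ∀ (w : List ℕ), (∀ g ∈ w, g < 10) →
    ∀ (acc : G), acc ∈ Subgroup.normalizer (AG Q f : Set G) ⊓ Subgroup.centralizer {z} →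
    ∀ m m', m' < 2048 → acc * iota (basL z b x) m * acc⁻¹ = iota (basL z b x) m' →
      w.foldl (fun a g => opG b e g * a) acc ∈
          Subgroup.normalizer (AG Q f : Set G) ⊓ Subgroup.centralizer {z} ∧
        w.foldl (fun a g => opG b e g * a) acc * iota (basL z b x) m *
          (w.foldl (fun a g => opG b e g * a) acc)⁻¹ = iota (basL z b x) (Code.run τ w m') := by
  intro w
  induction w with
  | nil => exact fun _ acc hacc m m' _ h => ⟨hacc, h⟩
  | cons g w ih =>
    intro hw acc hacc m m' hm' h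
    have hg := hw g List.mem_cons_self
    simp only [List.foldl_cons, Code.run]
    refine ih (fun a ha => hw a (List.mem_cons_of_mem _ ha)) _
      ⟨mul_mem (M.op_mem D hg) hacc.1, ?_⟩ m _ (Code.act_lt τ hg m') ?_
    · have h1 := Subgroup.mem_centralizer_singleton_iff.1 hacc.2
      have h2 := mem_Cz.1 (M.op_Cz D hg)
      refine Subgroup.mem_centralizer_singleton_iff.2 ?_
      rw [mul_assoc, h1, ← mul_assoc, h2, mul_assoc]
    · rw [← D.act g hg m' hm', ← h]
      group

variable (hsel : ∀ m < 2048,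
  (iota (basL z b x) m ∈ cOrb (Subgroup.normalizer (AG Q f : Set G)) z ↔ Code.inS m = true))

omit hsel in
theorem card_lower (hτ : τ = Code.beta) :
    30 * 28 * 24 * 16 * 2048 ≤
      Nat.card (Subgroup.normalizer (AG Q f : Set G) ⊓ Subgroup.centralizer {z} : Subgroup G) := by
  subst hτ
  set K := Subgroup.normalizer (AG Q f : Set G) ⊓ Subgroup.centralizer {z} with hK
  let L : ℕ → G := fun i => iota (basL z b x) (2 ^ (1 + i))
  have hp : ∀ i < 4, (2 : ℕ) ^ (1 + i) < 2048 := fun i hi =>
    Nat.pow_lt_pow_right (a := 2) (by norm_num) (by omega : 1 + i < 11)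
  have hstep : ∀ i < 4, (Code.chainW.getD i []).length * Nat.card (chainK K L (i + 1)) ≤
      Nat.card (chainK K L i) := by
    intro i hi
    have hc := List.all_eq_true.1 Code.chain_check i (List.mem_range.2 hi)
    simp only [Bool.and_eq_true, List.all_eq_true, decide_eq_true_eq, List.mem_range] at hc
    obtain ⟨hw, hnd⟩ := hc
    have hmem : ∀ w ∈ Code.chainW.getD i [], opW b e w ∈ chainK K L i ∧
        opW b e w * L i * (opW b e w)⁻¹ = iota (basL z b x) (Code.run Code.beta w (2 ^ (1 + i))) := by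
      intro w hw'
      obtain ⟨hg, hfix⟩ := hw w hw'
      have act := fun m (hm : m < 2048) => M.opW_act D w hg 1 (one_mem _) m m hm (by group)
      refine ⟨mem_chainK (act 1 (by norm_num)).1 i fun j hj => ?_, (act _ (hp i hi)).2⟩
      refine mul_inv_eq_iff_eq_mul.1 ?_
      refine ((act _ (hp j (by omega))).2).trans ?_
      rw [Nat.eq_of_beq_eq_true (hfix j hj)]
    rw [← card_orbit_mul (chainK K L i) (L i)]
    refine Nat.mul_le_mul ?_ le_rfl
    rw [← Nat.card_fin (Code.chainW.getD i []).length]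
    refine Nat.card_le_card_of_injective (fun k => (⟨opW b e (Code.chainW.getD i [])[k] * L i *
      (opW b e (Code.chainW.getD i [])[k])⁻¹, _, (hmem _ (List.getElem_mem k.isLt)).1, rfl⟩ :
        cOrb (chainK K L i) (L i))) fun k l hkl => ?_
    have h := congrArg Subtype.val hkl
    simp only [Fin.getElem_fin] at h
    rw [(hmem _ (List.getElem_mem k.isLt)).2, (hmem _ (List.getElem_mem l.isLt)).2] at h
    have hlt : ∀ w ∈ Code.chainW.getD i [], Code.run Code.beta w (2 ^ (1 + i)) < 2048 := by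
      intro w hw'
      have key : ∀ (w : List ℕ), (∀ g ∈ w, g < 10) → ∀ m, m < 2048 →
          Code.run Code.beta w m < 2048 := by
        intro w
        induction w with
        | nil => exact fun _ m hm => hm
        | cons g w ih =>
          exact fun h m _ =>
            ih (fun a ha => h a (List.mem_cons_of_mem _ ha)) _ (Code.act_lt _ (h g List.mem_cons_self) m)
      exact key w (hw w hw').1 _ (hp i hi)
    have h' := M.binj D (hlt _ (List.getElem_mem k.isLt)) (hlt _ (List.getElem_mem l.isLt)) h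
    refine Fin.ext ?_
    exact (hnd.getElem_inj_iff (hi := by simpa using k.isLt) (hj := by simpa using l.isLt)).1
      (by simpa using h')
  have hA : AG Q f ≤ chainK K L 4 := fun a ha => mem_chainK (show a ∈ K from
    Subgroup.mem_inf.2 ⟨Subgroup.le_normalizer ha, Subgroup.mem_centralizer_singleton_iff.2
      (mem_Cz.1 (M.AG_le ha))⟩) 4 fun j hj => D.comm a ha _ (M.bmem D _)
  have h4 := Nat.card_le_card_of_injective _ (Subgroup.inclusion_injective hA)
  rw [M.card_AG D] at h4
  have hl := Code.chain_len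
  simp only [show List.range 4 = [0, 1, 2, 3] from rfl, List.map_cons, List.map_nil,
    List.cons.injEq, and_true] at hl
  have s0 := hstep 0 (by norm_num)
  have s1 := hstep 1 (by norm_num)
  have s2 := hstep 2 (by norm_num)
  have s3 := hstep 3 (by norm_num)
  rw [hl.1] at s0
  rw [hl.2.1] at s1
  rw [hl.2.2.1] at s2
  rw [hl.2.2.2] at s3
  show _ ≤ Nat.card (chainK K L 0)
  simp only [Nat.zero_add, Nat.reduceAdd] at s0 s1 s2 s3
  omega

include hsel in
theorem cj_sym {n : G} (hn : n ∈ Subgroup.normalizer (AG Q f : Set G)) :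
    Code.Sym (cj (basL z b x) n) := by
  have hs := fun m => M.cj_spec D hn m
  refine ⟨fun m _ => (hs m).1, fun a c _ _ => ?_, fun a c ha hc e => ?_, fun m hm => ?_⟩
  · refine M.binj D (hs _).1 (Code.xor_lt (hs a).1 (hs c).1) ?_
    rw [(hs _).2, M.bxor D, M.bxor D, (hs a).2, (hs c).2]
    group
  · refine M.binj D ha hc ?_
    have h := (hs a).2
    rw [e, (hs c).2] at h
    exact (mul_left_cancel (mul_right_cancel h)).symm
  · rw [Bool.eq_iff_iff, ← hsel _ (hs m).1, ← hsel m hm, (hs m).2]
    exact cOrb_conj hn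

include hsel in
/-- The automiser is the automorphism group of the code, and there are two orbits. -/
theorem recognise (hτ : τ = Code.beta) :
    ∃ _ : ((AG Q f).subgroupOf (Subgroup.normalizer (AG Q f : Set G))).Normal,
      Nonempty (↥(Subgroup.normalizer (AG Q f : Set G)) ⧸
        (AG Q f).subgroupOf (Subgroup.normalizer (AG Q f : Set G)) ≃* ↥M24) ∧
      ∃ a ∈ AG Q f, ∃ c ∈ AG Q f, a ≠ 1 ∧ c ≠ 1 ∧
        (∀ n ∈ Subgroup.normalizer (AG Q f : Set G), n * a * n⁻¹ ≠ c) ∧
        ∀ d ∈ AG Q f, d ≠ 1 →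
          ∃ n ∈ Subgroup.normalizer (AG Q f : Set G), n * d * n⁻¹ = a ∨ n * d * n⁻¹ = c := by
  classical
  set N := Subgroup.normalizer (AG Q f : Set G) with hN
  set B := basL z b x with hB
  choose σ hσ using fun n : N => Code.exists_sigma (M.cj_sym D hsel n.2)
  have hR : ∀ n : N, Code.Rel (cj B (n : G)) (σ n) := hσ
  have hmul : ∀ n n' : N, σ (n * n') = σ n' * σ n := by
    intro n n'
    have hS := M.cj_sym D hsel n.2
    have hS' := M.cj_sym D hsel n'.2
    have heq : ∀ m < 2048, cj B ((n * n' : N) : G) m = (cj B (n : G) ∘ cj B (n' : G)) m := by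
      intro m hm
      refine M.binj D (M.cj_spec D (n * n').2 m).1 (hS.lt _ (hS'.lt m hm)) ?_
      rw [(M.cj_spec D (n * n').2 m).2, Function.comp_apply, (M.cj_spec D n.2 _).2,
        (M.cj_spec D n'.2 _).2, Subgroup.coe_mul]
      group
    have hS'' : Code.Sym (cj B (n : G) ∘ cj B (n' : G)) :=
      ⟨fun m hm => hS.lt _ (hS'.lt m hm),
        fun a c ha hc => by
          simp only [Function.comp_apply]
          rw [hS'.add a c ha hc, hS.add _ _ (hS'.lt a ha) (hS'.lt c hc)],
        fun a c ha hc e => hS'.inj a c ha hc (hS.inj _ _ (hS'.lt a ha) (hS'.lt c hc) e),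
        fun m hm => (hS.pres _ (hS'.lt m hm)).trans (hS'.pres m hm)⟩
    refine Code.Rel.unique ?_ (Code.Rel.comp hS hS' (hR n) (hR n') hS'')
    intro a c hac
    rw [← Code.adj_congr heq]
    exact hR (n * n') a c hac
  let Θ : N →* M24 := MonoidHom.mk'
    (fun n => ⟨Code.toPts (σ n), Code.Rel.mem_M24 (M.cj_sym D hsel n.2) (hR n)⟩)
    fun n n' => Subtype.ext (by
      show Code.toPts (σ (n * n')) = Code.toPts (σ n) * Code.toPts (σ n')
      rw [hmul, Code.toPts_mul])
  have hker : Θ.ker = (AG Q f).subgroupOf N := by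
    ext n
    rw [MonoidHom.mem_ker, Subgroup.mem_subgroupOf]
    have hid : ∀ m < 2048, cj B (n : G) m = m ↔ (n : G) * iota B m = iota B m * n := by
      intro m hm
      rw [← mul_inv_eq_iff_eq_mul, ← (M.cj_spec D n.2 m).2]
      exact ⟨fun h => by rw [h], fun h => M.binj D (M.cj_spec D n.2 m).1 hm h⟩
    constructor
    · intro h
      have h1 : σ n = 1 := Code.toPts_inj ((congrArg Subtype.val h).trans Code.toPts_one.symm)
      refine M.cent_AG D fun a ha => ?_
      obtain ⟨m, hm, rfl⟩ := M.bsurj D ha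
      exact (hid m hm).1 (Code.Rel.eq_of (M.cj_sym D hsel n.2) Code.sym_id (h1 ▸ hR n)
        Code.rel_one hm)
    · intro h
      have h1 : σ n = 1 := by
        refine Code.Rel.unique ?_ Code.rel_one
        intro a c hac
        rw [← Code.adj_congr (g := cj B (n : G)) fun m hm =>
          (hid m hm).2 (D.comm _ h _ (M.bmem D m))]
        exact hR n a c hac
      exact Subtype.ext (by show Code.toPts (σ n) = 1; rw [h1, Code.toPts_one])
  have hcount : Nat.card (cOrb N z) = 759 := by
    rw [← Code.inS_count, Code.selCount,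
      ← List.toFinset_card_of_nodup (List.nodup_range.filter _), ← Nat.card_eq_finsetCard]
    refine (Nat.card_congr (Equiv.ofBijective (fun m => (⟨iota B m.val, ?_⟩ : cOrb N z))
      ⟨fun a c h => ?_, ?_⟩)).symm
    · have := m.2
      simp only [List.mem_toFinset, List.mem_filter, List.mem_range] at this
      exact (hsel _ this.1).2 this.2
    · have ha := a.2
      have hc := c.2
      simp only [List.mem_toFinset, List.mem_filter, List.mem_range] at ha hc
      exact Subtype.ext (M.binj D ha.1 hc.1 (congrArg Subtype.val h))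
    · rintro ⟨c, k, hk, rfl⟩
      obtain ⟨m, hm, he⟩ := M.bsurj D ((Subgroup.mem_normalizer_iff.1 hk z).1 M.z_mem_AG)
      refine ⟨⟨m, ?_⟩, Subtype.ext he⟩
      simp only [List.mem_toFinset, List.mem_filter, List.mem_range]
      exact ⟨hm, (hsel m hm).1 ⟨k, hk, he.symm⟩⟩
  have hsurj : Function.Surjective Θ := by
    rw [← MonoidHom.range_eq_top]
    refine Subgroup.eq_top_of_le_card _ ?_
    rw [CfsgLib.Spor.natCard_M24]
    have h1 := card_orbit_mul N z
    rw [hcount] at h1
    have h2 : _ ≤ Nat.card (N ⊓ Subgroup.centralizer {z} : Subgroup G) := M.card_lower D hτ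
    have h3 : Nat.card N = Nat.card Θ.range * Nat.card Θ.ker := by
      rw [← Subgroup.index_ker, Subgroup.index_mul_card]
    rw [hker, Nat.card_congr (Subgroup.subgroupOfEquivOfLe (Subgroup.le_normalizer)).toEquiv,
      M.card_AG D] at h3
    omega
  have hnorm : ((AG Q f).subgroupOf N).Normal := hker ▸ MonoidHom.normal_ker Θ
  refine ⟨hnorm, ⟨(QuotientGroup.quotientMulEquivOfEq hker.symm).trans
    (QuotientGroup.quotientKerEquivOfSurjective Θ hsurj)⟩, ?_⟩
  obtain ⟨hs, hs0, hsf, hsf', -⟩ := Code.fuse_facts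
  set c := iota B Code.fuseSrc with hc
  have hone : ∀ m < 2048, iota B m = 1 → m = 0 := fun m hm h =>
    M.binj D hm (by norm_num) (h.trans (iota_zero _).symm)
  refine ⟨z, M.z_mem_AG, c, M.bmem D _, M.z_ne, fun h => hs0 (hone _ hs h), ?_, ?_⟩
  · intro n hn h
    have := (hsel _ hs).1 ⟨n, hn, h⟩
    rw [hsf] at this
    cases this
  obtain ⟨k, hk⟩ := hsurj ⟨Code.toPts Code.shiftF, Code.Rel.mem_M24 Code.fuse_sym Code.fuse_rel⟩
  have hσk : σ k = Code.shiftF := Code.toPts_inj (congrArg Subtype.val hk)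
  have hcjk : cj B (k : G) Code.fuseSrc = Code.fuse Code.fuseSrc :=
    Code.Rel.eq_of (M.cj_sym D hsel k.2) Code.fuse_sym (hσk ▸ hR k) Code.fuse_rel hs
  let P : ℕ → Prop := fun m => iota B m ∈ cOrb N c
  have hPinv : ∀ g < 10, ∀ m < 2048, (P (Code.act Code.beta g m) ↔ P m) := by
    intro g hg m hm
    show iota _ _ ∈ cOrb N c ↔ _
    rw [← hτ, ← D.act g hg m hm]
    exact cOrb_conj (M.op_mem D hg)
  have hP1 : P Code.fuseSrc := ⟨1, one_mem _, by rw [hc]; group⟩
  have hP2 : P (Code.fuse Code.fuseSrc) := by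
    refine ⟨k, k.2, ?_⟩
    rw [← hcjk, (M.cj_spec D k.2 _).2]
  intro d hd hd1
  obtain ⟨m, hm, rfl⟩ := M.bsurj D hd
  have back : ∀ a, iota B m ∈ cOrb N a → ∃ n ∈ N, n * iota B m * n⁻¹ = a := by
    rintro a ⟨n, hn, he⟩
    exact ⟨n⁻¹, inv_mem hn, by rw [← he]; group⟩
  by_cases hin : Code.inS m = true
  · obtain ⟨n, hn, he⟩ := back z ((hsel m hm).2 hin)
    exact ⟨n, hn, Or.inl he⟩
  have hPm : P m := by
    have h := List.all_eq_true.1 Code.other_labels m (List.mem_range.2 hm)
    simp only [Bool.or_eq_true] at h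
    have hu := Code.union_of Code.orbB hPinv
    rw [(hu m hm).1]
    rcases h with ((h | h) | h) | h
    · exact absurd (by rw [Nat.eq_of_beq_eq_true h, iota_zero]) hd1
    · exact absurd h hin
    · rw [Nat.eq_of_beq_eq_true h]; exact (hu _ hs).1.1 hP1
    · rw [Nat.eq_of_beq_eq_true h]; exact (hu _ (Code.fuse_sym.lt _ hs)).1.1 hP2
  obtain ⟨n, hn, he⟩ := back c hPm
  exact ⟨n, hn, Or.inr he⟩

end Model

end CfsgLib.Small.ConTwo
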