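import Cfsg.Agent.Lib.Small.ConTwo.AAct

/-!
Normalised signs: only two patterns occur.
-/

set_option autoImplicit false
set_option maxRecDepth 100000
set_option synthInstance.maxSize 4000

namespace CfsgLib.Small.ConTwo

open Equiv

/-- An operator word. -/
def opW {G : Type*} [Group G] (b e : ℕ → G) (w : List ℕ) : G :=
  w.foldl (fun acc g => opG b e g * acc) 1

/-- The complete coordinate data. -/
structure ACoordData {G : Type*} [Group G] (z : G) (Q : Subgroup G) (f : G → V8)
    (ρ : Cz z →* Perm V8) (u : G) (b e x : ℕ → G) (τ : ℕ) : Prop where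
  frame : Frame z Q f ρ u b e
  lifts : Lifts z Q f ρ b x
  comm : ∀ a ∈ AG Q f, ∀ c ∈ AG Q f, a * c = c * a
  sq : ∀ a ∈ AG Q f, a * a = 1
  act : ∀ g < 10, ∀ m < 2048, opG b e g * iota (basL z b x) m * (opG b e g)⁻¹ =
    iota (basL z b x) (Code.act τ g m)

theorem rel_img : ∀ w ∈ Code.relW, (∀ g ∈ w, g < 6) ∧
    WordOK (w.reverse.map pE) ∧ ∀ j : Fin 8, wap (w.reverse.map pE) (ev j) = ev j := by
  decide +kernel

theorem defn_low : ∀ l < 6, (Code.defn.getD l (0, 0, 0)).2.2 < 2048 ∧
    (Code.defn.getD l (0, 0, 0)).2.2 ^^^ (2 ^ (5 + (Code.defn.getD l (0, 0, 0)).2.1) ^^^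
      2 ^ (5 + l)) < 32 := by
  decide +kernel


namespace Model

variable {G : Type*} [Group G] {z : G} {Q : Subgroup G} {f : G → V8}
  {ρ : Cz z →* Perm V8} (M : Model z Q f ρ)

include M

theorem exists_coords {u g : G} (W : Swap z Q f u g) (hgood : GoodFam Q f ρ) :
    ∃ b e x τ, ACoordData z Q f ρ u b e x τ ∧ (τ = 0 ∨ τ = Code.beta) := by
  classical
  obtain ⟨hc, h2⟩ := M.AG_gen W hgood
  obtain ⟨b, e, F⟩ := M.exists_Frame W
  choose! y hyA hyI hyT using fun k (hk : k < 6) => M.exists_lift F hc h2 W hk
  have hsplit : ∀ (x : ℕ → G), (∀ k < 6, x k ∈ AG Q f) → ∀ k < 6, ∀ r < 32,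
      iota (basL z b x) (2 ^ (5 + k) ^^^ r) = x k * iota [z, b 0, b 1, b 2, b 3] r := by
    intro x hx k hk r hr
    rw [iota_xor hc h2 _ _ _ (M.basL_mem F hx), M.iota_x F hk, M.iota_low F hr]
  have hT : ∀ (x : ℕ → G), (∀ k < 6, x k ∈ AG Q f) →
      (∀ k < 6, Img ρ (x k) (sieP (pairP k).1 (pairP k).2)) →
      (∀ k < 6, ∀ l < 4, b (4 + l) * x k * (b (4 + l))⁻¹ = x k * iota [z, b 0, b 1, b 2, b 3]
        (Code.app (Code.cols.getD (6 + l) []) (2 ^ (5 + k)) ^^^ 2 ^ (5 + k))) →
      Lifts z Q f ρ b x := by
    intro x hA hI h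
    refine ⟨hA, hI, fun k hk l hl => ?_⟩
    obtain ⟨-, hlt, -⟩ := trans_col k hk l hl
    rw [h k hk l hl, ← hsplit x hA k hk _ hlt]
    congr 1
    rw [Nat.xor_comm (Code.app _ _), ← Nat.xor_assoc, Nat.xor_self, Nat.zero_xor]
  have Ly := hT y hyA hyI hyT
  choose! t ht using fun g (hg : g < 6) k (hk : k < 6) => M.e_x F Ly hc h2 (g := g) (k := k) hg hk
  let d : ℕ → Bool := fun l =>
    t (Code.defn.getD l (0, 0, 0)).1 (Code.defn.getD l (0, 0, 0)).2.1
  let x : ℕ → G := fun k => y k * zp z (d k)
  have hzA : ∀ s, zp z s ∈ AG Q f := fun s => by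
    cases s
    · exact one_mem _
    · exact M.z_mem_AG
  have hzQ : ∀ s, zp z s ∈ Q := fun s => by
    cases s
    · exact one_mem _
    · exact M.z_mem
  have hxA : ∀ k < 6, x k ∈ AG Q f := fun k hk => mul_mem (hyA k hk) (hzA _)
  have L : Lifts z Q f ρ b x := by
    refine hT x hxA (fun k hk => M.img_mul_q (hyI k hk) (hzQ _)) fun k hk l hl => ?_
    have hb := M.le (F.bQ (4 + l) (by omega))
    calc b (4 + l) * (y k * zp z (d k)) * (b (4 + l))⁻¹
        = b (4 + l) * y k * (zp z (d k) * (b (4 + l))⁻¹) := by group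
      _ = b (4 + l) * y k * (b (4 + l))⁻¹ * zp z (d k) := by
          rw [← M.zp_comm _ (inv_mem hb)]; group
      _ = _ := by
          rw [hyT k hk l hl, mul_assoc (y k), mul_assoc (y k)]
          congr 1
          exact hc _ (by
            have := iota_mem [z, b 0, b 1, b 2, b 3]
              (Code.app (Code.cols.getD (6 + l) []) (2 ^ (5 + k)) ^^^ 2 ^ (5 + k))
              (H := AG Q f) fun a ha => M.basL_mem F hyA a (by
                simp only [basL, List.mem_cons, List.not_mem_nil, or_false] at ha ⊢; tauto)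
            exact this) _ (hzA _)
  choose! t' ht' using fun g (hg : g < 6) k (hk : k < 6) => M.e_x F L hc h2 (g := g) (k := k) hg hk
  let τ : ℕ := Nat.ofBits fun i : Fin 36 => t' (i.val / 6) (i.val % 6)
  have hτlt : τ < 2 ^ 36 := Nat.ofBits_lt_two_pow _
  have hτbit : ∀ g < 6, ∀ k < 6, τ.testBit (6 * g + k) = t' g k := by
    intro g hg k hk
    rw [Nat.testBit_ofBits_lt _ (6 * g + k) (by omega)]
    simp only
    rw [show (6 * g + k) / 6 = g by omega, show (6 * g + k) % 6 = k by omega]
  have hex : ∀ g < 6, ∀ k < 6, e g * x k * (e g)⁻¹ =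
      iota (basL z b x) (Code.act τ g (2 ^ (5 + k))) := by
    intro g hg k hk
    obtain ⟨hzm, hlt⟩ := zm_x g hg k hk
    rw [ht' g hg k hk, Code.act, hzm, Code.par_two_pow τ _ hlt, hτbit g hg k hk]
  have hact : ∀ g < 10, ∀ m < 2048, opG b e g * iota (basL z b x) m * (opG b e g)⁻¹ =
      iota (basL z b x) (Code.act τ g m) := by
    intro g hg
    by_cases h6 : g < 6
    · rw [opG, if_pos h6]
      refine M.act_all F L hc h2 hg ?_ (fun i hi => ?_) (hex g h6)
      · rw [mem_Cz.1 (F.eI g h6).mem, mul_inv_cancel_right]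
      · have h := M.op_b_low F L hc h2 (g := g) (i := i) hg hi τ
        rwa [opG, if_pos h6] at h
    · obtain ⟨l, rfl⟩ : ∃ l, g = 6 + l := ⟨g - 6, by omega⟩
      rw [opG, if_neg h6, show 6 + l - 2 = 4 + l by omega]
      exact M.op_w F L hc h2 (by omega)
  refine ⟨b, e, x, τ, ⟨F, L, hc, h2, hact⟩, Code.tau_cases hτlt ?_ ?_⟩
  · intro w hw k hk
    obtain ⟨hw6, hok, hfix⟩ := rel_img w hw
    have key : ∀ (w : List ℕ), (∀ g ∈ w, g < 6) → ∀ (acc : G) (l : List (V8 × V8)),
        Img ρ acc (wperm l) → ∀ m m', m' < 2048 →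
        acc * iota (basL z b x) m * acc⁻¹ = iota (basL z b x) m' →
        Img ρ (w.foldl (fun a g => opG b e g * a) acc) (wperm (w.reverse.map pE ++ l)) ∧
        Code.run τ w m' < 2048 ∧
        w.foldl (fun a g => opG b e g * a) acc * iota (basL z b x) m *
          (w.foldl (fun a g => opG b e g * a) acc)⁻¹ = iota (basL z b x) (Code.run τ w m') := by
      intro w
      induction w with
      | nil => exact fun _ acc l hI m m' hm' h => ⟨hI, hm', h⟩
      | cons g w ih =>
        intro hw acc l hI m m' hm' h
        have hg := hw g List.mem_cons_self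
        simp only [List.foldl_cons, List.reverse_cons, List.map_append, List.map_cons, List.map_nil,
          List.append_assoc, List.singleton_append, Code.run]
        refine ih (fun a ha => hw a (List.mem_cons_of_mem _ ha)) _ (pE g :: l) ?_ m _
          (Code.act_lt τ (by omega) m') ?_
        · rw [show wperm (pE g :: l) = sieP (pE g).1 (pE g).2 * wperm l from List.prod_cons,
            opG, if_pos hg]
          exact (F.eI g hg).mul hI
        · rw [← hact g (by omega) m' hm', ← h]
          group
    have hklt : (2 : ℕ) ^ (5 + k) < 2048 := Nat.pow_lt_pow_right (by norm_num) (by omega : 5 + k < 11)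
    obtain ⟨hI, hrun, hP⟩ := key w hw6 1 [] Img.one (2 ^ (5 + k)) _ hklt (by group)
    set c := w.foldl (fun a g => opG b e g * a) 1 with hcdef
    rw [List.append_nil, O_ext (wperm_mem_O _) (one_mem O) (π := wperm (w.reverse.map pE)) (σ := 1)
      fun j => by rw [wperm_apply hok, hfix]; rfl] at hI
    have hcQ := M.img_one_mem hI
    have hU : ∀ (o : ℕ), o ≤ 4 → o % 4 = 0 → ∀ p ∈ List.range 4,
        ∃ v ∈ Subgroup.closure ((fun j => b (o + j)) '' {j | j < 4}), c * b (o + p) * c⁻¹ = v := by
      intro o ho ho4 p hp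
      have hp4 := List.mem_range.1 hp
      let H : Subgroup G := Subgroup.closure ((fun j => b (o + j)) '' {j | j < 4})
      have hgen : ∀ g < 6, ∀ v ∈ H, e g * v * (e g)⁻¹ ∈ H := by
        intro g hg v hv
        have hle : H ≤ H.comap (MulAut.conj (e g)).toMonoidHom := by
          refine (Subgroup.closure_le _).2 ?_
          rintro _ ⟨j, hj, rfl⟩
          show e g * b (o + j) * (e g)⁻¹ ∈ H
          have hj' : j < 4 := hj
          rw [F.eAct g hg (o + j) (by omega), tgt]
          cases hm : movB g (o + j) with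
          | none => exact Subgroup.subset_closure ⟨j, hj, rfl⟩
          | some n =>
            refine mul_mem (Subgroup.subset_closure ⟨j, hj, rfl⟩) ?_
            rcases (show o = 0 ∨ o = 4 by omega) with rfl | rfl
            · have := (low_cols g (by omega) j hj').2.2 hg n (by simpa using hm)
              exact Subgroup.subset_closure ⟨n, this, by simp⟩
            · obtain ⟨h4, h8⟩ := movB_high g hg j hj' n hm
              exact Subgroup.subset_closure ⟨n - 4, show n - 4 < 4 by omega,
                by show b (4 + (n - 4)) = b n; rw [Nat.add_sub_cancel' h4]⟩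
        exact hle hv
      have hfold : ∀ (w : List ℕ), (∀ g ∈ w, g < 6) → ∀ (acc : G),
          (∀ v ∈ H, acc * v * acc⁻¹ ∈ H) → ∀ v ∈ H,
          w.foldl (fun a g => opG b e g * a) acc * v *
            (w.foldl (fun a g => opG b e g * a) acc)⁻¹ ∈ H := by
        intro w
        induction w with
        | nil => exact fun _ _ h => h
        | cons g w ih =>
          intro hw acc h
          simp only [List.foldl_cons]
          refine ih (fun a ha => hw a (List.mem_cons_of_mem _ ha)) _ fun v hv => ?_
          have hg := hw g List.mem_cons_self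
          rw [opG, if_pos hg, show e g * acc * v * (e g * acc)⁻¹ =
            e g * (acc * v * acc⁻¹) * (e g)⁻¹ by group]
          exact hgen g hg _ (h v hv)
      exact ⟨_, hfold w hw6 1 (fun v hv => by simpa using hv) _
        (Subgroup.subset_closure ⟨p, hp4, rfl⟩), rfl⟩
    have hbfix : ∀ (o : ℕ), o ≤ 4 → o % 4 = 0 → ∀ p < 4, c * b (o + p) = b (o + p) * c := by
      intro o ho ho4 p hp
      have hor : o = 0 ∨ o = 4 := by omega
      obtain ⟨v, hv, hcv⟩ := hU o ho ho4 p (List.mem_range.2 hp)
      have hnz : z ∉ Subgroup.closure ((fun j => b (o + j)) '' {j | j < 4}) := by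
        intro hz
        let LB : List G := [b o, b (o + 1), b (o + 2), b (o + 3)]
        have hLB : ∀ a ∈ LB, a ∈ Q := by
          intro a ha
          simp only [LB, List.mem_cons, List.not_mem_nil, or_false] at ha
          rcases ha with rfl | rfl | rfl | rfl <;> exact F.bQ _ (by omega)
        let H : Subgroup G := Subgroup.closure ((fun j => b (o + j)) '' {j | j < 4})
        have hHc : ∀ a ∈ H, ∀ a' ∈ H, a * a' = a' * a := by
          have h1 : H ≤ Subgroup.centralizer ((fun j => b (o + j)) '' {j | j < 4}) := by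
            refine (Subgroup.closure_le _).2 ?_
            rintro _ ⟨i, hi, rfl⟩
            refine Subgroup.mem_centralizer_iff.2 ?_
            rintro _ ⟨j, hj, rfl⟩
            have hi' : i < 4 := hi
            have hj' : j < 4 := hj
            show b (o + j) * b (o + i) = b (o + i) * b (o + j)
            rw [M.b_comm F (by omega : o + i < 8) (by omega : o + j < 8),
              decide_eq_false (by omega), zp_false, one_mul]
          have h2 : H ≤ Subgroup.centralizer (H : Set G) :=
            (Subgroup.closure_le _).2 fun a ha => Subgroup.mem_centralizer_iff.2 fun a' ha' =>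
              (Subgroup.mem_centralizer_iff.1 (h1 ha') a ha).symm
          exact fun a ha a' ha' => (Subgroup.mem_centralizer_iff.1 (h2 ha) a' ha').symm
        have hHQ : H ≤ Q := (Subgroup.closure_le _).2 fun a ha => by
          obtain ⟨j, hj, rfl⟩ := ha
          exact F.bQ _ (by have : j < 4 := hj; omega)
        have hHs : ∀ a ∈ H, a * a = 1 := by
          intro a ha
          induction ha using Subgroup.closure_induction with
          | mem a ha =>
            obtain ⟨j, hj, rfl⟩ := ha
            exact M.b_sq F (by have : j < 4 := hj; omega)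
          | one => exact one_mul 1
          | mul a a' ha ha' h h' =>
            calc a * a' * (a * a') = a * (a' * a) * a' := by group
              _ = (a * a) * (a' * a') := by rw [← hHc a ha a' ha']; group
              _ = 1 := by rw [h, h', one_mul]
          | inv a ha h => rw [← mul_inv_rev, h, inv_one]
        have hLH : ∀ a ∈ LB, a ∈ H := by
          intro a ha
          simp only [LB, List.mem_cons, List.not_mem_nil, or_false] at ha
          rcases ha with rfl | rfl | rfl | rfl
          · exact Subgroup.subset_closure ⟨0, show 0 < 4 by norm_num, rfl⟩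
          · exact Subgroup.subset_closure ⟨1, show 1 < 4 by norm_num, rfl⟩
          · exact Subgroup.subset_closure ⟨2, show 2 < 4 by norm_num, rfl⟩
          · exact Subgroup.subset_closure ⟨3, show 3 < 4 by norm_num, rfl⟩
        have hall : ∀ a ∈ H, ∃ m, m < 16 ∧ iota LB m = a := by
          intro a ha
          induction ha using Subgroup.closure_induction with
          | mem a ha =>
            obtain ⟨j, hj, rfl⟩ := ha
            have hj' : j < 4 := hj
            refine ⟨2 ^ j, by interval_cases j <;> norm_num, ?_⟩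
            interval_cases j <;> simp [LB, iota]
          | one => exact ⟨0, by norm_num, iota_zero _⟩
          | mul a a' ha ha' h h' =>
            obtain ⟨m, hm, rfl⟩ := h
            obtain ⟨m', hm', rfl⟩ := h'
            exact ⟨m ^^^ m', Nat.xor_lt_two_pow (n := 4) hm hm', iota_xor hHc hHs LB m m' hLH⟩
          | inv a ha h =>
            obtain ⟨m, hm, rfl⟩ := h
            exact ⟨m, hm, (inv_eq_of_mul_eq_one_right (hHs _ (iota_mem _ _ hLH))).symm⟩
        obtain ⟨m, hm, hme⟩ := hall z hz
        have hf := M.iota_f LB m hLB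
        rw [hme, M.f_z] at hf
        have hmap : LB.map (fun a => (f a).val) = [(bv o).val, (bv (o + 1)).val, (bv (o + 2)).val,
            (bv (o + 3)).val] := by
          simp only [LB, List.map_cons, List.map_nil, F.bf o (by omega), F.bf (o + 1) (by omega),
            F.bf (o + 2) (by omega), F.bf (o + 3) (by omega)]
        rw [hmap] at hf
        have hm0 : m = 0 := by
          rcases hor with rfl | rfl <;> interval_cases m <;> revert hf <;> decide +kernel
        rw [hm0, iota_zero] at hme
        exact M.z_ne hme.symm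
      have hvb := Subgroup.subset_closure (k := (fun j => b (o + j)) '' {j | j < 4})
        ⟨p, hp, rfl⟩
      simp only at hvb
      have hbQ := F.bQ (o + p) (by omega)
      have hcomm := M.comm hbQ hcQ
      cases hbl : bl (f (b (o + p))) (f c)
      · rw [hbl, zp_false, one_mul] at hcomm
        exact hcomm
      · exfalso
        rw [hbl, zp_true] at hcomm
        refine hnz ?_
        have e1 : c * b (o + p) * c⁻¹ = z * b (o + p) := by rw [hcomm]; group
        rw [hcv] at e1
        have : z = v * (b (o + p))⁻¹ := by rw [e1]; group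
        rw [this]
        exact mul_mem hv (inv_mem hvb)
    have hall : ∀ q ∈ Q, c * q = q * c := by
      have hb8 : ∀ j < 8, bl (f c) (bv j) = false := by
        intro j hj
        have h : c * b j = b j * c := by
          rcases Nat.lt_or_ge j 4 with h | h
          · simpa using hbfix 0 (by norm_num) rfl j h
          · have := hbfix 4 le_rfl rfl (j - 4) (by omega)
            rwa [Nat.add_sub_cancel' h] at this
        rw [← F.bf j hj]
        exact (M.commute_iff hcQ (F.bQ j hj)).1 h.symm
      have hf0 : f c = 0 := bl_nondeg _ fun j => by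
        have := hb8 j.val j.isLt
        rwa [show bv j.val = ev j from rfl] at this
      intro q hq
      exact ((M.commute_iff hcQ hq).2 (by rw [hf0]; simp [bl, pr, bit_zero])).symm
    have hc1 := M.cent_Q hI.mem hall
    refine (M.iota_inj F L hc h2 hrun hklt ?_)
    rw [← hP]
    rcases hc1 with e1 | e1 <;> rw [e1]
    · group
    · rw [← mem_Cz.1 (M.AG_le (M.iota_AG F L hc h2 _)), mul_inv_cancel_right]
  · intro p hp
    rw [gauge_eq] at hp
    obtain ⟨l, hl, rfl⟩ := List.mem_map.1 hp
    have hl6 := List.mem_range.1 hl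
    obtain ⟨hg, hk, hcol, -, -, -⟩ := defn_facts.2 l hl6
    obtain ⟨hclt, hclow⟩ := defn_low l hl6
    have hd : d l = t (Code.defn.getD l (0, 0, 0)).1 (Code.defn.getD l (0, 0, 0)).2.1 := rfl
    generalize (Code.defn.getD l (0, 0, 0)).1 = g at hg hcol hd ⊢
    generalize (Code.defn.getD l (0, 0, 0)).2.1 = k at hk hcol hclow hd ⊢
    generalize (Code.defn.getD l (0, 0, 0)).2.2 = c at hcol hclt hclow
    rw [hτbit g hg k hk]
    have h1 := ht g hg k hk
    have h1' := ht' g hg k hk
    rw [hcol] at h1 h1'
    generalize hr : c ^^^ (2 ^ (5 + k) ^^^ 2 ^ (5 + l)) = r at hclow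
    have hce : c = 2 ^ (5 + k) ^^^ (2 ^ (5 + l) ^^^ r) := by
      rw [← hr, ← Nat.xor_assoc, Nat.xor_comm c, ← Nat.xor_assoc, Nat.xor_self, Nat.zero_xor]
    have hsp : ∀ (w : ℕ → G), (∀ i < 6, w i ∈ AG Q f) → ∀ s : Bool,
        iota (basL z b w) (c ^^^ s.toNat) =
          w k * (w l * iota [z, b 0, b 1, b 2, b 3] r) * zp z s := by
      intro w hw s
      rw [iota_xor hc h2 _ _ _ (M.basL_mem F hw), hce, iota_xor hc h2 _ _ _ (M.basL_mem F hw),
        hsplit w hw l hl6 r hclow, M.iota_x F hk, M.iota_sign F]
    rw [hsp y hyA] at h1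
    rw [hsp x hxA] at h1'
    have hzc : ∀ s, ∀ a ∈ AG Q f, zp z s * a = a * zp z s := fun s a ha => hc _ (hzA s) a ha
    have hr' : iota [z, b 0, b 1, b 2, b 3] r ∈ AG Q f :=
      iota_mem _ _ fun a ha => M.basL_mem F hyA a (by
        simp only [basL, List.mem_cons, List.not_mem_nil, or_false] at ha ⊢; tauto)
    generalize iota [z, b 0, b 1, b 2, b 3] r = R at h1 h1' hr'
    have e1 : e g * x k * (e g)⁻¹ = y k * (y l * R) * zp z (t g k) * zp z (d k) := by
      show e g * (y k * zp z (d k)) * (e g)⁻¹ = _
      rw [← h1, show e g * (y k * zp z (d k)) * (e g)⁻¹ =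
        e g * y k * (zp z (d k) * (e g)⁻¹) by group, ← M.zp_comm _ (inv_mem (F.eI g hg).mem)]
      group
    have e2 : x k * (x l * R) * zp z (t' g k) =
        y k * (y l * R) * zp z (t g k) * zp z (d k) * zp z (t' g k) := by
      show y k * zp z (d k) * (y l * zp z (d l) * R) * _ = _
      rw [hd, mul_assoc (y l) (zp z (t g k)), hzc (t g k) R hr', ← mul_assoc (y l),
        mul_assoc (y k) (zp z (d k)), hzc (d k) _ (mul_mem (mul_mem (hyA l hl6) hr') (hzA _)),
        ← mul_assoc, ← mul_assoc]
    rw [e2, e1] at h1'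
    cases hb : t' g k
    · rfl
    · rw [hb, zp_true] at h1'
      exact absurd (mul_eq_left.1 h1'.symm) M.z_ne

end Model

end CfsgLib.Small.ConTwo
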