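import Cfsg.Agent.Lib.Small.ConTwo.AClass
import Cfsg.Agent.Lib.Coprime.Gaschutz

/-!
A complement: the translations and the lifts of an upper unitriangular group meet the abelian
group trivially, and they generate a subgroup of order `2 ^ 10`.
-/

set_option autoImplicit false
set_option maxRecDepth 100000
set_option synthInstance.maxSize 4000

namespace CfsgLib.Small.ConTwo

open Equiv

/-- Four sets of basis indices. -/
def quadL : List (List ℕ) := [[1, 2, 4, 7], [1, 3, 4, 6], [2, 3, 4, 5], [0, 3, 5, 6]]

/-- Words moving the standard four-space onto the four sets. -/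
def twL : List (List (V8 × V8)) :=
  [[(1, 8), (16, 128), (1, 8)], [(1, 4), (16, 64), (1, 4)], [(1, 2), (16, 32), (1, 2)],
    [(2, 4), (32, 64), (2, 4)]]

theorem tw_facts : ∀ i < 4, WordOK (twL.getD i []) ∧ (∀ j ∈ quadL.getD i [], j < 8) ∧
    ∀ v : Fin 16, ∃ s : Fin 16, (wap (twL.getD i []) (Fin.ofNat 256 v.val)).val =
      Code.app ((quadL.getD i []).map fun j => (bv j).val) s.val := by
  decide +kernel

/-- The words of the ten generators of the complement. -/
def kW : List (List ℕ) :=
  [[2], [4], [0], [2, 4, 2, 4], [0, 2, 0, 2], [0, 2, 4, 2, 4, 0, 2, 4, 2, 4], [6], [7], [8], [9]]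

/-- The concatenation of selected words. -/
def selCat : List (List ℕ) → ℕ → List ℕ
  | [], _ => []
  | w :: L, m => (if m % 2 = 1 then w else []) ++ selCat L (m / 2)

theorem kW_check : (List.range 1024).all (fun m => Nat.beq m 0 ||
    (List.range 11).any fun j =>
      !Nat.beq (Code.run Code.beta (selCat kW m).reverse (2 ^ j)) (2 ^ j)) = true := by
  decide +kernel

theorem selCat_lt : ∀ (L : List (List ℕ)) (m : ℕ), (∀ w ∈ L, ∀ g ∈ w, g < 10) →
    ∀ g ∈ selCat L m, g < 10
  | [], _, _, g, h => by simp [selCat] at h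
  | w :: L, m, hL, g, h => by
    rw [selCat, List.mem_append] at h
    rcases h with h | h
    · split at h
      · exact hL w List.mem_cons_self g h
      · simp at h
    · exact selCat_lt L _ (fun v hv => hL v (List.mem_cons_of_mem _ hv)) g h

theorem iota_selCat {G : Type*} [Group G] (p : ℕ → G) : ∀ (L : List (List ℕ)) (m : ℕ),
    iota (L.map fun w => (w.map p).prod) m = ((selCat L m).map p).prod
  | [], _ => rfl
  | w :: L, m => by
    simp only [List.map_cons, iota, selCat, iota_selCat p L, List.map_append, List.prod_append]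
    split <;> simp

/-- Each member is an involution normalising the span of the later ones. -/
def PC {G : Type*} [Group G] : List G → Prop
  | [] => True
  | x :: T => x * x = 1 ∧ (∀ y ∈ T, x * y * x ∈ Subgroup.closure {y | y ∈ T}) ∧ PC T

theorem iota_mem_closure {G : Type*} [Group G] (L : List G) (m : ℕ) :
    iota L m ∈ Subgroup.closure {y | y ∈ L} :=
  iota_mem L m fun _ hy => Subgroup.subset_closure hy

theorem PC.cover {G : Type*} [Group G] : ∀ {L : List G}, PC L →
    ∀ c ∈ Subgroup.closure {y | y ∈ L}, ∃ m < 2 ^ L.length, iota L m = c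
  | [], _, c, hc => by
    refine ⟨0, by norm_num, ?_⟩
    simp only [List.not_mem_nil, Set.ofPred_false, Subgroup.closure_empty,
      Subgroup.mem_bot] at hc
    exact (iota_zero _).trans hc.symm
  | x :: T, ⟨hx, hn, hT⟩, c, hc => by
    set H := Subgroup.closure {y | y ∈ T}
    have hxi : x⁻¹ = x := inv_eq_of_mul_eq_one_right hx
    have hnH : ∀ h ∈ H, x * h * x ∈ H := by
      have hle : H ≤ H.comap (MulAut.conj x).toMonoidHom :=
        (Subgroup.closure_le _).2 fun y hy => by
          show x * y * x⁻¹ ∈ H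
          rw [hxi]
          exact hn y hy
      intro h hh
      have h' : x * h * x⁻¹ ∈ H := hle hh
      rwa [hxi] at h'
    let p : Bool → G := fun s => if s then x else 1
    have hpp : ∀ s t, p s * p t = p (s ^^ t) := by
      intro s t; cases s <;> cases t <;> simp [p, hx]
    have hpn : ∀ s, ∀ h ∈ H, p s * h * p s ∈ H := by
      intro s h hh
      cases s
      · simpa [p] using hh
      · exact hnH h hh
    have hdec : ∃ s, ∃ h ∈ H, c = p s * h := by
      induction hc using Subgroup.closure_induction with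
      | mem y hy =>
        rcases List.mem_cons.1 hy with rfl | hy
        · exact ⟨true, 1, one_mem _, (mul_one _).symm⟩
        · exact ⟨false, y, Subgroup.subset_closure hy, (one_mul _).symm⟩
      | one => exact ⟨false, 1, one_mem _, (one_mul 1).symm⟩
      | mul a b ha hb iha ihb =>
        obtain ⟨s, h, hh, rfl⟩ := iha
        obtain ⟨t, k, hk, rfl⟩ := ihb
        refine ⟨s ^^ t, p t * h * p t * k, mul_mem (hpn t h hh) hk, ?_⟩
        rw [← hpp]
        calc p s * h * (p t * k) = p s * (p (t ^^ t) * h) * p t * k := by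
              rw [Bool.xor_self]; simp [p, mul_assoc]
          _ = _ := by rw [← hpp]; simp only [mul_assoc]
      | inv a ha iha =>
        obtain ⟨s, h, hh, rfl⟩ := iha
        refine ⟨s, p s * h⁻¹ * p s, hpn s _ (inv_mem hh), ?_⟩
        have hpi : (p s)⁻¹ = p s :=
          inv_eq_of_mul_eq_one_right ((hpp s s).trans (by rw [Bool.xor_self]; rfl))
        rw [mul_inv_rev, hpi, ← mul_assoc, ← mul_assoc, hpp, Bool.xor_self]
        simp [p]
    obtain ⟨s, h, hh, rfl⟩ := hdec
    obtain ⟨m, hm, rfl⟩ := PC.cover hT h hh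
    refine ⟨s.toNat + 2 * m, ?_, ?_⟩
    · rw [List.length_cons, pow_succ]
      have := Bool.toNat_lt s
      omega
    · cases s <;> simp [iota, p, show (1 + 2 * m) / 2 = m by omega]

theorem PC.card {G : Type*} [Group G] : ∀ {L : List G}, PC L →
    (∀ m < 2 ^ L.length, iota L m = 1 → m = 0) →
    Nat.card (Subgroup.closure {y | y ∈ L}) = 2 ^ L.length := by
  intro L hL h1
  have inj : ∀ {L : List G}, PC L → (∀ m < 2 ^ L.length, iota L m = 1 → m = 0) →
      ∀ a c, a < 2 ^ L.length → c < 2 ^ L.length → iota L a = iota L c → a = c := by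
    intro L
    induction L with
    | nil => intro _ _ a c ha hc _; simp at ha hc; omega
    | cons x T ih =>
      rintro ⟨hx, hn, hT⟩ h1 a c ha hc e
      rw [List.length_cons, pow_succ] at ha hc h1
      have h1T : ∀ m < 2 ^ T.length, iota T m = 1 → m = 0 := by
        intro m hm hme
        have := h1 (2 * m) (by omega) (by simp [iota, hme])
        omega
      have key : ∀ a c, a < 2 ^ T.length * 2 → c < 2 ^ T.length * 2 → a % 2 = 1 → c % 2 ≠ 1 →
          iota (x :: T) a ≠ iota (x :: T) c := by
        intro a c ha hc ha1 hc1 e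
        simp only [iota, ha1, hc1, if_true, if_false, one_mul] at e
        have hxm : x ∈ Subgroup.closure {y | y ∈ T} := by
          rw [show x = iota T (c / 2) * (iota T (a / 2))⁻¹ by rw [← e]; group]
          exact mul_mem (iota_mem_closure _ _) (inv_mem (iota_mem_closure _ _))
        obtain ⟨m, hm, hme⟩ := hT.cover x hxm
        have := h1 (1 + 2 * m) (by omega) (by
          simp [iota, show (1 + 2 * m) / 2 = m by omega, hme, hx])
        omega
      by_cases ha1 : a % 2 = 1 <;> by_cases hc1 : c % 2 = 1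
      · simp only [iota, ha1, hc1, if_true] at e
        have := ih hT h1T (a / 2) (c / 2) (by omega) (by omega) (mul_left_cancel e)
        omega
      · exact absurd e (key a c ha hc ha1 hc1)
      · exact absurd e.symm (key c a hc ha hc1 ha1)
      · simp only [iota, ha1, hc1, if_false, one_mul] at e
        have := ih hT h1T (a / 2) (c / 2) (by omega) (by omega) e
        omega
  rw [← Nat.card_fin (2 ^ L.length)]
  refine (Nat.card_congr (Equiv.ofBijective (fun m : Fin (2 ^ L.length) =>
    (⟨iota L m.val, iota_mem_closure L m.val⟩ : Subgroup.closure {y | y ∈ L})) ⟨?_, ?_⟩)).symm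
  · intro a c e
    exact Fin.ext (inj hL h1 _ _ a.isLt c.isLt (congrArg Subtype.val e))
  · rintro ⟨c, hc⟩
    obtain ⟨m, hm, he⟩ := hL.cover c hc
    exact ⟨⟨m, hm⟩, Subtype.ext he⟩

/-- The relations of an upper unitriangular group of dimension four over two elements. -/
theorem unitri {G : Type*} [Group G] {a b c d f h : G} (hb : b * b = 1)
    (hc : c * c = 1) (ha : a * a = 1) (hf : f * f = 1) (hh : h * h = 1)
    (ed : d = a * b * a * b) (ef : f = b * c * b * c) (eh : h = a * f * a * f)
    (ac : a * c = c * a) (ah : a * h = h * a) (bf : b * f = f * b) (bh : b * h = h * b) :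
    b * a * b = a * d ∧ b * c * b = f * c ∧ a * f * a = h * f ∧ c * d * c = h * d := by
  have e1 : b * a * b = a * d := by
    rw [ed, show a * (a * b * a * b) = a * a * (b * a * b) by group, ha, one_mul]
  have e2 : b * c * b = f * c := by
    rw [ef, show b * c * b * c * c = b * c * b * (c * c) by group, hc, mul_one]
  have e3 : a * f * a = h * f := by
    rw [eh, show a * f * a * f * f = a * f * a * (f * f) by group, hf, mul_one]
  refine ⟨e1, e2, e3, ?_⟩
  have hinv : c * b * c = b * f := by
    rw [ef, show b * (b * c * b * c) = b * b * (c * b * c) by group, hb, one_mul]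
  have e4 : f * a = h * a * f := by
    have hi : h⁻¹ = h := inv_eq_of_mul_eq_one_right hh
    calc f * a = (a * f * a * f)⁻¹ * (a * f * a * f) * (f * a) := by group
      _ = h⁻¹ * (a * f * a * (f * f) * a) := by rw [← eh]; rw [eh]; group
      _ = h⁻¹ * (a * f * (a * a)) := by rw [hf]; group
      _ = h * a * f := by rw [ha, hi]; group
  calc c * d * c = c * a * (c * c) * b * (c * c) * a * (c * c) * b * c := by rw [ed, hc]; group
    _ = c * a * c * (c * b * c) * (c * a * c) * (c * b * c) := by group
    _ = a * (b * f) * a * (b * f) := by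
        rw [← ac, show a * c * c = a * (c * c) by group, hc, mul_one, hinv]
    _ = a * b * (f * a) * b * f := by group
    _ = a * (b * h) * a * (f * b) * f := by rw [e4]; group
    _ = (a * h) * b * a * b * (f * f) := by rw [bh, ← bf]; group
    _ = h * d := by rw [hf, ah, ed]; group

namespace Model

variable {G : Type*} [Group G] [Finite G] {z : G} {Q : Subgroup G} {f : G → V8}
  {ρ : Cz z →* Perm V8} (M : Model z Q f ρ) {u : G} {b e x : ℕ → G} {τ : ℕ}
  (D : ACoordData z Q f ρ u b e x τ)

include M D

theorem quad_ab {i : ℕ} (hi : i < 4) {y y' : G} (hy : y ∈ Cz z) (hy' : y' ∈ Cz z)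
    (hfy : ∀ j ∈ quadL.getD i [], y * b j = b j * y)
    (hfy' : ∀ j ∈ quadL.getD i [], y' * b j = b j * y') :
    y * y = 1 ∧ y * y' = y' * y := by
  obtain ⟨hok, hlt, himg⟩ := tw_facts i hi
  obtain ⟨c, hc⟩ := M.lift (twL.getD i [])
  have key : ∀ v : G, v ∈ Cz z → (∀ j ∈ quadL.getD i [], v * b j = b j * v) →
      c⁻¹ * v * c ∈ AG Q f := by
    intro v hv hfv
    refine mem_AG.2 fun q hq hl => ?_
    have hr : c * q * c⁻¹ ∈ Q := M.normal _ hc.mem _ hq
    obtain ⟨s, hs⟩ := himg ⟨(f q).val, hl⟩
    rw [show Fin.ofNat 256 (f q).val = f q from Fin.ext (by simp), ← wperm_apply hok,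
      ← M.img_conj hc hq] at hs
    have hL : ∀ a ∈ (quadL.getD i []).map b, a ∈ Q := by
      intro a ha
      obtain ⟨j, hj, rfl⟩ := List.mem_map.1 ha
      exact D.frame.bQ j (hlt j hj)
    have hfL : f (iota ((quadL.getD i []).map b) s.val) = f (c * q * c⁻¹) := by
      refine Fin.ext ?_
      rw [M.iota_f _ _ hL, hs, List.map_map]
      congr 1
      refine List.map_congr_left fun j hj => ?_
      simp only [Function.comp_apply, D.frame.bf j (hlt j hj)]
    have hcomm : v * iota ((quadL.getD i []).map b) s.val =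
        iota ((quadL.getD i []).map b) s.val * v := by
      refine (Subgroup.mem_centralizer_singleton_iff.1 (iota_mem
        (H := Subgroup.centralizer {v}) _ _ fun a ha => ?_)).symm
      obtain ⟨j, hj, rfl⟩ := List.mem_map.1 ha
      exact Subgroup.mem_centralizer_singleton_iff.2 (hfv j hj).symm
    have hvr : v * (c * q * c⁻¹) = c * q * c⁻¹ * v := by
      rcases M.f_eq (iota_mem _ _ hL) hr hfL with h | h <;> rw [h]
      · exact hcomm
      · rw [← mul_assoc, hcomm, mul_assoc, mem_Cz.1 hv, mul_assoc]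
    calc c⁻¹ * v * c * q = c⁻¹ * (v * (c * q * c⁻¹)) * c := by group
      _ = q * (c⁻¹ * v * c) := by rw [hvr]; group
  have h1 := key y hy hfy
  have h2 := key y' hy' hfy'
  constructor
  · calc y * y = c * (c⁻¹ * y * c * (c⁻¹ * y * c)) * c⁻¹ := by group
      _ = 1 := by rw [D.sq _ h1]; group
  · calc y * y' = c * (c⁻¹ * y * c * (c⁻¹ * y' * c)) * c⁻¹ := by group
      _ = y' * y := by rw [D.comm _ h1 _ h2]; group

theorem word_act : ∀ (w : List ℕ), (∀ g ∈ w, g < 10) → ∀ m < 2048,
    Code.run τ w.reverse m < 2048 ∧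
      (w.map (opG b e)).prod * iota (basL z b x) m * ((w.map (opG b e)).prod)⁻¹ =
        iota (basL z b x) (Code.run τ w.reverse m) := by
  intro w
  induction w with
  | nil => intro _ m hm; exact ⟨hm, by simp [Code.run]⟩
  | cons g w ih =>
    intro hw m hm
    obtain ⟨hlt, h⟩ := ih (fun a ha => hw a (List.mem_cons_of_mem _ ha)) m hm
    have hg := hw g List.mem_cons_self
    simp only [List.reverse_cons, Code.run, List.foldl_append, List.foldl_cons, List.foldl_nil]
      at hlt h ⊢
    refine ⟨Code.act_lt _ hg _, ?_⟩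
    rw [← D.act g hg _ hlt, ← h, List.map_cons, List.prod_cons]
    group

theorem kW_pc : PC (kW.map fun w => (w.map (opG b e)).prod) := by
  have F := D.frame
  have hcb : ∀ g < 6, ∀ j < 8, e g * b j = tgt b g j * e g := fun g hg j hj =>
    mul_inv_eq_iff_eq_mul.1 (F.eAct g hg j hj)
  have hb2 : ∀ j < 8, b j * b j = 1 := fun j hj => M.b_sq F hj
  have hb3 : ∀ j < 8, ∀ v : G, b j * (b j * v) = v := fun j hj v => by
    rw [← mul_assoc, hb2 j hj, one_mul]
  have hfix : ∀ g < 6, ∀ j < 8, movB g j = none → e g * b j = b j * e g := by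
    intro g hg j hj h
    rw [hcb g hg j hj, tgt, h]
  set A := e 0 with hA
  set B := e 2 with hB
  set C := e 4 with hC
  have hAz : A ∈ Cz z := (F.eI 0 (by norm_num)).mem
  have hBz : B ∈ Cz z := (F.eI 2 (by norm_num)).mem
  have hCz : C ∈ Cz z := (F.eI 4 (by norm_num)).mem
  let cA := (MulAut.conj A).toMonoidHom
  let cB := (MulAut.conj B).toMonoidHom
  let cC := (MulAut.conj C).toMonoidHom
  have eA : ∀ j < 8, cA (b j) = tgt b 0 j := fun j hj => F.eAct 0 (by norm_num) j hj
  have eB : ∀ j < 8, cB (b j) = tgt b 2 j := fun j hj => F.eAct 2 (by norm_num) j hj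
  have eC : ∀ j < 8, cC (b j) = tgt b 4 j := fun j hj => F.eAct 4 (by norm_num) j hj
  set dd := A * B * A * B with hdd
  set ff := B * C * B * C with hff
  set hh := A * ff * A * ff with hhh
  have hddz : dd ∈ Cz z := mul_mem (mul_mem (mul_mem hAz hBz) hAz) hBz
  have hffz : ff ∈ Cz z := mul_mem (mul_mem (mul_mem hBz hCz) hBz) hCz
  have hhhz : hh ∈ Cz z := mul_mem (mul_mem (mul_mem hAz hffz) hAz) hffz
  have cdd : ∀ v, dd * v * dd⁻¹ = cA (cB (cA (cB v))) := fun v => by
    simp only [hdd, cA, cB, MulEquiv.coe_toMonoidHom, MulAut.conj_apply]; group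
  have cff : ∀ v, ff * v * ff⁻¹ = cB (cC (cB (cC v))) := fun v => by
    simp only [hff, cB, cC, MulEquiv.coe_toMonoidHom, MulAut.conj_apply]; group
  have chh : ∀ v, hh * v * hh⁻¹ = cA (cB (cC (cB (cC (cA (cB (cC (cB (cC v))))))))) := fun v => by
    simp only [hhh, hff, cA, cB, cC, MulEquiv.coe_toMonoidHom, MulAut.conj_apply]; group
  have dfix : ∀ j ∈ [1, 2, 3, 4, 5, 7], dd * b j = b j * dd := by
    intro j hj
    refine mul_inv_eq_iff_eq_mul.1 ?_
    rw [cdd]
    simp only [List.mem_cons, List.not_mem_nil, or_false] at hj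
    rcases hj with rfl | rfl | rfl | rfl | rfl | rfl <;>
      simp [eA, eB, tgt, movB, map_mul, mul_assoc, hb2, hb3]
  have ffix : ∀ j ∈ [0, 2, 3, 4, 5, 6], ff * b j = b j * ff := by
    intro j hj
    refine mul_inv_eq_iff_eq_mul.1 ?_
    rw [cff]
    simp only [List.mem_cons, List.not_mem_nil, or_false] at hj
    rcases hj with rfl | rfl | rfl | rfl | rfl | rfl <;>
      simp [eB, eC, tgt, movB, map_mul, mul_assoc, hb2, hb3]
  have hfix' : ∀ j ∈ [1, 2, 3, 4, 5, 6], hh * b j = b j * hh := by
    intro j hj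
    refine mul_inv_eq_iff_eq_mul.1 ?_
    rw [chh]
    simp only [List.mem_cons, List.not_mem_nil, or_false] at hj
    rcases hj with rfl | rfl | rfl | rfl | rfl | rfl <;>
      simp [eA, eB, eC, tgt, movB, map_mul, mul_assoc, hb2, hb3]
  have afix : ∀ j ∈ [1, 2, 3, 4, 6, 7], A * b j = b j * A := by
    intro j hj
    simp only [List.mem_cons, List.not_mem_nil, or_false] at hj
    rcases hj with rfl | rfl | rfl | rfl | rfl | rfl <;>
      exact hfix 0 (by norm_num) _ (by norm_num) rfl
  have bfix : ∀ j ∈ [0, 2, 3, 4, 5, 7], B * b j = b j * B := by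
    intro j hj
    simp only [List.mem_cons, List.not_mem_nil, or_false] at hj
    rcases hj with rfl | rfl | rfl | rfl | rfl | rfl <;>
      exact hfix 2 (by norm_num) _ (by norm_num) rfl
  have cfix : ∀ j ∈ [0, 1, 3, 4, 5, 6], C * b j = b j * C := by
    intro j hj
    simp only [List.mem_cons, List.not_mem_nil, or_false] at hj
    rcases hj with rfl | rfl | rfl | rfl | rfl | rfl <;>
      exact hfix 4 (by norm_num) _ (by norm_num) rfl
  have q : ∀ {i : ℕ} {y y' : G} {l l' : List ℕ}, i < 4 → y ∈ Cz z → y' ∈ Cz z →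
      (∀ j ∈ l, y * b j = b j * y) → (∀ j ∈ l', y' * b j = b j * y') →
      (∀ j ∈ quadL.getD i [], j ∈ l) → (∀ j ∈ quadL.getD i [], j ∈ l') →
      y * y = 1 ∧ y * y' = y' * y :=
    fun hi hy hy' h h' hl hl' =>
      M.quad_ab D hi hy hy' (fun j hj => h j (hl j hj)) fun j hj => h' j (hl' j hj)
  obtain ⟨sA, AD⟩ := q (i := 0) (by norm_num) hAz hddz afix dfix (by decide) (by decide)
  obtain ⟨-, AC⟩ := q (i := 1) (by norm_num) hAz hCz afix cfix (by decide) (by decide)
  obtain ⟨-, AH⟩ := q (i := 1) (by norm_num) hAz hhhz afix hfix' (by decide) (by decide)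
  obtain ⟨sC, CH⟩ := q (i := 1) (by norm_num) hCz hhhz cfix hfix' (by decide) (by decide)
  obtain ⟨sB, BD⟩ := q (i := 2) (by norm_num) hBz hddz bfix dfix (by decide) (by decide)
  obtain ⟨-, BF⟩ := q (i := 2) (by norm_num) hBz hffz bfix ffix (by decide) (by decide)
  obtain ⟨-, BH⟩ := q (i := 2) (by norm_num) hBz hhhz bfix hfix' (by decide) (by decide)
  obtain ⟨sD, DF⟩ := q (i := 2) (by norm_num) hddz hffz dfix ffix (by decide) (by decide)
  obtain ⟨-, DH⟩ := q (i := 2) (by norm_num) hddz hhhz dfix hfix' (by decide) (by decide)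
  obtain ⟨sF, FH⟩ := q (i := 2) (by norm_num) hffz hhhz ffix hfix' (by decide) (by decide)
  obtain ⟨sH, -⟩ := q (i := 2) (by norm_num) hhhz hhhz hfix' hfix' (by decide) (by decide)
  obtain ⟨-, CF⟩ := q (i := 3) (by norm_num) hCz hffz cfix ffix (by decide) (by decide)
  obtain ⟨r1, r2, r3, r4⟩ := unitri sB sC sA sF sH hdd hff hhh AC AH BF BH
  have hL : kW.map (fun w => (w.map (opG b e)).prod) =
      [B, C, A, ff, dd, hh, b 4, b 5, b 6, b 7] := by
    simp [kW, opG, hA, hB, hC, hdd, hff, hhh, mul_assoc]
  rw [hL]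
  -- normalising the translations
  set W := Subgroup.closure ({y | y ∈ [b 4, b 5, b 6, b 7]} : Set G) with hW
  have hbW : ∀ j, 4 ≤ j → j < 8 → b j ∈ W := by
    intro j h4 h8
    refine Subgroup.subset_closure ?_
    show b j ∈ [b 4, b 5, b 6, b 7]
    interval_cases j <;> simp
  have nE : ∀ g < 6, e g ∈ Subgroup.normalizer (W : Set G) := by
    intro g hg
    refine mem_normalizer_of fun v hv => ?_
    have hle : W ≤ W.comap (MulAut.conj (e g)).toMonoidHom := by
      refine (Subgroup.closure_le _).2 fun y hy => ?_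
      have hy' : y ∈ [b 4, b 5, b 6, b 7] := hy
      simp only [List.mem_cons, List.not_mem_nil, or_false] at hy'
      have : ∀ l < 4, e g * b (4 + l) * (e g)⁻¹ ∈ W := by
        intro l hl
        rw [F.eAct g hg _ (by omega), tgt]
        cases hm : movB g (4 + l) with
        | none => exact hbW _ (by omega) (by omega)
        | some n =>
          obtain ⟨h4, h8⟩ := movB_high g hg l hl n hm
          exact mul_mem (hbW _ (by omega) (by omega)) (hbW _ h4 h8)
      rcases hy' with rfl | rfl | rfl | rfl
      · exact this 0 (by norm_num)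
      · exact this 1 (by norm_num)
      · exact this 2 (by norm_num)
      · exact this 3 (by norm_num)
    exact hle hv
  have nA := nE 0 (by norm_num)
  have nB := nE 2 (by norm_num)
  have nC := nE 4 (by norm_num)
  have nD : dd ∈ Subgroup.normalizer (W : Set G) := mul_mem (mul_mem (mul_mem nA nB) nA) nB
  have nF : ff ∈ Subgroup.normalizer (W : Set G) := mul_mem (mul_mem (mul_mem nB nC) nB) nC
  have nH : hh ∈ Subgroup.normalizer (W : Set G) := mul_mem (mul_mem (mul_mem nA nF) nA) nF
  have inW : ∀ {v : G}, v ∈ Subgroup.normalizer (W : Set G) → v * v = 1 →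
      ∀ {T : List G}, (∀ y ∈ [b 4, b 5, b 6, b 7], y ∈ T) →
      ∀ y ∈ [b 4, b 5, b 6, b 7], v * y * v ∈ Subgroup.closure ({y | y ∈ T} : Set G) := by
    intro v hv hv2 T hT y hy
    have h : v * y * v⁻¹ ∈ W := (Subgroup.mem_normalizer_iff.1 hv y).1 (Subgroup.subset_closure hy)
    rw [inv_eq_of_mul_eq_one_right hv2] at h
    exact Subgroup.closure_mono (fun a ha => hT a ha) h
  have triv : ∀ {v y : G}, v * v = 1 → v * y = y * v → ∀ {T : List G}, y ∈ T →
      v * y * v ∈ Subgroup.closure ({y | y ∈ T} : Set G) := by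
    intro v y hv h T hT
    rw [h, mul_assoc, hv, mul_one]
    exact Subgroup.subset_closure hT
  have two : ∀ {T : List G} {a c : G}, a ∈ T → c ∈ T →
      a * c ∈ Subgroup.closure ({y | y ∈ T} : Set G) := fun ha hc =>
    mul_mem (Subgroup.subset_closure ha) (Subgroup.subset_closure hc)
  have bcm : ∀ i j, 4 ≤ i → i < 8 → 4 ≤ j → j < 8 → b i * b j = b j * b i := by
    intro i j hi hi' hj hj'
    rw [M.b_comm F hj' hi', decide_eq_false (by omega), zp_false, one_mul]
  refine ⟨sB, fun y hy => ?_, sC, fun y hy => ?_, sA, fun y hy => ?_, sF, fun y hy => ?_, sD,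
    fun y hy => ?_, sH, fun y hy => ?_, hb2 4 (by norm_num), fun y hy => ?_, hb2 5 (by norm_num),
    fun y hy => ?_, hb2 6 (by norm_num), fun y hy => ?_, hb2 7 (by norm_num), fun y hy => ?_,
    trivial⟩
  all_goals simp only [List.mem_cons, List.not_mem_nil, or_false] at hy
  · rcases hy with rfl | rfl | rfl | rfl | rfl | hy
    · rw [r2]; exact two (by simp) (by simp)
    · rw [r1]; exact two (by simp) (by simp)
    · exact triv sB BF (by simp)
    · exact triv sB BD (by simp)
    · exact triv sB BH (by simp)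
    · exact inW nB sB (by simp) y (by simpa using hy)
  · rcases hy with rfl | rfl | rfl | rfl | hy
    · exact triv sC AC.symm (by simp)
    · exact triv sC CF (by simp)
    · rw [r4]; exact two (by simp) (by simp)
    · exact triv sC CH (by simp)
    · exact inW nC sC (by simp) y (by simpa using hy)
  · rcases hy with rfl | rfl | rfl | hy
    · rw [r3]; exact two (by simp) (by simp)
    · exact triv sA AD (by simp)
    · exact triv sA AH (by simp)
    · exact inW nA sA (by simp) y (by simpa using hy)
  · rcases hy with rfl | rfl | hy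
    · exact triv sF DF.symm (by simp)
    · exact triv sF FH (by simp)
    · exact inW nF sF (by simp) y (by simpa using hy)
  · rcases hy with rfl | hy
    · exact triv sD DH (by simp)
    · exact inW nD sD (by simp) y (by simpa using hy)
  · exact inW nH sH (by simp) y (by simpa using hy)
  · rcases hy with rfl | rfl | rfl <;>
      exact triv (hb2 _ (by norm_num)) (bcm _ _ (by norm_num) (by norm_num) (by norm_num)
        (by norm_num)) (by simp)
  · rcases hy with rfl | rfl <;>
      exact triv (hb2 _ (by norm_num)) (bcm _ _ (by norm_num) (by norm_num) (by norm_num)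
        (by norm_num)) (by simp)
  · subst hy
    exact triv (hb2 _ (by norm_num)) (bcm _ _ (by norm_num) (by norm_num) (by norm_num)
      (by norm_num)) (by simp)

theorem exists_complement (hτ : τ = Code.beta)
    (hnorm : ((AG Q f).subgroupOf (Subgroup.normalizer (AG Q f : Set G))).Normal)
    (hN : Nat.card (Subgroup.normalizer (AG Q f : Set G)) = 2048 * 244823040) :
    ∃ K : Subgroup ↥(Subgroup.normalizer (AG Q f : Set G)),
      ((AG Q f).subgroupOf (Subgroup.normalizer (AG Q f : Set G))).IsComplement' K := by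
  classical
  subst hτ
  have := hnorm
  set N := Subgroup.normalizer (AG Q f : Set G) with hNdef
  let L := kW.map fun w => (w.map (opG b e)).prod
  set K0 := Subgroup.closure ({y | y ∈ L} : Set G) with hK0
  have hkW : ∀ w ∈ kW, ∀ g ∈ w, g < 10 := by decide
  have hsep : ∀ m < 1024, iota L m ∈ AG Q f → m = 0 := by
    intro m hm hA
    by_contra h0
    have h := List.all_eq_true.1 kW_check m (List.mem_range.2 hm)
    rw [Bool.or_eq_true] at h
    rcases h with h | h
    · exact h0 (Nat.eq_of_beq_eq_true h)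
    obtain ⟨j, hj, hne⟩ := List.any_eq_true.1 h
    have hp : (2 : ℕ) ^ j < 2048 := Nat.pow_lt_pow_right (a := 2) (by norm_num) (List.mem_range.1 hj)
    obtain ⟨hlt, hact⟩ := M.word_act D (selCat kW m) (selCat_lt _ _ hkW) _ hp
    rw [← iota_selCat] at hact
    rw [D.comm _ hA _ (M.bmem D _), mul_inv_cancel_right] at hact
    rw [← M.binj D hp hlt hact, Nat.beq_refl] at hne
    cases hne
  have hPC := M.kW_pc D
  have hlen : L.length = 10 := by simp [L, kW]
  have hK0card : Nat.card K0 = 2 ^ 10 := by
    rw [hK0, PC.card hPC fun m hm h => hsep m (by rw [hlen] at hm; simpa using hm)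
      (by rw [h]; exact one_mem _), hlen]
  have hK0N : K0 ≤ N := by
    refine (Subgroup.closure_le _).2 fun y hy => ?_
    obtain ⟨w, hw, rfl⟩ := List.mem_map.1 (show y ∈ L from hy)
    refine list_prod_mem fun a ha => ?_
    obtain ⟨g, hg, rfl⟩ := List.mem_map.1 ha
    exact M.op_mem D (hkW w hw g hg)
  set A' := (AG Q f).subgroupOf N with hA'
  set K' := K0.subgroupOf N with hK'
  have hinf : K' ⊓ A' = ⊥ := by
    rw [Subgroup.eq_bot_iff_forall]
    rintro k ⟨hk, hkA⟩
    obtain ⟨m, hm, he⟩ := hPC.cover _ (Subgroup.mem_subgroupOf.1 hk)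
    have h0 := hsep m (by rw [hlen] at hm; simpa using hm) (by rw [he]; exact hkA)
    subst h0
    rw [iota_zero] at he
    exact Subtype.ext he.symm
  have hcA : Nat.card A' = 2048 := by
    rw [hA', Nat.card_congr (Subgroup.subgroupOfEquivOfLe Subgroup.le_normalizer).toEquiv,
      M.card_AG D]
  have hcK : Nat.card K' = 1024 := by
    rw [hK', Nat.card_congr (Subgroup.subgroupOfEquivOfLe hK0N).toEquiv, hK0card]
    norm_num
  have hU : Nat.card (A' ⊔ K' : Subgroup N) = 2048 * 1024 := by
    have h1 : A'.relIndex (A' ⊔ K') = 1024 := by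
      rw [Subgroup.relIndex_sup_left, ← Subgroup.inf_relIndex_right, inf_comm, hinf,
        Subgroup.relIndex_bot_left, hcK]
    have h2 := Subgroup.relIndex_mul_relIndex (⊥ : Subgroup N) A' (A' ⊔ K') bot_le le_sup_left
    rw [Subgroup.relIndex_bot_left, Subgroup.relIndex_bot_left, h1, hcA] at h2
    exact h2.symm
  have hidx : (A' ⊔ K').index = 239085 := by
    have h := Subgroup.index_mul_card (A' ⊔ K')
    rw [hU, hN] at h
    omega
  have : IsMulCommutative A' :=
    ⟨⟨fun a c => Subtype.ext (Subtype.ext (D.comm _ a.2 _ c.2))⟩⟩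
  obtain ⟨H, hH⟩ := CfsgLib.Coprime.gaschutz_exists A' (A' ⊔ K') le_sup_left
    (by rw [hcA, hidx]; decide +kernel) K' le_sup_right hinf rfl
  exact ⟨H, hH⟩

end Model

end CfsgLib.Small.ConTwo
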