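import Cfsg.Agent.Lib.Small.ConTwo.AChecks

/-!
Counting, for every functional, the selected strings on which it is nonzero.
-/

set_option autoImplicit false

namespace CfsgLib.Small.ConTwo.Code

/-- The number of strings of length `n` with a property. -/
def cnt : ℕ → (ℕ → Bool) → ℕ
  | 0, q => (q 0).toNat
  | n + 1, q => cnt n (fun m => q (2 * m)) + cnt n (fun m => q (2 * m + 1))

theorem sum_two (h : ℕ → ℕ) : ∀ N, ∑ m ∈ Finset.range (2 * N), h m =
    ∑ m ∈ Finset.range N, h (2 * m) + ∑ m ∈ Finset.range N, h (2 * m + 1)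
  | 0 => by simp
  | N + 1 => by
    rw [show 2 * (N + 1) = 2 * N + 1 + 1 by ring, Finset.sum_range_succ, Finset.sum_range_succ,
      sum_two h N, Finset.sum_range_succ, Finset.sum_range_succ]
    ring

theorem cnt_eq : ∀ (n : ℕ) (q : ℕ → Bool),
    cnt n q = ∑ m ∈ Finset.range (2 ^ n), (q m).toNat
  | 0, q => by simp [cnt]
  | n + 1, q => by rw [cnt, cnt_eq n, cnt_eq n, pow_succ, mul_comm (2 ^ n), sum_two]

theorem cnt_congr : ∀ (n : ℕ) {q r : ℕ → Bool}, (∀ m < 2 ^ n, q m = r m) → cnt n q = cnt n r := by
  intro n q r h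
  rw [cnt_eq, cnt_eq]
  exact Finset.sum_congr rfl fun m hm => by rw [h m (Finset.mem_range.1 hm)]

theorem cnt_split (n : ℕ) (a b : ℕ → Bool) :
    cnt n (fun m => a m && b m) + cnt n (fun m => a m && !b m) = cnt n a := by
  rw [cnt_eq, cnt_eq, cnt_eq, ← Finset.sum_add_distrib]
  exact Finset.sum_congr rfl fun m _ => by cases a m <;> cases b m <;> rfl

/-- One step of the transform. -/
def inter (T : ℕ) : List ℕ → List ℕ → List ℕ
  | a :: as, b :: bs => (a + b) :: (a + (T - b)) :: inter T as bs
  | _, _ => []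

/-- The transform. -/
def wal : ℕ → (ℕ → Bool) → List ℕ
  | 0, _ => [0]
  | n + 1, q => inter (cnt n fun m => q (2 * m + 1)) (wal n fun m => q (2 * m))
      (wal n fun m => q (2 * m + 1))

theorem inter_length (T : ℕ) : ∀ as bs : List ℕ, as.length = bs.length →
    (inter T as bs).length = 2 * as.length
  | [], [], _ => rfl
  | a :: as, b :: bs, h => by
    simp only [inter, List.length_cons, inter_length T as bs (by simpa using h)]
    ring

theorem inter_get (T : ℕ) : ∀ (as bs : List ℕ) (p : ℕ), as.length = bs.length → p / 2 < as.length →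
    (inter T as bs).getD p 0 =
      as.getD (p / 2) 0 + if p % 2 = 1 then T - bs.getD (p / 2) 0 else bs.getD (p / 2) 0
  | a :: as, b :: bs, 0, _, _ => by simp [inter]
  | a :: as, b :: bs, 1, _, _ => by simp [inter]
  | a :: as, b :: bs, p + 2, h, hp => by
    have e1 : (p + 2) / 2 = p / 2 + 1 := by omega
    have e2 : (p + 2) % 2 = p % 2 := by omega
    rw [e1] at hp
    simp only [inter, e1, e2, List.getD_cons_succ]
    exact inter_get T as bs p (by simpa using h) (by simpa using hp)

theorem wal_length : ∀ (n : ℕ) (q : ℕ → Bool), (wal n q).length = 2 ^ n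
  | 0, _ => rfl
  | n + 1, q => by
    rw [wal, inter_length _ _ _ (by rw [wal_length, wal_length]), wal_length, pow_succ, mul_comm]

theorem wal_get : ∀ (n : ℕ) (q : ℕ → Bool) (p : ℕ), p < 2 ^ n →
    (wal n q).getD p 0 = cnt n (fun m => q m && par n p m)
  | 0, q, p, hp => by
    rw [show p = 0 by simpa using hp]
    simp [wal, cnt, par]
  | n + 1, q, p, hp => by
    have hp2 : p / 2 < 2 ^ n := by rw [pow_succ] at hp; omega
    rw [wal, inter_get _ _ _ _ (by rw [wal_length, wal_length]) (by rwa [wal_length]),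
      wal_get n _ _ hp2, wal_get n _ _ hp2, cnt]
    have e0 : ∀ m, par (n + 1) p (2 * m) = par n (p / 2) m := fun m => by
      simp [par]
    have e1 : ∀ m, par (n + 1) p (2 * m + 1) = (decide (p % 2 = 1) ^^ par n (p / 2) m) :=
      fun m => by
        rw [par, show (2 * m + 1) % 2 = 1 by omega, show (2 * m + 1) / 2 = m by omega]
        simp
    simp only [e0, e1]
    congr 1
    have h := cnt_split n (fun m => q (2 * m + 1)) (fun m => par n (p / 2) m)
    by_cases hb : p % 2 = 1
    · simp only [hb, if_true, decide_true, Bool.true_xor]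
      omega
    · simp [hb]

end CfsgLib.Small.ConTwo.Code
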