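import Cfsg.Agent.Lib.Small.ConTwo.Main
import Cfsg.Agent.Lib.ThreeTransp.OutExtraspecial
import Cfsg.Agent.Lib.Components.FStar
import Cfsg.Agent.Lib.KnownB.O8Mult.Main
import Cfsg.Agent.Lib.Classical.OrthStd

/-!
An involution centraliser of Conway type gives coordinates.
-/

set_option autoImplicit false
set_option linter.style.haveILetI false
set_option maxRecDepth 20000
set_option synthInstance.maxSize 4000
set_option synthInstance.maxHeartbeats 400000

namespace CfsgLib.Small.ConTwo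

open Equiv CfsgLib.ThreeTransp CfsgLib.ThreeTransp.TwistF2

/-- Vectors of the cocycle model. -/
abbrev Wv : Type := CfsgLib.LocalEven.Pauli.W 4

/-- The bit string of eight coordinates. -/
def enc8 (a b c d e g h k : ZMod 2) : V8 :=
  vadd (vadd (vadd (sel (decide (a = 1)) (ev 0)) (sel (decide (b = 1)) (ev 1)))
      (vadd (sel (decide (c = 1)) (ev 2)) (sel (decide (d = 1)) (ev 3))))
    (vadd (vadd (sel (decide (e = 1)) (ev 4)) (sel (decide (g = 1)) (ev 5)))
      (vadd (sel (decide (h = 1)) (ev 6)) (sel (decide (k = 1)) (ev 7))))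

/-- The coordinate map. -/
def enc (v : Wv) : V8 :=
  enc8 (v (.inl 0)) (v (.inl 1)) (v (.inl 2)) (v (.inl 3)) (v (.inr 0)) (v (.inr 1)) (v (.inr 2))
    (v (.inr 3))

theorem decide_add : ∀ a b : ZMod 2, decide (a + b = 1) = (decide (a = 1) ^^ decide (b = 1)) := by
  decide +kernel

theorem enc8_zero : ∀ a b c d e g h k : ZMod 2, enc8 a b c d e g h k = 0 →
    a = 0 ∧ b = 0 ∧ c = 0 ∧ d = 0 ∧ e = 0 ∧ g = 0 ∧ h = 0 ∧ k = 0 := by
  decide +kernel

theorem enc8_qb : ∀ a b c d e g h k : ZMod 2,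
    qb (enc8 a b c d e g h k) = decide (e * a + g * b + h * c + k * d = 1) := by
  decide +kernel

theorem enc8_bits : ∀ x : V8,
    enc8 (if bit x 0 then 1 else 0) (if bit x 1 then 1 else 0) (if bit x 2 then 1 else 0)
      (if bit x 3 then 1 else 0) (if bit x 4 then 1 else 0) (if bit x 5 then 1 else 0)
      (if bit x 6 then 1 else 0) (if bit x 7 then 1 else 0) = x := by
  decide +kernel

theorem enc_add (v w : Wv) : enc (v + w) = vadd (enc v) (enc w) := by
  simp only [enc, enc8, Pi.add_apply, decide_add, sel_xor]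
  ac_rfl

theorem enc_inj : Function.Injective enc := by
  intro v w hvw
  have h : enc (v + w) = 0 := by rw [enc_add, hvw, vadd_self]
  obtain ⟨h1, h2, h3, h4, h5, h6, h7, h8⟩ := enc8_zero _ _ _ _ _ _ _ _ h
  funext i
  have hi : (v + w) i = 0 := by rcases i with i | i <;> fin_cases i <;> assumption
  have : ∀ a b : ZMod 2, a + b = 0 → a = b := by decide +kernel
  exact this _ _ hi

theorem enc_surj (x : V8) : ∃ v : Wv, enc v = x :=
  ⟨Sum.elim ![if bit x 0 then 1 else 0, if bit x 1 then 1 else 0, if bit x 2 then 1 else 0,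
      if bit x 3 then 1 else 0]
    ![if bit x 4 then 1 else 0, if bit x 5 then 1 else 0, if bit x 6 then 1 else 0,
      if bit x 7 then 1 else 0], enc8_bits x⟩

theorem enc_zero : enc 0 = 0 := by decide +kernel

theorem enc_qb (v : Wv) : qb (enc v) = decide (beta 3 0 v v = 1) := by
  rw [enc, enc8_qb, beta_apply, CfsgLib.LocalEven.Pauli.coc, Fin.sum_univ_four, zero_mul, add_zero]

/-- The coordinates as an equivalence. -/
noncomputable def encEquiv : Wv ≃ V8 := Equiv.ofBijective enc ⟨enc_inj, enc_surj⟩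

/-- The image of the centraliser preserves addition and the form. -/
theorem range_le_O {G : Type*} [Group G] {z : G} {Q : Subgroup G} {f : G → V8}
    {ρ : Cz z →* Perm V8} (hn : ∀ c ∈ Cz z, ∀ q ∈ Q, c * q * c⁻¹ ∈ Q)
    (hm : ∀ q ∈ Q, ∀ r ∈ Q, f (q * r) = vadd (f q) (f r)) (hs : ∀ v, ∃ q ∈ Q, f q = v)
    (hq : ∀ q ∈ Q, q * q = if qb (f q) then z else 1) (hz : z ≠ 1)
    (hc : ∀ (c : Cz z), ∀ q ∈ Q, ρ c (f q) = f (c * q * (c : G)⁻¹)) : ρ.range ≤ O := by
  rintro _ ⟨c, rfl⟩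
  refine ⟨fun v w => ?_, fun v => ?_⟩
  · obtain ⟨q, hqQ, rfl⟩ := hs v
    obtain ⟨r, hr, rfl⟩ := hs w
    rw [← hm q hqQ r hr, hc c _ (mul_mem hqQ hr), hc c q hqQ, hc c r hr,
      ← hm _ (hn c c.2 q hqQ) _ (hn c c.2 r hr)]
    exact congrArg f (by group)
  · obtain ⟨q, hqQ, rfl⟩ := hs v
    rw [hc c q hqQ]
    have h1 := hq _ (hn c c.2 q hqQ)
    rw [show (c : G) * q * (c : G)⁻¹ * ((c : G) * q * (c : G)⁻¹) = c * (q * q) * (c : G)⁻¹ by
      group, hq q hqQ] at h1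
    revert h1
    cases qb (f q) <;> cases qb (f ((c : G) * q * (c : G)⁻¹)) <;>
      simp [mem_Cz.1 c.2, hz, hz.symm]

theorem bin_aniso : CfsgLib.Classical.BinAniso (1 : ZMod 2) 1 := by
  unfold CfsgLib.Classical.BinAniso
  decide +kernel

section

variable {G : Type*} [Group G] [Finite G] {z : G} {Q : Subgroup (Cz z)} [Q.Normal]

omit [Finite G] in
theorem mem_of_centralize (hF : Cfsg.generalizedFittingSubgroup (Cz z) = Q) [Finite (Cz z)]
    {c : Cz z} (h : ∀ q ∈ Q, q * c = c * q) : c ∈ Q := by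
  rw [← hF]
  refine CfsgLib.Components.centralizer_fstar_le (Subgroup.mem_centralizer_iff.2 ?_)
  rw [hF]
  exact fun q hq => h q hq

omit [Finite G] in
theorem mem_of_inner (hF : Cfsg.generalizedFittingSubgroup (Cz z) = Q) [Finite (Cz z)] {c : Cz z}
    (h : MulAut.conjNormal (H := Q) c ∈ Cfsg.Inn Q) : c ∈ Q := by
  obtain ⟨a, ha⟩ := h
  have hc : (a : Cz z)⁻¹ * c ∈ Q := mem_of_centralize hF fun q hq => by
    have h1 : (a : Cz z) * q * (a : Cz z)⁻¹ = c * q * c⁻¹ := by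
      have h2 := congrArg (fun φ : MulAut Q => ((φ ⟨q, hq⟩ : Q) : Cz z)) ha
      simpa [MulAut.conjNormal_apply] using h2
    calc q * ((a : Cz z)⁻¹ * c) = (a : Cz z)⁻¹ * ((a : Cz z) * q * (a : Cz z)⁻¹) * c := by group
      _ = (a : Cz z)⁻¹ * c * q := by rw [h1]; group
  simpa using mul_mem a.2 hc

variable (hF : Cfsg.generalizedFittingSubgroup (Cz z) = Q) (hQ : Cfsg.IsExtraspecial 2 Q)
  (hcard : Nat.card Q = 2 ^ 9)
  (e : Cz z ⧸ Q ≃* Cfsg.Omega (ZMod 2) (Cfsg.quadFormPlus 4 (ZMod 2)))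

include hF hQ hcard e in
theorem has_max : CfsgLib.PGroups.HasMaxElem Q 4 := by
  by_contra h
  haveI : Fact (Nat.Prime 2) := ⟨Nat.prime_two⟩
  obtain ⟨eo⟩ := (OutExtra.out_extraspecial hQ 4 (by omega) (by rw [hcard])).2
    (fun h' => h ((OutExtra.hasMax_iff hQ.1.1 4).2 h'))
  let Φ : Cz z →* Cfsg.Out Q :=
    (QuotientGroup.mk' (Cfsg.Inn Q)).comp (MulAut.conjNormal (H := Q))
  have hker : Φ.ker = Q := by
    refine le_antisymm (fun c hc => mem_of_inner hF ?_) fun c hc => ?_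
    · exact (QuotientGroup.eq_one_iff _).1 (MonoidHom.mem_ker.1 hc)
    · refine MonoidHom.mem_ker.2 ((QuotientGroup.eq_one_iff _).2 ⟨⟨c, hc⟩, ?_⟩)
      ext q
      simp [MulAut.conjNormal_apply]
  have h1 : Nat.card Φ.range = 174182400 := by
    rw [← Nat.card_congr (QuotientGroup.quotientKerEquivRange Φ).toEquiv,
      Nat.card_congr (QuotientGroup.quotientMulEquivOfEq hker).toEquiv,
      Nat.card_congr e.toEquiv]
    exact CfsgLib.KnownB.O8Mult.natCard_om
  have h2 := Subgroup.card_subgroup_dvd_card Φ.range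
  rw [h1, Nat.card_congr eo.toEquiv, show (4 - 1 : ℕ) = 3 from rfl,
    CfsgLib.Classical.card_isometry_minus 3 bin_aniso, Nat.card_zmod] at h2
  simp [Finset.prod_range_succ] at h2

include hF hQ hcard e in
theorem exists_model (hz : orderOf z = 2)
    (hnwc : ∃ g : G, (∃ hq : g * z * g⁻¹ ∈ Cz z, (⟨g * z * g⁻¹, hq⟩ : Cz z) ∈ Q) ∧
      g * z * g⁻¹ ≠ z) :
    ∃ f : G → V8, ∃ ρ : Cz z →* Perm (V8), Model z (Q.map (Cz z).subtype) f ρ := by
  classical
  haveI : Fact (Nat.Prime 2) := ⟨Nat.prime_two⟩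
  obtain ⟨E⟩ := OutExtra.iso_model hQ (m := 3) (by rw [hcard]) 0
    (iff_of_true (has_max hF hQ hcard e) rfl)
  have hβ : Nondeg (beta 3 0) := beta_nondeg 0
  -- the central involution
  have hzC : z ∈ Cz z := mem_Cz.2 rfl
  have hzcen : ∀ c : Cz z, c * ⟨z, hzC⟩ = ⟨z, hzC⟩ * c := fun c => Subtype.ext (mem_Cz.1 c.2)
  have hzQ : (⟨z, hzC⟩ : Cz z) ∈ Q := mem_of_centralize hF fun q _ => hzcen q
  have hz1 : z ≠ 1 := fun h => by rw [h, orderOf_one] at hz; omega
  have hEz : E ⟨⟨z, hzC⟩, hzQ⟩ = ⟨0, 1⟩ := by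
    have hv : (E ⟨⟨z, hzC⟩, hzQ⟩).v = 0 := (mem_center hβ _).1 (Subgroup.mem_center_iff.2 fun t => by
      obtain ⟨q, rfl⟩ := E.surjective t
      rw [← map_mul, ← map_mul]
      exact congrArg E (Subtype.ext (hzcen q)))
    refine Tw.ext hv (z2_ne _ fun hs => hz1 ?_)
    have h1 : E ⟨⟨z, hzC⟩, hzQ⟩ = E 1 := by rw [map_one]; exact Tw.ext hv hs
    exact congrArg (fun q : Q => ((q : Cz z) : G)) (E.injective h1)
  let Qg : Subgroup G := Q.map (Cz z).subtype
  have hmemQ : ∀ x ∈ Qg, ∃ q : Q, ((q : Cz z) : G) = x := by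
    rintro _ ⟨y, hy, rfl⟩
    exact ⟨⟨y, hy⟩, rfl⟩
  have hQmem : ∀ q : Q, ((q : Cz z) : G) ∈ Qg := fun q => ⟨q, q.2, rfl⟩
  let f : G → V8 := fun x =>
    if h : ∃ q : Q, ((q : Cz z) : G) = x then enc (E h.choose).v else 0
  have hf : ∀ q : Q, f ((q : Cz z) : G) = enc (E q).v := by
    intro q
    have h : ∃ r : Q, ((r : Cz z) : G) = ((q : Cz z) : G) := ⟨q, rfl⟩
    show dite _ _ _ = _
    rw [dif_pos h, show h.choose = q from Subtype.ext (Subtype.ext h.choose_spec)]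
  -- the action
  let ψ : Cz z →* MulAut (Tw (beta 3 0)) :=
    (MulAut.congr E).toMonoidHom.comp (MulAut.conjNormal (H := Q))
  have hψ : ∀ (c : Cz z) (q : Q), ψ c (E q) = E (MulAut.conjNormal c q) := fun c q => by
    simp [ψ]
  let L : Cz z → V8 → V8 := fun c x =>
    enc (OutExtra.toLin hβ (ψ c) (encEquiv.symm x))
  have hLf : ∀ (c : Cz z) (q : Q), L c (enc (E q).v) = enc (E (MulAut.conjNormal c q)).v := by
    intro c q
    show enc (OutExtra.toLin hβ (ψ c) (encEquiv.symm (encEquiv (E q).v))) = _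
    rw [Equiv.symm_apply_apply, OutExtra.toLin_apply, ← OutExtra.aut_v hβ, hψ]
  have hL1 : ∀ x, L 1 x = x := fun x => by
    show enc (OutExtra.toLin hβ (ψ 1) (encEquiv.symm x)) = x
    rw [map_one, OutExtra.toLin_one]
    exact encEquiv.apply_symm_apply x
  have hLmul : ∀ c d x, L (c * d) x = L c (L d x) := fun c d x => by
    show enc (OutExtra.toLin hβ (ψ (c * d)) _) =
      enc (OutExtra.toLin hβ (ψ c) (encEquiv.symm (encEquiv _)))
    rw [Equiv.symm_apply_apply, map_mul, OutExtra.toLin_mul]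
    rfl
  let ρ : Cz z →* Perm (V8) := MonoidHom.mk'
    (fun c => ⟨L c, L c⁻¹, fun x => by rw [← hLmul, inv_mul_cancel, hL1],
      fun x => by rw [← hLmul, mul_inv_cancel, hL1]⟩)
    (fun c d => Equiv.ext fun x => hLmul c d x)
  have hρker : ρ.ker = Q := by
    refine le_antisymm (fun c hc => mem_of_inner hF ?_) fun c hc => ?_
    · obtain ⟨a, ha⟩ := OutExtra.inner_of_trivial hβ (ψ c) (LinearMap.ext fun v => by
        have h := congrArg (fun p : Perm (V8) => p (encEquiv v)) (MonoidHom.mem_ker.1 hc)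
        have h' : enc (OutExtra.toLin hβ (ψ c) (encEquiv.symm (encEquiv v))) = enc v := h
        rw [Equiv.symm_apply_apply] at h'
        exact enc_inj h')
      refine ⟨E.symm a, MulEquiv.ext fun q => E.injective ?_⟩
      rw [← hψ, ← ha]
      simp
    · refine MonoidHom.mem_ker.2 (Equiv.ext fun x => ?_)
      obtain ⟨v, rfl⟩ := encEquiv.surjective x
      obtain ⟨q, hq⟩ := E.surjective ⟨v, 0⟩
      have hv : v = (E q).v := by rw [hq]
      show L c (enc v) = enc v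
      rw [hv, hLf]
      congr 1
      have : MulAut.conjNormal c q = (⟨c, hc⟩ : Q) * q * (⟨c, hc⟩ : Q)⁻¹ :=
        Subtype.ext (by simp [MulAut.conjNormal_apply])
      rw [this, map_mul, map_mul, map_inv, mul_v, mul_v]
      show (E ⟨c, hc⟩).v + (E q).v + (E ⟨c, hc⟩).v = (E q).v
      rw [add_comm ((E ⟨c, hc⟩).v), add_assoc, vec_two, add_zero]
  have hle : Qg ≤ Cz z := by
    exact Subgroup.map_subtype_le Q
  have hnorm : ∀ c ∈ Cz z, ∀ q ∈ Qg, c * q * c⁻¹ ∈ Qg := by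
    intro c hc q hq
    obtain ⟨r, rfl⟩ := hmemQ q hq
    exact ⟨_, Subgroup.Normal.conj_mem inferInstance (r : Cz z) r.2 ⟨c, hc⟩, rfl⟩
  have hQcard : Nat.card Qg = 512 := by
    rw [Subgroup.card_map_of_injective (Cz z).subtype_injective, hcard]
    norm_num
  have hfm : ∀ q ∈ Qg, ∀ r ∈ Qg, f (q * r) = vadd (f q) (f r) := by
    intro q hq r hr
    obtain ⟨a, rfl⟩ := hmemQ q hq
    obtain ⟨b, rfl⟩ := hmemQ r hr
    rw [hf, hf, ← enc_add, ← mul_v, ← map_mul, ← hf]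
    rfl
  have hfk : ∀ q ∈ Qg, f q = 0 ↔ q = 1 ∨ q = z := by
    intro q hq
    obtain ⟨a, rfl⟩ := hmemQ q hq
    rw [hf]
    constructor
    · intro h
      rw [← enc_zero] at h
      have hv := enc_inj h
      rcases z2_cases (E a).s with hs | hs
      · left
        have h1 : E a = E 1 := by rw [map_one]; exact Tw.ext hv hs
        rw [E.injective h1]; rfl
      · right
        have h1 : E a = E ⟨⟨z, hzC⟩, hzQ⟩ := by rw [hEz]; exact Tw.ext hv hs
        rw [E.injective h1]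
    · rintro (h | h)
      · rw [show a = 1 from Subtype.ext (Subtype.ext h), map_one]; exact enc_zero
      · rw [show a = ⟨⟨z, hzC⟩, hzQ⟩ from Subtype.ext (Subtype.ext h), hEz]; exact enc_zero
  have hfs : ∀ v, ∃ q ∈ Qg, f q = v := by
    intro v
    obtain ⟨w, rfl⟩ := enc_surj v
    obtain ⟨q, hq⟩ := E.surjective ⟨w, 0⟩
    exact ⟨_, hQmem q, by rw [hf, hq]⟩
  have hfq : ∀ q ∈ Qg, q * q = if qb (f q) then z else 1 := by
    intro q hq
    obtain ⟨a, rfl⟩ := hmemQ q hq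
    rw [hf, enc_qb]
    have h : E (a * a) = ⟨0, beta 3 0 (E a).v (E a).v⟩ := by rw [map_mul, ← sq, sq_eq]
    rcases z2_cases (beta 3 0 (E a).v (E a).v) with hb | hb
    · rw [hb] at h ⊢
      have h1 : a * a = 1 := E.injective (by rw [h, map_one]; rfl)
      simpa using congrArg (fun q : Q => ((q : Cz z) : G)) h1
    · rw [hb] at h ⊢
      have h1 : a * a = ⟨⟨z, hzC⟩, hzQ⟩ := E.injective (by rw [h, hEz])
      simpa using congrArg (fun q : Q => ((q : Cz z) : G)) h1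
  have hconj : ∀ (c : Cz z), ∀ q ∈ Qg, ρ c (f q) = f (c * q * (c : G)⁻¹) := by
    intro c q hq
    obtain ⟨a, rfl⟩ := hmemQ q hq
    rw [hf]
    show L c _ = _
    rw [hLf, ← hf]
    exact congrArg f (by simp [MulAut.conjNormal_apply])
  have hρk : ∀ c : Cz z, ρ c = 1 ↔ (c : G) ∈ Qg := by
    intro c
    rw [← MonoidHom.mem_ker, hρker]
    exact (Subgroup.mem_map_iff_mem (Cz z).subtype_injective).symm
  have hρc : Nat.card ρ.range = 174182400 := by
    rw [← Nat.card_congr (QuotientGroup.quotientKerEquivRange ρ).toEquiv,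
      Nat.card_congr (QuotientGroup.quotientMulEquivOfEq hρker).toEquiv,
      Nat.card_congr e.toEquiv]
    exact CfsgLib.KnownB.O8Mult.natCard_om
  have hnw : ∃ g : G, g * z * g⁻¹ ∈ Qg ∧ g * z * g⁻¹ ≠ z := by
    obtain ⟨g, ⟨hq, hqQ⟩, hne⟩ := hnwc
    exact ⟨g, ⟨_, hqQ, rfl⟩, hne⟩
  have hO : ρ.range ≤ O := range_le_O hnorm hfm hfs hfq hz1 hconj
  exact ⟨f, ρ, ⟨hz, hle, hnorm, hQcard, ⟨_, hzQ, rfl⟩, hfm, hfk, hfs, hfq, hconj, hρk, hρc, hnw,
    fun p w => sieP_mem_R hO hρc p w, fun _ hπ h2 h1 => invol_conj hO hρc hπ h2 h1⟩⟩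

end

end CfsgLib.Small.ConTwo
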