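import Cfsg.Agent.Lib.Small.ConTwo.Dset

/-!
The commutators of the intersection with the part of `Q` centralising `u`.
-/

set_option autoImplicit false

namespace CfsgLib.Small.ConTwo

open Equiv

theorem perp_bit : ∀ v : V8, bl v pt = bit v 4 := by decide +kernel

/-- The commutators of `x` with the part of `Q` centralising `u`, up to `z`. -/
def CRel {G : Type*} [Group G] (z u : G) (f : G → V8) (w : V8) (x q : G) (e : Bool) : Prop :=
  x * q * x⁻¹ = q * up z u (bl (f q) w) * zp z e

/-- The commutators of `x` with the part of `Q` centralising `u` are given by `w`. -/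
def Cm {G : Type*} [Group G] (z u : G) (Q : Subgroup G) (f : G → V8) (w : V8) (x : G) : Prop :=
  ∀ q ∈ Q, bl (f q) pt = false → x * q * x⁻¹ = q * up z u (bl (f q) w)

/-- An element of the intersection with commutators given by `w`. -/
def HasCm {G : Type*} [Group G] {z : G} (u : G) (Q : Subgroup G) (f : G → V8)
    (ρ : Cz z →* Perm V8) (g : G) (w : V8) : Prop :=
  bl w pt = false ∧ ∃ x, Img ρ x (sieP pt w) ∧ g⁻¹ * x * g ∈ Q ∧ Cm z u Q f w x

namespace Model

variable {G : Type*} [Group G] {z : G} {Q : Subgroup G} {f : G → V8}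
  {ρ : Cz z →* Perm V8} (M : Model z Q f ρ) {u g : G} (W : Swap z Q f u g)

include M W

theorem up_mem (b : Bool) : up z u b ∈ Q := by
  cases b
  · exact one_mem Q
  · exact mul_mem W.nc.1 M.z_mem

theorem f_up (b : Bool) : f (up z u b) = sel b pt := by
  cases b
  · exact M.f_one
  · show f (u * z) = pt
    rw [M.f_mul_z W.nc.1, W.fu]

theorem up_comm (b : Bool) {c : G} (hc : c ∈ Cz z) (hcu : c * u = u * c) :
    c * up z u b = up z u b * c := by
  cases b
  · show c * 1 = 1 * c
    rw [mul_one, one_mul]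
  · exact ((show Commute c u from hcu).mul_right (mem_Cz.1 hc)).eq

theorem up_xor (a b : Bool) : up z u (a ^^ b) = up z u a * up z u b := by
  have h2 : u * z * (u * z) = 1 := M.DQ_sq W (mul_mem W.nc.1 M.z_mem) (by
    rw [show g⁻¹ * (u * z) * g = g⁻¹ * u * g * (g⁻¹ * z * g) by group, swap_ug W, W.zg]
    exact mul_mem M.z_mem W.nc.1)
  cases a <;> cases b <;> simp [up, h2]

theorem perp_comm {q : G} (hq : q ∈ Q) (hb : bl (f q) pt = false) : q * u = u * q :=
  ((M.commute_iff hq W.nc.1).2 (by rw [W.fu]; exact hb)).symm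

theorem CRel_exists {x q : G} {w : V8} (hx : Img ρ x (sieP pt w)) (hw : bl w pt = false)
    (hq : q ∈ Q) (hb : bl (f q) pt = false) : ∃ e, CRel z u f w x q e := by
  have h1 : f (q * up z u (bl (f q) w)) = f (x * q * x⁻¹) := by
    rw [M.img_conj hx hq, sieP_apply (sieOK_pt hw), sie_perp _ hb, M.f_mul q hq _ (M.up_mem W _),
      M.f_up W]
  rcases M.f_eq (mul_mem hq (M.up_mem W _)) (M.normal x hx.mem q hq) h1 with h | h
  · exact ⟨false, by rw [CRel, h, zp_false, mul_one]⟩
  · exact ⟨true, by rw [CRel, h, zp_true]⟩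

theorem CRel_mul {x q r : G} {w : V8} {e e' : Bool} (hq : q ∈ Q) (hr : r ∈ Q)
    (hbr : bl (f r) pt = false) (h : CRel z u f w x q e) (h' : CRel z u f w x r e') :
    CRel z u f w x (q * r) (e ^^ e') := by
  have hA := M.up_comm W (bl (f q) w) (M.le hr) (M.perp_comm W hr hbr)
  rw [CRel, M.f_mul q hq r hr, bl_vadd_left, M.up_xor W, M.zp_xor,
    show x * (q * r) * x⁻¹ = x * q * x⁻¹ * (x * r * x⁻¹) by group, h, h']
  have hz1 := M.zp_comm e (M.le (mul_mem hr (M.up_mem W (bl (f r) w))))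
  calc q * up z u (bl (f q) w) * zp z e * (r * up z u (bl (f r) w) * zp z e')
      = q * up z u (bl (f q) w) * (zp z e * (r * up z u (bl (f r) w))) * zp z e' := by group
    _ = q * (up z u (bl (f q) w) * r) * (up z u (bl (f r) w) * zp z e * zp z e') := by
        rw [← hz1]; group
    _ = _ := by rw [← hA]; group

theorem CRel_uniq {x q : G} {w : V8} {e e' : Bool} (h : CRel z u f w x q e)
    (h' : CRel z u f w x q e') : e = e' :=
  M.zp_inj (mul_left_cancel (h.symm.trans h'))

theorem CRel_z {x : G} (hx : x ∈ Cz z) (w : V8) : CRel z u f w x z false := by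
  rw [CRel, M.f_z, zp_false, mem_Cz.1 hx, mul_inv_cancel_right,
    show bl 0 w = false by simp [bl, pr, bit_zero]]
  simp [up]

/-- The sign of the commutators is linear. -/
theorem CRel_linear {x : G} {w : V8} (hx : Img ρ x (sieP pt w)) (hx' : g⁻¹ * x * g ∈ Q)
    (hw : bl w pt = false) :
    ∃ a : V8, bl a pt = false ∧
      ∀ q ∈ Q, bl (f q) pt = false → CRel z u f w x q (bl a (f q)) := by
  have hex : ∀ j : Fin 8, ∃ r : G, ∃ e : Bool, r ∈ Q ∧ f r = ev j ∧
      (j ≠ 4 → CRel z u f w x r e) := by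
    intro j
    obtain ⟨r, hr, hrf⟩ := M.f_surj (ev j)
    by_cases hj : j = 4
    · exact ⟨r, false, hr, hrf, fun h => absurd hj h⟩
    · obtain ⟨e, he⟩ := M.CRel_exists W hx hw hr (by rw [hrf]; exact perp_basis.2.1 j hj)
      exact ⟨r, e, hr, hrf, fun _ => he⟩
  choose r e hr hrf he using hex
  obtain ⟨c0, d0, d1, d2, d3, d5, d6, d7⟩ := wOfB_spec (e 1) (e 2) (e 3) (e 5) (e 6) (e 7)
  generalize ha : wOfB (e 1) (e 2) (e 3) (e 5) (e 6) (e 7) = a at c0 d0 d1 d2 d3 d5 d6 d7
  refine ⟨a, by rw [bl_comm]; exact c0, ?_⟩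
  let P : V8 → Prop := fun v =>
    bl v pt = false ∧ ∀ q ∈ Q, f q = v → CRel z u f w x q (bl a v)
  have lift : ∀ v, bl v pt = false → (∃ q ∈ Q, f q = v ∧ CRel z u f w x q (bl a v)) → P v := by
    rintro v hv ⟨q, hq, hf, hc⟩
    refine ⟨hv, fun q' hq' hf' => ?_⟩
    rcases M.f_eq hq hq' (hf.trans hf'.symm) with rfl | rfl
    · exact hc
    · have h := M.CRel_mul W hq M.z_mem (by rw [M.f_z]; decide +kernel) hc
        (M.CRel_z W hx.mem w)
      rwa [Bool.xor_false] at h
  have P0 : P 0 := by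
    refine lift 0 (by decide +kernel) ⟨z, M.z_mem, M.f_z, ?_⟩
    rw [show bl a 0 = false by simp [bl, pr, bit_zero]]
    exact M.CRel_z W hx.mem w
  have Padd : ∀ v v', P v → P v' → P (vadd v v') := by
    intro v v' h h'
    obtain ⟨q, hq, hf⟩ := M.f_surj v
    obtain ⟨q', hq', hf'⟩ := M.f_surj v'
    refine lift _ (perp_sum h.1 h'.1) ⟨q * q', mul_mem hq hq', ?_, ?_⟩
    · rw [M.f_mul q hq q' hq', hf, hf']
    · rw [bl_vadd_right]
      exact M.CRel_mul W hq hq' (by rw [hf']; exact h'.1) (h.2 q hq hf) (h'.2 q' hq' hf')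
  have Pev : ∀ j : Fin 8, ∀ b : Bool, (j = 4 → b = false) → P (sel b (ev j)) := by
    intro j b hb
    cases b
    · exact P0
    have hj : j ≠ 4 := fun h => Bool.noConfusion (hb h)
    show P (ev j)
    have hae : bl a (ev j) = e j := by
      rw [bl_comm]
      fin_cases j
      · have h0 : CRel z u f w x (r 0) false := by
          have hu : x * r 0 * x⁻¹ = r 0 := by
            have hxu := hx
            have hfr : f (r 0) = f u := by rw [hrf, W.fu]; exact perp_basis.2.2.2
            have hcu : x * u = u * x := M.D_comm_u W hx'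
            rcases M.f_eq W.nc.1 (hr 0) hfr.symm with h1 | h1 <;> rw [h1]
            · rw [hcu, mul_inv_cancel_right]
            · rw [← mul_assoc, hcu, mul_assoc u, mem_Cz.1 hxu.mem]; group
          rw [CRel, hu, zp_false, hrf, perp_basis.2.2.2, bl_comm pt w, hw]
          simp [up]
        exact d0.trans (M.CRel_uniq W h0 (he 0 hj))
      · exact d1
      · exact d2
      · exact d3
      · exact absurd rfl hj
      · exact d5
      · exact d6
      · exact d7
    exact lift _ (perp_basis.2.1 j hj) ⟨r j, hr j, hrf j, hae ▸ he j hj⟩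
  intro q hq hb
  have hv : P (f q) := by
    rw [← span_basis (f q)]
    exact Padd _ _
      (Padd _ _ (Padd _ _ (Pev 0 _ (fun h => absurd h (by decide))) (Pev 1 _ (fun h => absurd h (by decide))))
        (Padd _ _ (Pev 2 _ (fun h => absurd h (by decide))) (Pev 3 _ (fun h => absurd h (by decide)))))
      (Padd _ _ (Padd _ _ (Pev 4 _ (fun _ => by rw [← perp_bit, hb])) (Pev 5 _ (fun h => absurd h (by decide))))
        (Padd _ _ (Pev 6 _ (fun h => absurd h (by decide))) (Pev 7 _ (fun h => absurd h (by decide)))))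
  exact hv.2 q hq rfl

/-- An involution of the intersection over the translation by `8` has the standard commutators. -/
theorem Cm_eight {x : G} (hx : Img ρ x (sieP pt 8)) (hx' : g⁻¹ * x * g ∈ Q) :
    Cm z u Q f 8 x := by
  have h8 : bl 8 pt = false := by decide +kernel
  have h80 : (8 : V8) ≠ 0 := by decide
  have h81 : (8 : V8) ≠ pt := by decide +kernel
  obtain ⟨a, ha, hlin⟩ := M.CRel_linear W hx hx' h8
  have hinv : ∀ p ∈ invWS, ∀ j : Fin 8, j ≠ 4 → bl a (wap [p] (ev j)) = bl a (ev j) := by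
    intro p hp j hj
    obtain ⟨hok, hpt, h8'⟩ := invWS_ok p hp
    obtain ⟨c, hc, hcu⟩ := M.lift_fix W.nc.1 (W.fu ▸ pt_facts.2.1) hok (by rw [W.fu]; exact hpt)
    have hσ : wperm [p] * sieP pt 8 * (wperm [p])⁻¹ = sieP pt 8 := by
      rw [O_sieP (wperm_mem_O _) (sieOK_pt h8), wperm_apply hok, wperm_apply hok, hpt]
      rcases h8' with h | h <;> rw [h]
      exact sieP_add_pt h8
    obtain ⟨d, hd, hd', hxd⟩ :=
      M.D_same W hx (hσ ▸ hx.conj hc) hx' (M.D_conj_mem W hcu hx')
    have hjp := perp_basis.2.1 j hj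
    obtain ⟨q, hq, hqf⟩ := M.f_surj (ev j)
    have hq' : c * q * c⁻¹ ∈ Q := M.normal c hc.mem q hq
    have hfq' : f (c * q * c⁻¹) = wap [p] (ev j) := by
      rw [M.img_conj hc hq, hqf, wperm_apply hok]
    have hq'p : bl (wap [p] (ev j)) pt = false := by
      have h := O_bl (wperm_mem_O [p]) (ev j) pt
      rwa [wperm_apply hok, wperm_apply hok, hpt, hjp] at h
    have hb : bl (wap [p] (ev j)) 8 = bl (ev j) 8 := by
      have h := O_bl (wperm_mem_O [p]) (ev j) 8
      rw [wperm_apply hok, wperm_apply hok] at h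
      rcases h8' with e | e <;> rw [e] at h
      · exact h
      · rwa [bl_vadd_right, hq'p, Bool.xor_false] at h
    have h1 := hlin q hq (by rw [hqf]; exact hjp)
    have h2 : CRel z u f 8 x (c * q * c⁻¹) (bl a (f q)) := by
      have hdc := M.DQ_comm W hd hd' (M.le hq') (M.perp_comm W hq' (by rw [hfq']; exact hq'p))
      have e1 : x * (c * q * c⁻¹) * x⁻¹ = c * (x * q * x⁻¹) * c⁻¹ := by
        calc x * (c * q * c⁻¹) * x⁻¹ = x * (d * (c * q * c⁻¹) * d⁻¹) * x⁻¹ := by
              rw [hdc, mul_inv_cancel_right]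
          _ = x * d * (c * q * c⁻¹) * (x * d)⁻¹ := by group
          _ = c * (x * q * x⁻¹) * c⁻¹ := by rw [← hxd]; group
      rw [CRel, e1, h1, hfq', hb, hqf]
      calc c * (q * up z u (bl (ev j) 8) * zp z (bl a (ev j))) * c⁻¹
          = c * q * c⁻¹ * (c * up z u (bl (ev j) 8) * c⁻¹) *
            (c * zp z (bl a (ev j)) * c⁻¹) := by group
        _ = _ := by rw [M.up_comm W _ hc.mem hcu, M.zp_comm _ hc.mem, mul_inv_cancel_right,
              mul_inv_cancel_right]
    have h3 := M.CRel_uniq W h2 (hlin _ hq' (by rw [hfq']; exact hq'p))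
    rw [hqf, hfq'] at h3
    exact h3.symm
  have key : a = 0 ∨ a = pt := by
    rcases inv_func a ha hinv with h | h | h | h
    · exact Or.inl h
    · exact Or.inr h
    all_goals
      exfalso
      have hstd : ∀ q ∈ Q, bl (f q) pt = false →
          x * q * x⁻¹ = q * (if bl (f q) 8 then u else 1) := by
        intro q hq hb
        have h1 := hlin q hq hb
        have hab : bl a (f q) = bl (f q) 8 := by
          first
            | (rw [h]; exact bl_comm _ _)
            | (rw [h, bl_comm, bl_vadd_right, hb, Bool.xor_false])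
        rw [CRel, hab] at h1
        rw [h1]
        cases bl (f q) 8
        · simp [up, zp]
        · show q * (u * z) * z = q * u
          rw [mul_assoc q, mul_assoc u, M.zz, mul_one]
      have hout : ¬ (f (g⁻¹ * x * g) = 0 ∨ f (g⁻¹ * x * g) = pt) := by
        intro hy
        have hπ := M.D_inj W hx (M.img_q (one_mem Q)) hx' (by simp) (by
          rwa [show g⁻¹ * 1 * g = (1 : G) by group, M.f_one, vadd_zero])
        rw [← sieP_zero] at hπ
        exact (sieP_eq h8 (by decide +kernel) hπ).elim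
          (fun h => h80 (by rwa [vadd_zero] at h)) (fun h => h81 (by rwa [vadd_zero] at h))
      refine hout (singS_span _ (fun s hs => ?_) (M.D_fy W hx.mem hx'))
      obtain ⟨hsp, hsq, -, -⟩ := reps_spec.2.2.2.1 s hs
      obtain ⟨x', hI', hQ', -⟩ := M.DInv_sing W hsp hsq
      have hqQ : g * x' * g⁻¹ ∈ Q := by
        have h := M.normal _ (gg_mem W) _ hQ'
        rwa [show g * g * (g⁻¹ * x' * g) * (g * g)⁻¹ = g * x' * g⁻¹ by group] at h
      have hqp : bl (f (g * x' * g⁻¹)) pt = false := by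
        have h := (M.commute_iff hqQ W.nc.1).1 (commute_u_conj W hI'.mem).symm
        rwa [W.fu] at h
      have h5 := hstd _ hqQ hqp
      have h6 : g⁻¹ * x * g * x' * (g⁻¹ * x * g)⁻¹ =
          x' * zp z (bl (f (g * x' * g⁻¹)) 8) := by
        rw [show g⁻¹ * x * g * x' * (g⁻¹ * x * g)⁻¹ =
          g⁻¹ * (x * (g * x' * g⁻¹) * x⁻¹) * g by group, h5]
        cases bl (f (g * x' * g⁻¹)) 8
        · show g⁻¹ * (g * x' * g⁻¹ * 1) * g = x' * 1
          group
        · show g⁻¹ * (g * x' * g⁻¹ * u) * g = x' * z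
          rw [← swap_ug W]; group
      have h6' : x'⁻¹ * (g⁻¹ * x * g) * x'⁻¹⁻¹ =
          zp z (bl (f (g * x' * g⁻¹)) 8) * (g⁻¹ * x * g) := by
        calc x'⁻¹ * (g⁻¹ * x * g) * x'⁻¹⁻¹
            = x'⁻¹ * (g⁻¹ * x * g * x' * (g⁻¹ * x * g)⁻¹) * (g⁻¹ * x * g) := by group
          _ = _ := by rw [h6]; group
      have hzf : ∀ b : Bool, f (zp z b * (g⁻¹ * x * g)) = f (g⁻¹ * x * g) := by
        intro b
        cases b
        · rw [zp_false, one_mul]
        · rw [zp_true, M.f_mul z M.z_mem _ hx', M.f_z, zero_vadd]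
      have h7 := congrArg f h6'
      rw [hzf, M.img_conj hI'.inv hx'] at h7
      have h8 : sieP pt s (f (g⁻¹ * x * g)) = f (g⁻¹ * x * g) := by
        nth_rw 1 [← h7]
        exact (sieP pt s).apply_symm_apply _
      rw [sieP_apply (sieOK_pt hsp), sie_perp _ (M.D_fy W hx.mem hx')] at h8
      have h9 := congrArg (vadd (f (g⁻¹ * x * g))) h8
      rw [vadd_cancel, vadd_self] at h9
      exact sel_pt_inj (c := false) h9
  intro q hq hb
  have h := hlin q hq hb
  have hab : bl a (f q) = false := by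
    rcases key with e | e <;> rw [e, bl_comm]
    · simp [bl, pr, bit_zero]
    · exact hb
  rw [CRel, hab, zp_false, mul_one] at h
  exact h

theorem HasCm_eight : HasCm u Q f ρ g 8 := by
  obtain ⟨x, hx, hx', -⟩ := M.DInv_sing W (w := 8) (by decide +kernel) (by decide +kernel)
  exact ⟨by decide +kernel, x, hx, hx', M.Cm_eight W hx hx'⟩

theorem HasCm_conj {c : G} {σ : Perm V8} {w : V8} (hc : Img ρ c σ) (hcu : c * u = u * c)
    (hσ : σ pt = pt) (h : HasCm u Q f ρ g w) : HasCm u Q f ρ g (σ w) := by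
  obtain ⟨hw, x, hx, hx', hcm⟩ := h
  have hO := M.img_O hc
  have hw' : bl (σ w) pt = false := by rw [← hσ, O_bl hO]; exact hw
  refine ⟨hw', c * x * c⁻¹, ?_, M.D_conj_mem W hcu hx', fun q hq hb => ?_⟩
  · have h := hx.conj hc
    rwa [O_sieP hO (sieOK_pt hw), hσ] at h
  have hq' : c⁻¹ * q * c⁻¹⁻¹ ∈ Q := M.normal _ (inv_mem hc.mem) q hq
  have hf : f (c⁻¹ * q * c⁻¹⁻¹) = σ⁻¹ (f q) := M.img_conj hc.inv hq
  have hback : σ (σ⁻¹ (f q)) = f q := σ.apply_symm_apply _
  have hb' : bl (σ⁻¹ (f q)) pt = false := by rw [← O_bl hO, hback, hσ]; exact hb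
  have h1 := hcm _ hq' (by rw [hf]; exact hb')
  rw [hf, ← O_bl hO, hback] at h1
  calc c * x * c⁻¹ * q * (c * x * c⁻¹)⁻¹ = c * (x * (c⁻¹ * q * c⁻¹⁻¹) * x⁻¹) * c⁻¹ := by group
    _ = c * c⁻¹ * q * (c * up z u (bl (f q) (σ w)) * c⁻¹) := by rw [h1]; group
    _ = _ := by rw [M.up_comm W _ hc.mem hcu, mul_inv_cancel_right, mul_inv_cancel, one_mul]

theorem HasCm_shift {w : V8} (h : HasCm u Q f ρ g (vadd w pt)) : HasCm u Q f ρ g w := by
  obtain ⟨hw', x, hx, hx', hcm⟩ := h
  have hw : bl w pt = false := by rw [bl_vadd_left, pt_facts.2.2, Bool.xor_false] at hw'; exact hw'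
  refine ⟨hw, x, by rwa [sieP_add_pt hw] at hx, hx', fun q hq hb => ?_⟩
  have h := hcm q hq hb
  rwa [bl_vadd_right, hb, Bool.xor_false] at h

theorem HasCm_mul {w w' : V8} (h : HasCm u Q f ρ g w) (h' : HasCm u Q f ρ g w') :
    HasCm u Q f ρ g (vadd w w') := by
  obtain ⟨hw, x, hx, hx', hcm⟩ := h
  obtain ⟨hw', y, hy, hy', hcm'⟩ := h'
  refine ⟨perp_sum hw hw', x * y, by rw [← sieP_mul hw hw']; exact hx.mul hy,
    M.D_mul_mem W hx' hy', fun q hq hb => ?_⟩
  have hxu := M.D_comm_u W hx'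
  rw [bl_vadd_right, M.up_xor W]
  calc x * y * q * (x * y)⁻¹ = x * (y * q * y⁻¹) * x⁻¹ := by group
    _ = x * q * (up z u (bl (f q) w') * x⁻¹) := by rw [hcm' q hq hb]; group
    _ = x * q * x⁻¹ * up z u (bl (f q) w') := by
        rw [← M.up_comm W _ (inv_mem hx.mem) ((show Commute x u from hxu).inv_left).eq]; group
    _ = _ := by rw [hcm q hq hb]; group

theorem HasCm_back {w : V8} (hw : bl w pt = false) (h0 : w ≠ 0) (h1 : w ≠ pt)
    (h : HasCm u Q f ρ g (if qb w then 136 else 8)) : HasCm u Q f ρ g w := by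
  obtain ⟨c, σ, hc, hcu, hσ, hσw, -⟩ := M.orbit_move W hw h0 h1
  have hcu' : c⁻¹ * u = u * c⁻¹ := ((show Commute c u from hcu).inv_left).eq
  have hσ' : σ⁻¹ pt = pt := by nth_rw 1 [← hσ]; exact σ.symm_apply_apply pt
  have h' := M.HasCm_conj W hc.inv hcu' hσ' h
  have hback : σ⁻¹ (σ w) = w := σ.symm_apply_apply w
  rcases hσw with e | e <;> rw [e] at hback
  · rwa [hback] at h'
  · rw [O_add (inv_mem (M.img_O hc)), hσ'] at hback
    refine M.HasCm_shift W ?_
    rwa [← hback, vadd_assoc, vadd_self, vadd_zero]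

/-- Conjugation by the intersection on the part of `Q` centralising `u`. -/
theorem D_comm {x : G} {w : V8} (hx : Img ρ x (sieP pt w)) (hx' : g⁻¹ * x * g ∈ Q)
    (hw : bl w pt = false) : Cm z u Q f w x := by
  obtain ⟨-, x0, hx0, hx0', hcm⟩ : HasCm u Q f ρ g w := by
    have htriv : ∀ v, bl v pt = false → sieP pt v = 1 → (v = 0 ∨ v = pt) →
        HasCm u Q f ρ g v := by
      intro v hv he hv'
      refine ⟨hv, 1, by rw [he]; exact Img.one, by simp, fun q hq hb => ?_⟩
      have hz : bl (f q) v = false := by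
        rcases hv' with rfl | rfl
        · rw [bl_comm]; simp [bl, pr, bit_zero]
        · exact hb
      rw [hz]
      simp [up]
    by_cases h0 : w = 0
    · exact htriv w hw (by rw [h0]; exact sieP_zero) (Or.inl h0)
    by_cases h1 : w = pt
    · exact htriv w hw (by rw [h1]; exact sieP_pt) (Or.inr h1)
    refine M.HasCm_back W hw h0 h1 ?_
    have h8 := M.HasCm_eight W
    cases hq : qb w
    · exact h8
    · show HasCm u Q f ρ g 136
      rw [show (136 : V8) = vadd 8 128 by decide +kernel]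
      refine M.HasCm_mul W h8 (M.HasCm_back W (by decide +kernel) (by decide)
        (by decide +kernel) ?_)
      rw [show qb 128 = false by decide +kernel]
      exact h8
  obtain ⟨d, hd, hd', rfl⟩ := M.D_same W hx0 hx hx0' hx'
  intro q hq hb
  calc x0 * d * q * (x0 * d)⁻¹ = x0 * (d * q * d⁻¹) * x0⁻¹ := by group
    _ = _ := by rw [M.DQ_comm W hd hd' (M.le hq) (M.perp_comm W hq hb), mul_inv_cancel_right,
          hcm q hq hb]

theorem up_false : up z u false = 1 := rfl

/-- Elements of the intersection centralise what their image fixes. -/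
theorem D_fix_comm {x q : G} {w : V8} (hx : Img ρ x (sieP pt w)) (hx' : g⁻¹ * x * g ∈ Q)
    (hw : bl w pt = false) (h0 : w ≠ 0) (h1 : w ≠ pt) (hq : q ∈ Q)
    (hfix : sieP pt w (f q) = f q) : x * q = q * x := by
  rw [sieP_apply (sieOK_pt hw)] at hfix
  obtain ⟨hb, hbw⟩ := sie_fixed h0 h1 hfix
  have h := M.D_comm W hx hx' hw q hq hb
  rw [hbw, M.up_false W, mul_one] at h
  exact mul_inv_eq_iff_eq_mul.1 h

end Model

end CfsgLib.Small.ConTwo
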