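import Mathlib

/-!
The orthogonal group of plus type in dimension eight over two elements. Vectors are bit strings of
length eight; `qb` is the quadratic form `x₀y₀+x₁y₁+x₂y₂+x₃y₃`, with `xᵢ` the bit `i` and `yᵢ`
the bit `4+i`.
-/

set_option autoImplicit false

namespace CfsgLib.Small.ConTwo

open Equiv

/-- Vectors. -/
abbrev V8 : Type := Fin 256

/-- A coordinate. -/
def bit (v : V8) (j : ℕ) : Bool := v.val.testBit j

/-- The quadratic form. -/
def qb (v : V8) : Bool :=
  ((bit v 0 && bit v 4) ^^ (bit v 1 && bit v 5)) ^^ ((bit v 2 && bit v 6) ^^ (bit v 3 && bit v 7))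

/-- One symplectic pair. -/
def pr (v w : V8) (j : ℕ) : Bool := (bit v j && bit w (4 + j)) ^^ (bit v (4 + j) && bit w j)

/-- The polar form. -/
def bl (v w : V8) : Bool := (pr v w 0 ^^ pr v w 1) ^^ (pr v w 2 ^^ pr v w 3)

/-- Addition of vectors. -/
def vadd (v w : V8) : V8 := v ^^^ w

/-- A vector or zero. -/
def sel (b : Bool) (x : V8) : V8 := if b then x else 0

/-- A basis vector. -/
def ev (j : Fin 8) : V8 := Fin.ofNat 256 (2 ^ j.val)

theorem vadd_val (v w : V8) : (vadd v w).val = v.val ^^^ w.val := by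
  show (v.val ^^^ w.val) % 256 = _
  exact Nat.mod_eq_of_lt (Nat.xor_lt_two_pow (n := 8) v.isLt w.isLt)

theorem bit_vadd (v w : V8) (j : ℕ) : bit (vadd v w) j = (bit v j ^^ bit w j) := by
  simp [bit, vadd_val, Nat.testBit_xor]

theorem bit_zero (j : ℕ) : bit 0 j = false := by simp [bit]

theorem vadd_assoc (u v w : V8) : vadd (vadd u v) w = vadd u (vadd v w) :=
  Fin.ext (by simp only [vadd_val, Nat.xor_assoc])

theorem vadd_comm (v w : V8) : vadd v w = vadd w v :=
  Fin.ext (by simp only [vadd_val, Nat.xor_comm])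

theorem vadd_self (v : V8) : vadd v v = 0 := Fin.ext (by simp [vadd_val])

theorem vadd_zero (v : V8) : vadd v 0 = v := Fin.ext (by simp [vadd_val])

theorem zero_vadd (v : V8) : vadd 0 v = v := by rw [vadd_comm, vadd_zero]

instance : Std.Associative vadd := ⟨vadd_assoc⟩

instance : Std.Commutative vadd := ⟨vadd_comm⟩

theorem vadd_cancel (v w : V8) : vadd v (vadd v w) = w := by
  rw [← vadd_assoc, vadd_self, zero_vadd]

theorem vadd_eq_zero {v w : V8} (h : vadd v w = 0) : v = w := by
  have h1 := congrArg (vadd v) h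
  rw [vadd_cancel, vadd_zero] at h1
  exact h1.symm

theorem vadd_four (a b c d : V8) : vadd (vadd a b) (vadd c d) = vadd (vadd a c) (vadd b d) := by
  ac_rfl

theorem sel_xor (b c : Bool) (x : V8) : sel (b ^^ c) x = vadd (sel b x) (sel c x) := by
  cases b <;> cases c <;> simp [sel, vadd_zero, zero_vadd, vadd_self]

theorem pr_vadd_left (u v w : V8) (j : ℕ) : pr (vadd u v) w j = (pr u w j ^^ pr v w j) := by
  simp only [pr, bit_vadd]
  cases bit u j <;> cases bit v j <;> cases bit u (4 + j) <;> cases bit v (4 + j) <;>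
    cases bit w j <;> cases bit w (4 + j) <;> rfl

theorem xor_four : ∀ a a' b b' : Bool, ((a ^^ a') ^^ (b ^^ b')) = ((a ^^ b) ^^ (a' ^^ b')) := by
  decide

theorem xor_eight (a a' b b' c c' d d' : Bool) :
    (((a ^^ a') ^^ (b ^^ b')) ^^ ((c ^^ c') ^^ (d ^^ d'))) =
      (((a ^^ b) ^^ (c ^^ d)) ^^ ((a' ^^ b') ^^ (c' ^^ d'))) := by
  rw [xor_four a a' b b', xor_four c c' d d', xor_four]

theorem xor_six : ∀ a a' p b b' q : Bool,
    (((a ^^ a') ^^ p) ^^ ((b ^^ b') ^^ q)) = (((a ^^ b) ^^ (a' ^^ b')) ^^ (p ^^ q)) := by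
  decide

theorem xor_twelve (a a' p b b' q c c' r d d' t : Bool) :
    ((((a ^^ a') ^^ p) ^^ ((b ^^ b') ^^ q)) ^^ (((c ^^ c') ^^ r) ^^ ((d ^^ d') ^^ t))) =
      ((((a ^^ b) ^^ (c ^^ d)) ^^ ((a' ^^ b') ^^ (c' ^^ d'))) ^^ ((p ^^ q) ^^ (r ^^ t))) := by
  rw [xor_six a a' p b b' q, xor_six c c' r d d' t, xor_six]

theorem bl_vadd_left (u v w : V8) : bl (vadd u v) w = (bl u w ^^ bl v w) := by
  simp only [bl, pr_vadd_left]
  exact xor_eight _ _ _ _ _ _ _ _

theorem bl_comm (v w : V8) : bl v w = bl w v := by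
  simp only [bl, pr, Bool.and_comm, Bool.xor_comm]

theorem bl_vadd_right (u v w : V8) : bl u (vadd v w) = (bl u v ^^ bl u w) := by
  rw [bl_comm, bl_vadd_left, bl_comm v, bl_comm w]

theorem pair_xor (a a' b b' : Bool) :
    ((a ^^ a') && (b ^^ b')) = (((a && b) ^^ (a' && b')) ^^ ((a && b') ^^ (b && a'))) := by
  cases a <;> cases b <;> cases a' <;> cases b' <;> rfl

theorem qb_vadd (v w : V8) : qb (vadd v w) = ((qb v ^^ qb w) ^^ bl v w) := by
  simp only [qb, bit_vadd, pair_xor, bl, pr]
  exact xor_twelve _ _ _ _ _ _ _ _ _ _ _ _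

theorem bl_self (v : V8) : bl v v = false := by
  simp [bl, pr, Bool.and_comm]

theorem qb_zero : qb 0 = false := by simp [qb, bit_zero]

theorem bl_nondeg : ∀ v : V8, (∀ j : Fin 8, bl v (ev j) = false) → v = 0 := by decide +kernel

theorem span_basis : ∀ v : V8,
    vadd (vadd (vadd (sel (bit v 0) (ev 0)) (sel (bit v 1) (ev 1)))
        (vadd (sel (bit v 2) (ev 2)) (sel (bit v 3) (ev 3))))
      (vadd (vadd (sel (bit v 4) (ev 4)) (sel (bit v 5) (ev 5)))
        (vadd (sel (bit v 6) (ev 6)) (sel (bit v 7) (ev 7)))) = v := by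
  decide +kernel

/-- The additive permutations preserving the quadratic form. -/
def O : Subgroup (Perm V8) where
  carrier := {π | (∀ v w, π (vadd v w) = vadd (π v) (π w)) ∧ ∀ v, qb (π v) = qb v}
  one_mem' := ⟨fun _ _ => rfl, fun _ => rfl⟩
  mul_mem' := fun {a b} ha hb =>
    ⟨fun v w => by rw [Perm.mul_apply, Perm.mul_apply, Perm.mul_apply, hb.1, ha.1],
      fun v => by rw [Perm.mul_apply, ha.2, hb.2]⟩
  inv_mem' := fun {a} ha =>
    ⟨fun v w => a.injective (by simp [ha.1]), fun v => by
      have h := ha.2 (a⁻¹ v)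
      rwa [show a (a⁻¹ v) = v by simp, eq_comm] at h⟩

theorem O_add {π : Perm V8} (h : π ∈ O) (v w : V8) : π (vadd v w) = vadd (π v) (π w) := h.1 v w

theorem O_q {π : Perm V8} (h : π ∈ O) (v : V8) : qb (π v) = qb v := h.2 v

theorem O_zero {π : Perm V8} (h : π ∈ O) : π 0 = 0 := by
  have h1 := O_add h 0 0
  rw [vadd_self 0] at h1
  rw [h1, vadd_self]

theorem O_bl {π : Perm V8} (h : π ∈ O) (v w : V8) : bl (π v) (π w) = bl v w := by
  have h1 := qb_vadd (π v) (π w)
  rw [← O_add h, O_q h, O_q h, O_q h, qb_vadd] at h1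
  cases hx : bl (π v) (π w) <;> cases hy : bl v w <;> simp [hx, hy] at h1 ⊢

theorem O_sel {π : Perm V8} (h : π ∈ O) (b : Bool) (x : V8) : π (sel b x) = sel b (π x) := by
  cases b
  · exact O_zero h
  · rfl

theorem O_ext {π σ : Perm V8} (h : π ∈ O) (h' : σ ∈ O) (he : ∀ j, π (ev j) = σ (ev j)) : π = σ :=
  Equiv.ext fun v => by
    rw [← span_basis v]
    simp only [O_add h, O_add h', O_sel h, O_sel h', he]

/-! ### Siegel elements -/

/-- The Siegel transformation of a singular `p` and a vector `w` orthogonal to it. -/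
def sie (p w : V8) (v : V8) : V8 :=
  vadd v (vadd (vadd (sel (bl v p) w) (sel (bl v w) p)) (sel (qb w && bl v p) p))

/-- The condition on the parameters. -/
def SieOK (x : V8 × V8) : Prop := qb x.1 = false ∧ bl x.1 x.2 = false

instance : DecidablePred SieOK := fun x => by unfold SieOK; infer_instance

theorem sel_add (b : Bool) (x y : V8) : sel b (vadd x y) = vadd (sel b x) (sel b y) := by
  cases b
  · exact (vadd_self 0).symm
  · rfl

theorem sie_add (p w u v : V8) : sie p w (vadd u v) = vadd (sie p w u) (sie p w v) := by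
  simp only [sie, bl_vadd_left, Bool.and_xor_distrib_left, sel_xor]
  ac_rfl

theorem bl_sel_left (b : Bool) (x y : V8) : bl (sel b x) y = (b && bl x y) := by
  cases b
  · show bl 0 y = false
    simp [bl, pr, bit_zero]
  · rfl

theorem bl_sel_right (b : Bool) (x y : V8) : bl y (sel b x) = (b && bl y x) := by
  rw [bl_comm, bl_sel_left, bl_comm]

theorem qb_sel (b : Bool) (x : V8) : qb (sel b x) = (b && qb x) := by
  cases b
  · exact qb_zero
  · rfl

theorem sie_qb {p w : V8} (h : SieOK (p, w)) (v : V8) : qb (sie p w v) = qb v := by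
  have hp : qb p = false := h.1
  have hpw : bl p w = false := h.2
  have hwp : bl w p = false := by rw [bl_comm, hpw]
  simp only [sie, qb_vadd, bl_vadd_left, bl_vadd_right, qb_sel, bl_sel_left, bl_sel_right, hp,
    bl_self, hwp, hpw]
  cases qb v <;> cases qb w <;> cases bl v p <;> cases bl v w <;> rfl

theorem sie_sie {p w : V8} (h : SieOK (p, w)) (v : V8) : sie p w (sie p w v) = v := by
  have hp : bl p p = false := bl_self p
  have hpw : bl p w = false := h.2
  have hwp : bl w p = false := by rw [bl_comm, hpw]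
  have h1 : bl (sie p w v) p = bl v p := by
    simp [sie, bl_vadd_left, bl_sel_left, hp, hwp]
  have h2 : bl (sie p w v) w = bl v w := by
    simp [sie, bl_vadd_left, bl_sel_left, hpw, bl_self]
  show vadd (sie p w v) _ = v
  rw [h1, h2]
  show vadd (vadd v _) _ = v
  rw [vadd_assoc, vadd_self, vadd_zero]

/-- A Siegel transformation as a permutation. -/
def sieP (p w : V8) : Perm V8 :=
  if h : SieOK (p, w) then Function.Involutive.toPerm (sie p w) (sie_sie h) else 1

theorem sieP_apply {p w : V8} (h : SieOK (p, w)) (v : V8) : sieP p w v = sie p w v := by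
  rw [sieP, dif_pos h]
  rfl

theorem sieP_mem (p w : V8) : sieP p w ∈ O := by
  by_cases h : SieOK (p, w)
  · exact ⟨fun u v => by simp only [sieP_apply h, sie_add], fun v => by rw [sieP_apply h, sie_qb h]⟩
  · rw [sieP, dif_neg h]
    exact one_mem O

/-- A word in Siegel transformations, acting on vectors. -/
def wap (l : List (V8 × V8)) (v : V8) : V8 := l.foldr (fun x t => sie x.1 x.2 t) v

/-- All parameters of a word are admissible. -/
def WordOK (l : List (V8 × V8)) : Prop := l.all (fun x => decide (SieOK x)) = true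

instance : DecidablePred WordOK := fun l => by unfold WordOK; infer_instance

/-- A word in Siegel transformations as a permutation. -/
def wperm (l : List (V8 × V8)) : Perm V8 := (l.map fun x => sieP x.1 x.2).prod

theorem wperm_apply : ∀ {l : List (V8 × V8)}, WordOK l → ∀ v, wperm l v = wap l v
  | [], _, _ => rfl
  | x :: l, h, v => by
    simp only [WordOK, List.all_cons, Bool.and_eq_true, decide_eq_true_eq] at h
    show sieP x.1 x.2 (wperm l v) = sie x.1 x.2 (wap l v)
    rw [wperm_apply h.2, sieP_apply h.1]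

/-! ### The five types of involutions -/

/-- The distinguished singular vector. -/
def pt : V8 := 1

/-- Class `a₂`. -/
def wA : List (V8 × V8) := [(1, 8)]

/-- Class `c₂`. -/
def wC : List (V8 × V8) := [(1, 136)]

/-- Class `a₄`. -/
def wF : List (V8 × V8) := [(1, 8), (2, 4)]

/-- The other class `a₄`. -/
def wF' : List (V8 × V8) := [(1, 128), (2, 4)]

/-- Class `c₄`. -/
def wE : List (V8 × V8) := [(1, 136), (2, 4)]

/-- The five representatives. -/
def reps : List (List (V8 × V8)) := [wA, wC, wF, wF', wE]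

end CfsgLib.Small.ConTwo
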