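import Cfsg.Agent.Lib.Small.ConTwo.Core

/-!
Witness words for the orthogonal group of plus type in dimension eight.
-/

set_option autoImplicit false

namespace CfsgLib.Small.ConTwo

/-- Words moving a singular vector to `pt`. -/
def transW : List (V8 × List (V8 × V8)) := [
    (1, []),
    (2, [(3, 48)]),
    (3, [(2, 16)]),
    (4, [(5, 80)]),
    (5, [(4, 16)]),
    (6, [(7, 48)]),
    (7, [(6, 16)]),
    (8, [(9, 144)]),
    (9, [(8, 16)]),
    (10, [(11, 48)]),
    (11, [(10, 16)]),
    (12, [(13, 80)]),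
    (13, [(12, 16)]),
    (14, [(15, 48)]),
    (15, [(14, 16)]),
    (16, [(51, 17)]),
    (18, [(48, 19)]),
    (20, [(51, 21)]),
    (22, [(48, 23)]),
    (24, [(51, 25)]),
    (26, [(48, 27)]),
    (28, [(51, 29)]),
    (30, [(48, 31)]),
    (32, [(18, 33)]),
    (33, [(16, 32)]),
    (36, [(18, 37)]),
    (37, [(16, 36)]),
    (40, [(18, 41)]),
    (41, [(16, 40)]),
    (44, [(18, 45)]),
    (45, [(16, 44)]),
    (48, [(18, 35)]),
    (51, [(16, 34)]),
    (52, [(18, 39)]),
    (55, [(16, 38)]),
    (56, [(18, 43)]),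
    (59, [(16, 42)]),
    (60, [(18, 47)]),
    (63, [(16, 46)]),
    (64, [(20, 65)]),
    (65, [(16, 64)]),
    (66, [(20, 67)]),
    (67, [(16, 66)]),
    (72, [(20, 73)]),
    (73, [(16, 72)]),
    (74, [(20, 75)]),
    (75, [(16, 74)]),
    (80, [(20, 69)]),
    (82, [(20, 71)]),
    (85, [(16, 68)]),
    (87, [(16, 70)]),
    (88, [(20, 77)]),
    (90, [(20, 79)]),
    (93, [(16, 76)]),
    (95, [(16, 78)]),
    (96, [(18, 97)]),
    (97, [(16, 96)]),
    (102, [(18, 103)]),
    (103, [(16, 102)]),
    (104, [(18, 105)]),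
    (105, [(16, 104)]),
    (110, [(18, 111)]),
    (111, [(16, 110)]),
    (112, [(18, 99)]),
    (115, [(16, 98)]),
    (117, [(16, 100)]),
    (118, [(18, 101)]),
    (120, [(18, 107)]),
    (123, [(16, 106)]),
    (125, [(16, 108)]),
    (126, [(18, 109)]),
    (128, [(24, 129)]),
    (129, [(16, 128)]),
    (130, [(24, 131)]),
    (131, [(16, 130)]),
    (132, [(24, 133)]),
    (133, [(16, 132)]),
    (134, [(24, 135)]),
    (135, [(16, 134)]),
    (144, [(24, 137)]),
    (146, [(24, 139)]),
    (148, [(24, 141)]),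
    (150, [(24, 143)]),
    (153, [(16, 136)]),
    (155, [(16, 138)]),
    (157, [(16, 140)]),
    (159, [(16, 142)]),
    (160, [(18, 161)]),
    (161, [(16, 160)]),
    (164, [(18, 165)]),
    (165, [(16, 164)]),
    (170, [(18, 171)]),
    (171, [(16, 170)]),
    (174, [(18, 175)]),
    (175, [(16, 174)]),
    (176, [(18, 163)]),
    (179, [(16, 162)]),
    (180, [(18, 167)]),
    (183, [(16, 166)]),
    (185, [(16, 168)]),
    (186, [(18, 169)]),
    (189, [(16, 172)]),
    (190, [(18, 173)]),
    (192, [(20, 193)]),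
    (193, [(16, 192)]),
    (194, [(20, 195)]),
    (195, [(16, 194)]),
    (204, [(20, 205)]),
    (205, [(16, 204)]),
    (206, [(20, 207)]),
    (207, [(16, 206)]),
    (208, [(20, 197)]),
    (210, [(20, 199)]),
    (213, [(16, 196)]),
    (215, [(16, 198)]),
    (217, [(16, 200)]),
    (219, [(16, 202)]),
    (220, [(20, 201)]),
    (222, [(20, 203)]),
    (224, [(18, 225)]),
    (225, [(16, 224)]),
    (230, [(18, 231)]),
    (231, [(16, 230)]),
    (234, [(18, 235)]),
    (235, [(16, 234)]),
    (236, [(18, 237)]),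
    (237, [(16, 236)]),
    (240, [(18, 227)]),
    (243, [(16, 226)]),
    (245, [(16, 228)]),
    (246, [(18, 229)]),
    (249, [(16, 232)]),
    (250, [(18, 233)]),
    (252, [(18, 239)]),
    (255, [(16, 238)])]

/-- Words fixing `pt` and moving a singular class to that of `8`. -/
def singW : List (V8 × List (V8 × V8)) := [
    (2, [(10, 160)]),
    (4, [(12, 192)]),
    (6, [(14, 160)]),
    (8, []),
    (10, [(2, 128)]),
    (12, [(4, 128)]),
    (14, [(6, 128)]),
    (32, [(40, 130)]),
    (36, [(44, 130)]),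
    (40, [(32, 128)]),
    (44, [(36, 128)]),
    (64, [(72, 132)]),
    (66, [(74, 132)]),
    (72, [(64, 128)]),
    (74, [(66, 128)]),
    (96, [(104, 130)]),
    (102, [(110, 130)]),
    (104, [(96, 128)]),
    (110, [(102, 128)]),
    (128, [(170, 34)]),
    (130, [(160, 42)]),
    (132, [(170, 38)]),
    (134, [(160, 46)]),
    (160, [(130, 42)]),
    (164, [(130, 46)]),
    (170, [(128, 34)]),
    (174, [(128, 38)]),
    (192, [(132, 76)]),
    (194, [(132, 78)]),
    (204, [(128, 68)]),
    (206, [(128, 70)]),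
    (224, [(130, 106)]),
    (230, [(130, 108)]),
    (234, [(128, 98)]),
    (236, [(128, 100)])]

/-- Words fixing `pt` and moving a nonsingular class to that of `136`. -/
def nonsW : List (V8 × List (V8 × V8)) := [
    (34, [(10, 160)]),
    (38, [(10, 164)]),
    (42, [(10, 162)]),
    (46, [(10, 166)]),
    (68, [(12, 192)]),
    (70, [(12, 194)]),
    (76, [(12, 196)]),
    (78, [(12, 198)]),
    (98, [(10, 224)]),
    (100, [(10, 230)]),
    (106, [(10, 226)]),
    (108, [(10, 228)]),
    (136, []),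
    (138, [(2, 8)]),
    (140, [(4, 8)]),
    (142, [(6, 8)]),
    (162, [(8, 34)]),
    (166, [(8, 38)]),
    (168, [(8, 32)]),
    (172, [(8, 36)]),
    (196, [(8, 68)]),
    (198, [(8, 70)]),
    (200, [(8, 64)]),
    (202, [(8, 66)]),
    (226, [(8, 98)]),
    (228, [(8, 100)]),
    (232, [(8, 96)]),
    (238, [(8, 102)])]

/-- Parameters moving a singular class off its orthogonal. -/
def moveW : List (V8 × (V8 × V8)) := [
    (2, (32, 68)),
    (3, (32, 68)),
    (4, (64, 34)),
    (5, (64, 34)),
    (6, (32, 68)),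
    (7, (32, 68)),
    (8, (128, 34)),
    (9, (128, 34)),
    (10, (32, 68)),
    (11, (32, 68)),
    (12, (64, 34)),
    (13, (64, 34)),
    (14, (32, 68)),
    (15, (32, 68)),
    (32, (2, 68)),
    (33, (2, 68)),
    (36, (2, 68)),
    (37, (2, 68)),
    (40, (2, 68)),
    (41, (2, 68)),
    (44, (2, 68)),
    (45, (2, 68)),
    (64, (4, 34)),
    (65, (4, 34)),
    (66, (4, 34)),
    (67, (4, 34)),
    (72, (4, 34)),
    (73, (4, 34)),
    (74, (4, 34)),
    (75, (4, 34)),
    (96, (2, 68)),
    (97, (2, 68)),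
    (102, (2, 68)),
    (103, (2, 68)),
    (104, (2, 68)),
    (105, (2, 68)),
    (110, (2, 68)),
    (111, (2, 68)),
    (128, (8, 34)),
    (129, (8, 34)),
    (130, (8, 34)),
    (131, (8, 34)),
    (132, (8, 34)),
    (133, (8, 34)),
    (134, (8, 34)),
    (135, (8, 34)),
    (160, (2, 68)),
    (161, (2, 68)),
    (164, (2, 68)),
    (165, (2, 68)),
    (170, (2, 68)),
    (171, (2, 68)),
    (174, (2, 68)),
    (175, (2, 68)),
    (192, (4, 34)),
    (193, (4, 34)),
    (194, (4, 34)),
    (195, (4, 34)),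
    (204, (4, 34)),
    (205, (4, 34)),
    (206, (4, 34)),
    (207, (4, 34)),
    (224, (2, 68)),
    (225, (2, 68)),
    (230, (2, 68)),
    (231, (2, 68)),
    (234, (2, 68)),
    (235, (2, 68)),
    (236, (2, 68)),
    (237, (2, 68))]

/-- Words centralising `wA` and moving `2` onto the given classes. -/
def orbA : List (V8 × List (V8 × V8)) := [
    (2, []),
    (4, [(6, 96)]),
    (6, [(4, 32)]),
    (32, [(102, 34)]),
    (36, [(96, 38)]),
    (64, [(36, 66)]),
    (66, [(32, 64)]),
    (96, [(36, 70)]),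
    (102, [(32, 68)])]

/-- Words centralising `wC` and moving `42` onto the given classes. -/
def orbC : List (V8 × List (V8 × V8)) := [
    (42, []),
    (46, [(2, 4)]),
    (76, [(6, 96)]),
    (78, [(6, 98)]),
    (106, [(2, 64)]),
    (108, [(2, 68)])]

/-- Generators fixing `pt` and commuting with `wA`. -/
def invWS : List (V8 × V8) := [(9, 101), (3, 65), (9, 98)]

/-- Conjugates the pair `(1, 8)` to `(2, 4)`. -/
def moveT : List (V8 × V8) := [(12, 192), (3, 48)]

/-- An element of order seven fixing `pt`. -/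
def sevenW : List (V8 × V8) := [(96, 39), (32, 192), (104, 131)]

/-- The element moving the central four group for `wA`. -/
def flipA : List (V8 × V8) := [(1, 128), (8, 32)]

/-- The element moving the central four group for `wC`. -/
def flipC : List (V8 × V8) := [(2, 136)]

end CfsgLib.Small.ConTwo
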