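import Cfsg.Agent.Lib.Small.ConTwo.Symm

/-!
The intersection of the centraliser of `z` with the conjugate of `Q` attached to a noncentral
involution of `Q`.
-/

set_option autoImplicit false

namespace CfsgLib.Small.ConTwo

open Equiv

/-- A pair of exchanged conjugates of `z`. -/
structure Swap {G : Type*} [Group G] (z : G) (Q : Subgroup G) (f : G → V8) (u g : G) :
    Prop where
  nc : Nc z Q u
  fu : f u = pt
  gz : g * z * g⁻¹ = u
  zg : g⁻¹ * z * g = u

/-- A power of `u * z`. -/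
def up {G : Type*} [Group G] (z u : G) (b : Bool) : G := if b then u * z else 1

/-- An involution of the intersection acting as `π`. -/
def DInv {G : Type*} [Group G] {z : G} (Q : Subgroup G) (ρ : Cz z →* Perm V8) (g : G)
    (π : Perm V8) : Prop :=
  ∃ x, Img ρ x π ∧ g⁻¹ * x * g ∈ Q ∧ x * x = 1

namespace Model

variable {G : Type*} [Group G] {z : G} {Q : Subgroup G} {f : G → V8}
  {ρ : Cz z →* Perm (V8)} (M : Model z Q f ρ)

include M

theorem exists_Swap : ∃ u g, Swap z Q f u g := by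
  obtain ⟨u, hu, hfu⟩ := M.f_surj pt
  have hnc := M.Nc_of_f hu (hfu ▸ pt_facts.1) (hfu ▸ pt_facts.2.1)
  obtain ⟨g, h1, h2⟩ := M.exists_swap hnc
  exact ⟨u, g, hnc, hfu, h1, h2⟩

variable {u g : G} (W : Swap z Q f u g)

include W

omit M in
theorem swap_ug : g⁻¹ * u * g = z := by
  rw [← W.gz]; group

omit M in
theorem swap_gu : g * u * g⁻¹ = z := by
  rw [← W.zg]; group

omit M in
theorem commute_u_conj {c : G} (hc : c ∈ Cz z) : g * c * g⁻¹ * u = u * (g * c * g⁻¹) := by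
  rw [← W.gz]
  calc g * c * g⁻¹ * (g * z * g⁻¹) = g * (c * z) * g⁻¹ := by group
    _ = _ := by rw [mem_Cz.1 hc]; group

omit M in
theorem conj_mem_Cz {c : G} (hc : c * u = u * c) : g⁻¹ * c * g ∈ Cz z := mem_Cz.2 (by
  rw [← swap_ug W]
  calc g⁻¹ * c * g * (g⁻¹ * u * g) = g⁻¹ * (c * u) * g := by group
    _ = _ := by rw [hc]; group)

omit M in
theorem conj_mem_Cz' {y : G} (hy : y * u = u * y) : g * y * g⁻¹ ∈ Cz z := mem_Cz.2 (by
  rw [← swap_gu W]
  calc g * y * g⁻¹ * (g * u * g⁻¹) = g * (y * u) * g⁻¹ := by group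
    _ = _ := by rw [hy]; group)

theorem D_comm_u {x : G} (hx : g⁻¹ * x * g ∈ Q) : x * u = u * x := by
  have h := commute_u_conj W (M.le hx)
  rwa [show g * (g⁻¹ * x * g) * g⁻¹ = x by group] at h

/-- The intersection of `Q` with its conjugate projects into the line of `u`. -/
theorem R0_f {q : G} (hq : q ∈ Q) (hq' : g⁻¹ * q * g ∈ Q) : f q = 0 ∨ f q = pt := by
  have hsq : ∀ r ∈ Q, g⁻¹ * r * g ∈ Q → qb (f r) = false := by
    intro r hr hr'
    refine Bool.eq_false_iff.2 fun hb => ?_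
    have h1 := M.sq_zp hr'
    rw [show g⁻¹ * r * g * (g⁻¹ * r * g) = g⁻¹ * (r * r) * g by group, M.sq_zp hr, hb, zp_true,
      W.zg] at h1
    cases hb' : qb (f (g⁻¹ * r * g))
    · rw [hb', zp_false] at h1; exact W.nc.2.2.1 h1
    · rw [hb', zp_true] at h1; exact W.nc.2.2.2 h1
  have hbl : ∀ r ∈ Q, g⁻¹ * r * g ∈ Q → ∀ s ∈ Q, g⁻¹ * s * g ∈ Q → bl (f r) (f s) = false := by
    intro r hr hr' s hs hs'
    refine Bool.eq_false_iff.2 fun hb => ?_
    have h1 := congrArg (fun x => g⁻¹ * x * g) (M.comm hr hs)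
    simp only [hb, zp_true] at h1
    rw [show g⁻¹ * (s * r) * g = g⁻¹ * s * g * (g⁻¹ * r * g) by group, M.comm hr' hs',
      show g⁻¹ * (z * (r * s)) * g = g⁻¹ * z * g * (g⁻¹ * r * g * (g⁻¹ * s * g)) by group,
      W.zg, mul_right_cancel_iff] at h1
    cases hb' : bl (f (g⁻¹ * r * g)) (f (g⁻¹ * s * g))
    · rw [hb', zp_false] at h1; exact W.nc.2.2.1 h1.symm
    · rw [hb', zp_true] at h1; exact W.nc.2.2.2 h1.symm
  by_contra hne
  push Not at hne
  have hu' : g⁻¹ * u * g ∈ Q := by rw [swap_ug W]; exact M.z_mem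
  obtain ⟨i, hiok, hi, hb⟩ := move_pt (f q) (W.fu ▸ hbl q hq hq' u W.nc.1 hu') (hsq q hq hq')
    hne.1 hne.2
  obtain ⟨c, hc, hcu⟩ := M.lift_fix W.nc.1 (W.fu ▸ pt_facts.2.1) hiok (by rw [W.fu]; exact hi)
  have h2 : g⁻¹ * (c * q * c⁻¹) * g ∈ Q := by
    have h := M.normal _ (conj_mem_Cz W hcu) _ hq'
    rwa [show g⁻¹ * c * g * (g⁻¹ * q * g) * (g⁻¹ * c * g)⁻¹ = g⁻¹ * (c * q * c⁻¹) * g by group]
      at h
  have h3 := hbl q hq hq' _ (M.normal c hc.mem q hq) h2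
  rw [M.img_conj hc hq, wperm_apply hiok, hb] at h3
  cases h3

theorem D_inj {x x' : G} {π π' : Perm (V8)} (hx : Img ρ x π) (hx' : Img ρ x' π')
    (hq : g⁻¹ * x * g ∈ Q) (hq' : g⁻¹ * x' * g ∈ Q)
    (he : vadd (f (g⁻¹ * x * g)) (f (g⁻¹ * x' * g)) = 0 ∨
      vadd (f (g⁻¹ * x * g)) (f (g⁻¹ * x' * g)) = pt) : π = π' := by
  have hd : g⁻¹ * (x⁻¹ * x') * g ∈ Q := by
    have := mul_mem (inv_mem hq) hq'
    rwa [show (g⁻¹ * x * g)⁻¹ * (g⁻¹ * x' * g) = g⁻¹ * (x⁻¹ * x') * g by group] at this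
  have hfd : f (g⁻¹ * (x⁻¹ * x') * g) = vadd (f (g⁻¹ * x * g)) (f (g⁻¹ * x' * g)) := by
    rw [show g⁻¹ * (x⁻¹ * x') * g = (g⁻¹ * x * g)⁻¹ * (g⁻¹ * x' * g) by group,
      M.f_mul _ (inv_mem hq) _ hq', M.f_inv hq]
  rw [← hfd] at he
  have hin : x⁻¹ * x' ∈ Q := by
    have hxd : x⁻¹ * x' = g * (g⁻¹ * (x⁻¹ * x') * g) * g⁻¹ := by group
    rcases he with h | h
    · rcases (M.f_ker _ hd).1 h with h1 | h1
      · rw [hxd, h1, show g * 1 * g⁻¹ = 1 by group]; exact one_mem Q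
      · rw [hxd, h1, W.gz]; exact W.nc.1
    · rcases M.f_eq W.nc.1 hd (W.fu.trans h.symm) with h1 | h1
      · rw [hxd, h1, swap_gu W]; exact M.z_mem
      · rw [hxd, h1, show g * (u * z) * g⁻¹ = g * u * g⁻¹ * (g * z * g⁻¹) by group, swap_gu W,
          W.gz]
        exact mul_mem M.z_mem W.nc.1
  have h := (hx.inv.mul hx').unique (M.img_q hin)
  rwa [inv_mul_eq_one] at h

theorem D_conj_mem {c x : G} (hcu : c * u = u * c) (hx : g⁻¹ * x * g ∈ Q) :
    g⁻¹ * (c * x * c⁻¹) * g ∈ Q := by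
  have h := M.normal _ (conj_mem_Cz W hcu) _ hx
  rwa [show g⁻¹ * c * g * (g⁻¹ * x * g) * (g⁻¹ * c * g)⁻¹ = g⁻¹ * (c * x * c⁻¹) * g by group]
    at h

theorem D_mul_mem {x y : G} (hx : g⁻¹ * x * g ∈ Q) (hy : g⁻¹ * y * g ∈ Q) :
    g⁻¹ * (x * y) * g ∈ Q := by
  have h := mul_mem hx hy
  rwa [show g⁻¹ * x * g * (g⁻¹ * y * g) = g⁻¹ * (x * y) * g by group] at h

omit M in
theorem gg_mem : g * g ∈ Cz z := mem_Cz.2 (by
  calc g * g * z = g * (g * z * g⁻¹) * g := by group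
    _ = g * u * g⁻¹ * (g * g) := by rw [W.gz]; group
    _ = z * (g * g) := by rw [swap_gu W])

theorem mk_D {y : G} (hy : y ∈ Q) (hb : bl (f y) pt = false) :
    g * y * g⁻¹ ∈ Cz z ∧ g⁻¹ * (g * y * g⁻¹) * g ∈ Q :=
  ⟨conj_mem_Cz' W ((M.commute_iff hy W.nc.1).2 (by rw [W.fu]; exact hb)).symm, by
    rwa [show g⁻¹ * (g * y * g⁻¹) * g = y by group]⟩

theorem D_fy {x : G} (hx : x ∈ Cz z) (hx' : g⁻¹ * x * g ∈ Q) :
    bl (f (g⁻¹ * x * g)) pt = false := by
  have hc : g⁻¹ * x * g * u = u * (g⁻¹ * x * g) := by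
    rw [← W.zg]
    calc g⁻¹ * x * g * (g⁻¹ * z * g) = g⁻¹ * (x * z) * g := by group
      _ = _ := by rw [mem_Cz.1 hx]; group
  have h := (M.commute_iff hx' W.nc.1).1 hc.symm
  rwa [W.fu] at h

theorem D_fy_sing {x : G} (hx' : g⁻¹ * x * g ∈ Q) (h2 : x * x = 1) :
    qb (f (g⁻¹ * x * g)) = false := by
  refine M.zp_inj ?_
  rw [← M.sq_zp hx', zp_false, show g⁻¹ * x * g * (g⁻¹ * x * g) = g⁻¹ * (x * x) * g by group, h2]
  group

theorem D_back {x : G} (hx' : g⁻¹ * x * g ∈ Q) (hxQ : x ∈ Q) :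
    f (g⁻¹ * x * g) = 0 ∨ f (g⁻¹ * x * g) = pt := by
  refine M.R0_f W hx' ?_
  have h := M.normal _ (inv_mem (gg_mem W)) x hxQ
  simp only [mul_inv_rev, inv_inv, mul_assoc] at h ⊢
  exact h

theorem DQ_cases {d : G} (hd : d ∈ Q) (hd' : g⁻¹ * d * g ∈ Q) :
    d = 1 ∨ d = z ∨ d = u ∨ d = u * z := by
  rcases M.R0_f W hd hd' with h | h
  · rcases (M.f_ker d hd).1 h with h | h <;> tauto
  · rcases M.f_eq W.nc.1 hd (W.fu.trans h.symm) with h | h <;> tauto

theorem DQ_comm {d c : G} (hd : d ∈ Q) (hd' : g⁻¹ * d * g ∈ Q) (hc : c ∈ Cz z)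
    (hcu : c * u = u * c) : d * c = c * d := by
  have h1 : Commute c z := mem_Cz.1 hc
  have h2 : Commute c u := hcu
  rcases M.DQ_cases W hd hd' with rfl | rfl | rfl | rfl
  · rw [one_mul, mul_one]
  · exact h1.symm.eq
  · exact h2.symm.eq
  · exact (h2.mul_right h1).symm.eq

theorem DQ_sq {d : G} (hd : d ∈ Q) (hd' : g⁻¹ * d * g ∈ Q) : d * d = 1 := by
  rcases M.DQ_cases W hd hd' with rfl | rfl | rfl | rfl
  · exact one_mul 1
  · exact M.zz
  · exact W.nc.2.1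
  · calc u * z * (u * z) = u * (z * u) * z := by group
      _ = (u * u) * (z * z) := by rw [← mem_Cz.1 (M.le W.nc.1)]; group
      _ = 1 := by rw [W.nc.2.1, M.zz, one_mul]

theorem D_same {x x' : G} {π : Perm V8} (hx : Img ρ x π) (hx' : Img ρ x' π)
    (hq : g⁻¹ * x * g ∈ Q) (hq' : g⁻¹ * x' * g ∈ Q) :
    ∃ d ∈ Q, g⁻¹ * d * g ∈ Q ∧ x' = x * d := by
  obtain ⟨d, hd, rfl⟩ := M.img_same hx hx'
  refine ⟨d, hd, ?_, rfl⟩
  have := mul_mem (inv_mem hq) hq'
  rwa [show (g⁻¹ * x * g)⁻¹ * (g⁻¹ * (x * d) * g) = g⁻¹ * d * g by group] at this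

theorem D_same_f {x x' : G} {π : Perm V8} (hx : Img ρ x π) (hx' : Img ρ x' π)
    (hq : g⁻¹ * x * g ∈ Q) (hq' : g⁻¹ * x' * g ∈ Q) :
    vadd (f (g⁻¹ * x * g)) (f (g⁻¹ * x' * g)) = 0 ∨
      vadd (f (g⁻¹ * x * g)) (f (g⁻¹ * x' * g)) = pt := by
  obtain ⟨d, hd, hd', rfl⟩ := M.D_same W hx hx' hq hq'
  rw [show g⁻¹ * (x * d) * g = g⁻¹ * x * g * (g⁻¹ * d * g) by group, M.f_mul _ hq _ hd',
    vadd_cancel]
  exact M.D_back W hd' hd

theorem D_trans {x : G} {π : Perm V8} (hx : Img ρ x π) (hx' : g⁻¹ * x * g ∈ Q) :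
    ∃ w, bl w pt = false ∧ π = sieP pt w := by
  have hO := M.img_O hx
  have hxu := M.D_comm_u W hx'
  have hpt : π pt = pt := by
    rw [← W.fu, ← M.img_conj hx W.nc.1, hxu, mul_inv_cancel_right]
  have hperp : ∀ v, bl v pt = false → ∃ s : Bool, π v = vadd v (sel s pt) := by
    intro v hv
    obtain ⟨r, hr, rfl⟩ := M.f_surj v
    have hru : r * u = u * r := ((M.commute_iff hr W.nc.1).2 (by rw [W.fu]; exact hv)).symm
    have hrC := conj_mem_Cz W hru
    have hQ : x * r * x⁻¹ * r⁻¹ ∈ Q := mul_mem (M.normal x hx.mem r hr) (inv_mem hr)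
    have hQ' : g⁻¹ * (x * r * x⁻¹ * r⁻¹) * g ∈ Q := by
      have h := mul_mem hx' (M.normal _ hrC _ (inv_mem hx'))
      rwa [show g⁻¹ * x * g * (g⁻¹ * r * g * (g⁻¹ * x * g)⁻¹ * (g⁻¹ * r * g)⁻¹) =
        g⁻¹ * (x * r * x⁻¹ * r⁻¹) * g by group] at h
    have hf : f (x * r * x⁻¹ * r⁻¹) = vadd (π (f r)) (f r) := by
      rw [M.f_mul _ (M.normal x hx.mem r hr) _ (inv_mem hr), M.img_conj hx hr, M.f_inv hr]
    rcases M.R0_f W hQ hQ' with h | h
    · exact ⟨false, by rw [hf] at h; rw [vadd_eq_zero h]; exact (vadd_zero _).symm⟩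
    · refine ⟨true, ?_⟩
      rw [hf] at h
      show π (f r) = vadd (f r) pt
      rw [← h, vadd_comm (π (f r)), vadd_cancel]
  obtain ⟨s1, h1⟩ := hperp (ev 1) (perp_basis.2.1 1 (by decide))
  obtain ⟨s2, h2⟩ := hperp (ev 2) (perp_basis.2.1 2 (by decide))
  obtain ⟨s3, h3⟩ := hperp (ev 3) (perp_basis.2.1 3 (by decide))
  obtain ⟨s5, h5⟩ := hperp (ev 5) (perp_basis.2.1 5 (by decide))
  obtain ⟨s6, h6⟩ := hperp (ev 6) (perp_basis.2.1 6 (by decide))
  obtain ⟨s7, h7⟩ := hperp (ev 7) (perp_basis.2.1 7 (by decide))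
  obtain ⟨c0, d0, d1, d2, d3, d5, d6, d7⟩ := wOfB_spec s1 s2 s3 s5 s6 s7
  have hw : bl (wOfB s1 s2 s3 s5 s6 s7) pt = false := by rw [bl_comm]; exact c0
  refine ⟨_, hw, ?_⟩
  have hσO := sieP_mem pt (wOfB s1 s2 s3 s5 s6 s7)
  have hagree : ∀ j : Fin 8, j ≠ 4 → π (ev j) = sieP pt (wOfB s1 s2 s3 s5 s6 s7) (ev j) := by
    intro j hj
    rw [sieP_apply (sieOK_pt hw), sie_perp _ (perp_basis.2.1 j hj)]
    fin_cases j
    · show π (ev 0) = vadd (ev 0) (sel (bl (ev 0) _) pt)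
      rw [d0, perp_basis.2.2.2, hpt]
      exact (vadd_zero _).symm
    · show π (ev 1) = vadd (ev 1) (sel (bl (ev 1) _) pt)
      rw [d1]; exact h1
    · show π (ev 2) = vadd (ev 2) (sel (bl (ev 2) _) pt)
      rw [d2]; exact h2
    · show π (ev 3) = vadd (ev 3) (sel (bl (ev 3) _) pt)
      rw [d3]; exact h3
    · exact absurd rfl hj
    · show π (ev 5) = vadd (ev 5) (sel (bl (ev 5) _) pt)
      rw [d5]; exact h5
    · show π (ev 6) = vadd (ev 6) (sel (bl (ev 6) _) pt)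
      rw [d6]; exact h6
    · show π (ev 7) = vadd (ev 7) (sel (bl (ev 7) _) pt)
      rw [d7]; exact h7
  have h4 : π (ev 4) = sieP pt (wOfB s1 s2 s3 s5 s6 s7) (ev 4) := by
    generalize hσ : sieP pt (wOfB s1 s2 s3 s5 s6 s7) = σ at hσO hagree
    have horth : ∀ j : Fin 8, j ≠ 4 → bl (vadd (π (ev 4)) (σ (ev 4))) (σ (ev j)) = false := by
      intro j hj
      rw [bl_vadd_left]
      nth_rw 1 [← hagree j hj]
      rw [O_bl hO, O_bl hσO, Bool.xor_self]
    have hσp : σ pt = pt := by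
      have h := hagree 0 (by decide)
      rw [perp_basis.2.2.2, hpt] at h
      exact h.symm
    have hd : ∀ j : Fin 8, j ≠ 4 → bl (vadd (π (ev 4)) (σ (ev 4))) (ev j) = false := by
      intro j hj
      obtain ⟨s, hs⟩ := hperp (ev j) (perp_basis.2.1 j hj)
      have h := horth j hj
      have h0 := horth 0 (by decide)
      rw [perp_basis.2.2.2, hσp] at h0
      rw [← hagree j hj, hs, bl_vadd_right, bl_sel_pt, h0, Bool.and_false, Bool.xor_false] at h
      exact h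
    rcases perp_basis.1 _ hd with h | h
    · exact vadd_eq_zero h
    · exfalso
      have hp : π (ev 4) = vadd (σ (ev 4)) pt := by
        rw [← h, vadd_comm (π (ev 4)), vadd_cancel]
      have hq := O_q hO (ev 4)
      rw [hp, qb_vadd, O_q hσO, pt_facts.1, Bool.xor_false] at hq
      nth_rw 1 [← hσp] at hq
      rw [O_bl hσO, perp_basis.2.2.1] at hq
      revert hq
      cases qb (ev 4) <;> decide
  exact O_ext hO hσO fun j => by
    by_cases hj : j = 4
    · subst hj; exact h4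
    · exact hagree j hj

theorem DInv_conj {c : G} {π σ : Perm V8} (hc : Img ρ c σ) (hcu : c * u = u * c)
    (h : DInv Q ρ g π) : DInv Q ρ g (σ * π * σ⁻¹) := by
  obtain ⟨x, hx, hx', h2⟩ := h
  refine ⟨c * x * c⁻¹, hx.conj hc, M.D_conj_mem W hcu hx', ?_⟩
  calc c * x * c⁻¹ * (c * x * c⁻¹) = c * (x * x) * c⁻¹ := by group
    _ = 1 := by rw [h2]; group

/-- The stabiliser of `u` is transitive on the translations of each type. -/
theorem orbit_move {w : V8} (hw : bl w pt = false) (h0 : w ≠ 0) (h1 : w ≠ pt) :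
    ∃ c σ, Img ρ c σ ∧ c * u = u * c ∧ σ pt = pt ∧
      (σ w = (if qb w then 136 else 8) ∨ σ w = vadd (if qb w then 136 else 8) pt) ∧
      σ * sieP pt w * σ⁻¹ = sieP pt (if qb w then 136 else 8) := by
  obtain ⟨l, hl, hlp, hlw⟩ := stab_orbit w hw h0 h1
  obtain ⟨c, hc, hcu⟩ := M.lift_fix W.nc.1 (W.fu ▸ pt_facts.2.1) hl (by rw [W.fu]; exact hlp)
  refine ⟨c, _, hc, hcu, by rw [wperm_apply hl, hlp], by rwa [wperm_apply hl], ?_⟩
  rw [O_sieP (wperm_mem_O l) (sieOK_pt hw), wperm_apply hl, wperm_apply hl, hlp]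
  have ht : bl (if qb w then (136 : V8) else 8) pt = false := by cases qb w <;> decide +kernel
  rcases hlw with h | h <;> rw [h]
  exact sieP_add_pt ht

omit M W in
theorem rep_class {v : V8} {L : List V8} (h : v ∈ L ∨ vadd v pt ∈ L) :
    ∃ i : Fin L.length, vadd v L[i] = 0 ∨ vadd v L[i] = pt := by
  rcases h with h | h <;> obtain ⟨n, hn, he⟩ := List.getElem_of_mem h
  · exact ⟨⟨n, hn⟩, Or.inl (by show vadd v L[n] = 0; rw [he, vadd_self])⟩
  · exact ⟨⟨n, hn⟩, Or.inr (by show vadd v L[n] = pt; rw [he, vadd_cancel])⟩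

omit M W in
theorem class_eq {a b c : V8} (ha : vadd a c = 0 ∨ vadd a c = pt)
    (hb : vadd b c = 0 ∨ vadd b c = pt) : vadd a b = 0 ∨ vadd a b = pt := by
  have h : vadd a b = vadd (vadd a c) (vadd b c) := by rw [vadd_four, vadd_self, vadd_zero]
  rw [h]
  rcases ha with ha | ha <;> rcases hb with hb | hb <;> rw [ha, hb] <;>
    simp [vadd_self, vadd_zero, zero_vadd]

omit M W in
theorem class_zero {a : V8} (h : vadd a 0 = 0 ∨ vadd a 0 = pt) : a = 0 ∨ a = pt := by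
  rwa [vadd_zero] at h

theorem DInv_of_target {w : V8} (hw : bl w pt = false) (h0 : w ≠ 0) (h1 : w ≠ pt)
    (h : DInv Q ρ g (sieP pt (if qb w then 136 else 8))) : DInv Q ρ g (sieP pt w) := by
  obtain ⟨c, σ, hc, hcu, -, -, he⟩ := M.orbit_move W hw h0 h1
  have h' := M.DInv_conj W hc.inv ((show Commute c u from hcu).inv_left).eq h
  rw [← he] at h'
  simpa [mul_assoc] using h'

/-- An involution of the intersection over every singular class. -/
theorem exists_over {a : V8} (ha : a ∈ repsS) :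
    ∃ x w, Img ρ x (sieP pt w) ∧ g⁻¹ * x * g ∈ Q ∧ x * x = 1 ∧ f (g⁻¹ * x * g) = a ∧
      bl w pt = false ∧ w ≠ 0 ∧ w ≠ pt := by
  obtain ⟨hb, hs, h0, h1⟩ := reps_spec.2.2.2.1 a ha
  obtain ⟨y, hy, hfy⟩ := M.f_surj a
  obtain ⟨hxC, hxQ⟩ := M.mk_D W hy (by rw [hfy]; exact hb)
  obtain ⟨w, hw, he⟩ := M.D_trans W (Img.mk' (ρ := ρ) hxC) hxQ
  have hI : Img ρ (g * y * g⁻¹) (sieP pt w) := ⟨hxC, he⟩
  have hfy' : f (g⁻¹ * (g * y * g⁻¹) * g) = a := by
    rw [show g⁻¹ * (g * y * g⁻¹) * g = y by group, hfy]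
  have hne : sieP pt w ≠ 1 := fun e => by
    rcases M.D_back W hxQ (M.img_one_mem (e ▸ hI)) with h | h <;> rw [hfy'] at h
    · exact h0 h
    · exact h1 h
  refine ⟨_, w, hI, hxQ, ?_, hfy', hw, fun e => hne (by rw [e]; exact sieP_zero),
    fun e => hne ?_⟩
  · rw [show g * y * g⁻¹ * (g * y * g⁻¹) = g * (y * y) * g⁻¹ by group, M.sq_zp hy, hfy, hs,
      zp_false]
    group
  · rw [e]
    exact sieP_pt

theorem not_DInv_136 : ¬ DInv Q ρ g (sieP pt 136) := by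
  intro hN
  by_cases hS : DInv Q ρ g (sieP pt 8)
  · let R := repsS ++ repsN
    have hR : ∀ i : Fin R.length, bl R[i] pt = false ∧ R[i] ≠ 0 ∧ R[i] ≠ pt := by
      intro i
      rcases List.mem_append.1 (List.getElem_mem i.2) with h | h
      · exact ⟨(reps_spec.2.2.2.1 _ h).1, (reps_spec.2.2.2.1 _ h).2.2⟩
      · exact ⟨(reps_spec.2.2.2.2.1 _ h).1, (reps_spec.2.2.2.2.1 _ h).2.2⟩
    have hx : ∀ i : Fin R.length, DInv Q ρ g (sieP pt R[i]) := fun i =>
      M.DInv_of_target W (hR i).1 (hR i).2.1 (hR i).2.2 (by split <;> assumption)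
    choose x hxI hxQ hx2 using hx
    have hcl : ∀ i, ∃ r : Fin repsS.length,
        vadd (f (g⁻¹ * x i * g)) repsS[r] = 0 ∨ vadd (f (g⁻¹ * x i * g)) repsS[r] = pt := by
      intro i
      have hout : ¬ (f (g⁻¹ * x i * g) = 0 ∨ f (g⁻¹ * x i * g) = pt) := by
        intro h
        have h' := M.D_inj W (hxI i) (M.img_q (one_mem Q)) (hxQ i) (by simp) (by
          rwa [show g⁻¹ * 1 * g = (1 : G) by group, M.f_one, vadd_zero])
        rw [← sieP_zero] at h'
        exact (sieP_eq (hR i).1 (by decide +kernel) h').elim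
          (fun h => (hR i).2.1 (by rwa [vadd_zero] at h))
          (fun h => (hR i).2.2 (by rwa [vadd_zero] at h))
      refine rep_class ?_
      have h := reps_cover _ (M.D_fy W (hxI i).mem (hxQ i)) (fun e => hout (Or.inl e))
        (fun e => hout (Or.inr e))
      rwa [M.D_fy_sing W (hxQ i) (hx2 i)] at h
    choose r hr using hcl
    have hinj : Function.Injective r := fun i k hik => by
      have hπ := M.D_inj W (hxI i) (hxI k) (hxQ i) (hxQ k)
        (class_eq (hr i) (hik ▸ hr k))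
      have hab := reps_spec.2.2.2.2.2 _ (List.getElem_mem i.2) _ (List.getElem_mem k.2)
        (sieP_eq (hR i).1 (hR k).1 hπ)
      exact Fin.ext (reps_spec.2.2.1.getElem_inj_iff.1 hab)
    have h := Fintype.card_le_of_injective r hinj
    simp only [Fintype.card_fin, R, List.length_append, reps_spec.1, reps_spec.2.1] at h
    omega
  · have hx : ∀ a : Fin repsS.length, ∃ x w, Img ρ x (sieP pt w) ∧ g⁻¹ * x * g ∈ Q ∧
        f (g⁻¹ * x * g) = repsS[a] ∧ ∃ n : Fin repsN.length,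
          sieP pt w = sieP pt repsN[n] := by
      intro a
      obtain ⟨x, w, hxI, hxQ, h2, hf, hw, h0, h1⟩ := M.exists_over W (List.getElem_mem a.2)
      refine ⟨x, w, hxI, hxQ, hf, ?_⟩
      have hq : qb w = true := Bool.not_eq_false _ ▸ fun hq => hS (by
        obtain ⟨c, σ, hc, hcu, -, -, he⟩ := M.orbit_move W hw h0 h1
        have h := M.DInv_conj W hc hcu ⟨x, hxI, hxQ, h2⟩
        rw [he, hq] at h
        exact h)
      have h := reps_cover w hw h0 h1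
      simp only [hq, if_true] at h
      rcases h with h | h <;> obtain ⟨n, hn, he⟩ := List.getElem_of_mem h
      · exact ⟨⟨n, hn⟩, by show _ = sieP pt repsN[n]; rw [he]⟩
      · exact ⟨⟨n, hn⟩, by show _ = sieP pt repsN[n]; rw [he, sieP_add_pt hw]⟩
    choose x w hxI hxQ hf n hn using hx
    have hinj : Function.Injective n := fun i k hik => by
      have hI : Img ρ (x k) (sieP pt (w i)) := by
        rw [hn i, hik, ← hn k]; exact hxI k
      have h := M.D_same_f W (hxI i) hI (hxQ i) (hxQ k)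
      rw [hf, hf] at h
      have hab := reps_spec.2.2.2.2.2 _ (List.mem_append_left _ (List.getElem_mem i.2))
        _ (List.mem_append_left _ (List.getElem_mem k.2)) h
      exact Fin.ext ((List.Nodup.of_append_left reps_spec.2.2.1).getElem_inj_iff.1 hab)
    have h := Fintype.card_le_of_injective n hinj
    simp only [Fintype.card_fin, reps_spec.1, reps_spec.2.1] at h
    omega

/-- Involutions of the intersection outside `Q` lie over singular translations. -/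
theorem D_sing {x : G} {w : V8} (hx : Img ρ x (sieP pt w)) (hx' : g⁻¹ * x * g ∈ Q)
    (h2 : x * x = 1) (hw : bl w pt = false) (h0 : w ≠ 0) (h1 : w ≠ pt) : qb w = false := by
  refine Bool.eq_false_iff.2 fun hq => M.not_DInv_136 W ?_
  obtain ⟨c, σ, hc, hcu, -, -, he⟩ := M.orbit_move W hw h0 h1
  have h := M.DInv_conj W hc hcu ⟨x, hx, hx', h2⟩
  rwa [he, hq] at h

theorem DInv_eight : DInv Q ρ g (sieP pt 8) := by
  obtain ⟨a, l, hl⟩ : ∃ a l, repsS = a :: l :=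
    List.exists_cons_of_ne_nil fun e => by simpa [e] using reps_spec.1
  obtain ⟨x, w, hxI, hxQ, h2, -, hw, h0, h1⟩ := M.exists_over W (a := a) (by rw [hl]; simp)
  obtain ⟨c, σ, hc, hcu, -, -, he⟩ := M.orbit_move W hw h0 h1
  have h := M.DInv_conj W hc hcu ⟨x, hxI, hxQ, h2⟩
  rwa [he, M.D_sing W hxI hxQ h2 hw h0 h1] at h

theorem DInv_sing {w : V8} (hw : bl w pt = false) (hq : qb w = false) :
    DInv Q ρ g (sieP pt w) := by
  by_cases h0 : w = 0
  · exact ⟨1, by rw [h0, sieP_zero]; exact Img.one, by simp, one_mul 1⟩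
  by_cases h1 : w = pt
  · refine ⟨1, ?_, by simp, one_mul 1⟩
    rw [h1, sieP_pt]
    exact Img.one
  exact M.DInv_of_target W hw h0 h1 (by rw [hq]; exact M.DInv_eight W)

/-- Elements of the intersection over singular translations are involutions. -/
theorem D_sq {x : G} {w : V8} (hx : Img ρ x (sieP pt w)) (hx' : g⁻¹ * x * g ∈ Q)
    (hw : bl w pt = false) (hq : qb w = false) : x * x = 1 := by
  obtain ⟨x0, h0, h0', h02⟩ := M.DInv_sing W hw hq
  obtain ⟨d, hd, hd', rfl⟩ := M.D_same W h0 hx h0' hx'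
  calc x0 * d * (x0 * d) = x0 * (d * x0) * d := by group
    _ = (x0 * x0) * (d * d) := by rw [M.DQ_comm W hd hd' h0.mem (M.D_comm_u W h0')]; group
    _ = 1 := by rw [h02, M.DQ_sq W hd hd', one_mul]

theorem exists_sq : ∃ x, Img ρ x (sieP pt 136) ∧ g⁻¹ * x * g ∈ Q ∧ x * x = u := by
  obtain ⟨a, ha, ha', -⟩ := M.DInv_sing W (w := 8) (by decide +kernel) (by decide +kernel)
  obtain ⟨b, hb, hb', -⟩ := M.DInv_sing W (w := 128) (by decide +kernel) (by decide +kernel)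
  have hI : Img ρ (a * b) (sieP pt 136) := by
    have h := ha.mul hb
    rwa [sieP_mul (by decide +kernel) (by decide +kernel), show vadd 8 128 = (136 : V8) by decide +kernel] at h
  have hD := M.D_mul_mem W ha' hb'
  refine ⟨_, hI, hD, ?_⟩
  have h1 := M.sq_zp hD
  cases hq : qb (f (g⁻¹ * (a * b) * g)) <;> rw [hq] at h1
  · refine absurd ⟨a * b, hI, hD, ?_⟩ (M.not_DInv_136 W)
    rw [zp_false] at h1
    calc a * b * (a * b) = g * (g⁻¹ * (a * b) * g * (g⁻¹ * (a * b) * g)) * g⁻¹ := by group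
      _ = 1 := by rw [h1]; group
  · rw [zp_true] at h1
    calc a * b * (a * b) = g * (g⁻¹ * (a * b) * g * (g⁻¹ * (a * b) * g)) * g⁻¹ := by group
      _ = u := by rw [h1, W.gz]

end Model

end CfsgLib.Small.ConTwo
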