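import Cfsg.Agent.Lib.Small.ConTwo.Data

/-!
Finite checks on vectors of the orthogonal space of plus type in dimension eight.
-/

set_option autoImplicit false
set_option maxRecDepth 100000
set_option maxHeartbeats 0

namespace CfsgLib.Small.ConTwo

attribute [local instance 10000] List.decidableBAll

/-- The words commute as maps on the basis. -/
def commB (l m : List (V8 × V8)) : Bool :=
  (List.finRange 8).all fun j => wap l (wap m (ev j)) == wap m (wap l (ev j))

theorem trans_check : (List.finRange 256).all (fun v : V8 => qb v || v == 0 ||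
    transW.any fun x => x.1 == v && (decide (WordOK x.2) && wap x.2 v == pt)) = true := by
  decide +kernel

theorem trans_pt (v : V8) (hs : qb v = false) (h0 : v ≠ 0) :
    ∃ l, WordOK l ∧ wap l v = pt := by
  have h := List.all_eq_true.1 trans_check v (List.mem_finRange v)
  simp only [hs, Bool.false_or, Bool.or_eq_true, beq_iff_eq, h0, false_or, List.any_eq_true,
    Bool.and_eq_true, decide_eq_true_eq] at h
  obtain ⟨x, -, -, h1, h2⟩ := h
  exact ⟨x.2, h1, h2⟩

theorem stab_check : (List.finRange 256).all (fun v : V8 => bl v pt || v == 0 || v == pt ||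
    (if qb v then nonsW else singW).any fun x => (x.1 == v || vadd x.1 pt == v) &&
      (decide (WordOK x.2) && (wap x.2 pt == pt &&
        (wap x.2 v == (if qb v then 136 else 8) ||
          wap x.2 v == vadd (if qb v then 136 else 8) pt)))) = true := by
  decide +kernel

theorem stab_orbit (v : V8) (hp : bl v pt = false) (h0 : v ≠ 0) (h1 : v ≠ pt) :
    ∃ l, WordOK l ∧ wap l pt = pt ∧ (wap l v = (if qb v then 136 else 8) ∨
      wap l v = vadd (if qb v then 136 else 8) pt) := by
  have h := List.all_eq_true.1 stab_check v (List.mem_finRange v)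
  simp only [hp, Bool.false_or, Bool.or_eq_true, beq_iff_eq, h0, h1, false_or, List.any_eq_true,
    Bool.and_eq_true, decide_eq_true_eq] at h
  obtain ⟨x, -, -, e1, e2, e3⟩ := h
  exact ⟨x.2, e1, e2, e3⟩

theorem move_check : (List.finRange 256).all (fun v : V8 => bl v pt || qb v || v == 0 || v == pt ||
    moveW.any fun x => x.1 == v && (decide (SieOK x.2) && (sie x.2.1 x.2.2 pt == pt &&
      bl v (sie x.2.1 x.2.2 v)))) = true := by
  decide +kernel

theorem move_pt (v : V8) (hp : bl v pt = false) (hs : qb v = false) (h0 : v ≠ 0) (h1 : v ≠ pt) :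
    ∃ l, WordOK l ∧ wap l pt = pt ∧ bl v (wap l v) = true := by
  have h := List.all_eq_true.1 move_check v (List.mem_finRange v)
  simp only [hp, hs, Bool.false_or, Bool.or_eq_true, beq_iff_eq, h0, h1, false_or,
    List.any_eq_true, Bool.and_eq_true, decide_eq_true_eq] at h
  obtain ⟨x, -, -, e1, e2, e3⟩ := h
  exact ⟨[x.2], by simpa [WordOK] using e1, e2, e3⟩

theorem pt_facts : qb pt = false ∧ pt ≠ 0 ∧ bl pt pt = false := by decide +kernel

theorem perp_pair : ∃ v w : V8, bl v pt = false ∧ bl w pt = false ∧ qb v = false ∧ qb w = false ∧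
    bl v w = true := ⟨2, 32, by decide +kernel⟩

/-- The translation with given products against the basis of `pt⊥`. -/
def wOfB (s1 s2 s3 s5 s6 s7 : Bool) : V8 :=
  vadd (vadd (vadd (sel s1 32) (sel s2 64)) (vadd (sel s3 128) (sel s5 2)))
    (vadd (sel s6 4) (sel s7 8))

theorem wOfB_spec : ∀ s1 s2 s3 s5 s6 s7 : Bool, let w := wOfB s1 s2 s3 s5 s6 s7
    bl pt w = false ∧ bl (ev 0) w = false ∧ bl (ev 1) w = s1 ∧ bl (ev 2) w = s2 ∧
      bl (ev 3) w = s3 ∧ bl (ev 5) w = s5 ∧ bl (ev 6) w = s6 ∧ bl (ev 7) w = s7 := by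
  decide +kernel

theorem perp_basis : (∀ d : V8, (∀ j : Fin 8, j ≠ 4 → bl d (ev j) = false) → d = 0 ∨ d = pt) ∧
    (∀ j : Fin 8, j ≠ 4 → bl (ev j) pt = false) ∧ bl (ev 4) pt = true ∧ ev 0 = pt := by
  decide +kernel

theorem sie_sum : (∀ v, sie pt 8 (sie pt 128 v) = sie pt 136 v) ∧ bl 8 128 = true ∧
    SieOK (pt, 8) ∧ SieOK (pt, 128) ∧ SieOK (pt, 136) ∧ qb 8 = false ∧ qb 128 = false ∧
    qb 136 = true := by
  decide +kernel

/-- Representatives of the singular classes. -/
def repsS : List V8 := singW.map Prod.fst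

/-- Representatives of the nonsingular classes. -/
def repsN : List V8 := nonsW.map Prod.fst

theorem reps_cover : ∀ v : V8, bl v pt = false → v ≠ 0 → v ≠ pt →
    v ∈ (if qb v then repsN else repsS) ∨ vadd v pt ∈ (if qb v then repsN else repsS) := by
  decide +kernel

theorem reps_spec : repsS.length = 35 ∧ repsN.length = 28 ∧ (repsS ++ repsN).Nodup ∧
    (∀ a ∈ repsS, bl a pt = false ∧ qb a = false ∧ a ≠ 0 ∧ a ≠ pt) ∧
    (∀ a ∈ repsN, bl a pt = false ∧ qb a = true ∧ a ≠ 0 ∧ a ≠ pt) ∧
    ∀ a ∈ repsS ++ repsN, ∀ b ∈ repsS ++ repsN,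
      vadd a b = 0 ∨ vadd a b = pt → a = b := by
  decide +kernel

theorem invWS_ok : ∀ x ∈ invWS, WordOK [x] ∧ wap [x] pt = pt ∧
    (wap [x] 8 = 8 ∨ wap [x] 8 = vadd 8 pt) := by
  decide +kernel

theorem inv_func : ∀ a : V8, bl a pt = false →
    (∀ x ∈ invWS, ∀ j : Fin 8, j ≠ 4 → bl a (wap [x] (ev j)) = bl a (ev j)) →
    a = 0 ∨ a = pt ∨ a = 8 ∨ a = vadd 8 pt := by
  decide +kernel

theorem singS_span : ∀ d : V8, (∀ a ∈ repsS, bl d a = false) → bl d pt = false →
    d = 0 ∨ d = pt := by
  decide +kernel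

/-! ### The element of order seven -/

/-- Its two irreducible kernels. -/
def inK (b : Bool) (v : V8) : Bool :=
  let e := wap sevenW
  vadd (e (e (e v))) (vadd (if b then e (e v) else e v) v) == 0

/-- The nonsingular fixed vector. -/
def seven_h : V8 :=
  ((List.finRange 256).find? fun v => qb v && wap sevenW v == v).getD 0

theorem seven_ok : WordOK sevenW ∧ wap sevenW pt = pt ∧ (∃ v, wap sevenW v ≠ v) ∧
    ∀ v, wap sevenW (wap sevenW (wap sevenW (wap sevenW (wap sevenW (wap sevenW
      (wap sevenW v)))))) = v := by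
  decide +kernel

theorem seven_h_spec : qb seven_h = true ∧ wap sevenW seven_h = seven_h ∧
    ∀ v, qb v = true → wap sevenW v = v → v = seven_h := by
  decide +kernel

theorem seven_cyclic : ∀ b : Bool, ∀ u, inK b u = true → u ≠ 0 → ∀ v, inK b v = true →
    v = 0 ∨ ∃ k : Fin 7, (wap sevenW)^[k.val] u = v := by
  decide +kernel

theorem seven_perp : ∀ d : V8, bl d seven_h = false →
    (∀ b : Bool, ∀ k, inK b k = true → bl d k = false) → d = 0 ∨ d = seven_h := by
  decide +kernel

end CfsgLib.Small.ConTwo
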