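import Cfsg.Agent.Lib.Small.ConTwo.Facts
import Cfsg.Agent.Lib.Small.ConTwo.Invol

/-!
Finite checks on the five representatives and the central four groups.
-/

set_option autoImplicit false
set_option maxRecDepth 100000
set_option maxHeartbeats 0

namespace CfsgLib.Small.ConTwo

attribute [local instance 10000] List.decidableBAll

/-- Basis and dual vectors of the fixed space of a representative, and the commutator space. -/
structure RepData (l : List (V8 × V8)) (L : List V8) (B : List (V8 × V8)) : Prop where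
  ok : WordOK l
  invol : ∀ v, wap l (wap l v) = v
  basis : ∀ x ∈ B, wap l x.1 = x.1
  mem_L : ∀ v, vadd v (wap l v) ∈ L
  L_mem : ∀ x ∈ L, ∃ v, vadd v (wap l v) = x
  perp : ∀ x, (∀ y ∈ B, bl x y.1 = false) → x ∈ L
  two : ∃ v w, vadd v (wap l v) ≠ 0 ∧ vadd w (wap l w) ≠ 0 ∧ vadd v (wap l v) ≠ vadd w (wap l w)

/-- Commutator space of `wA`. -/
def LA : List V8 := [0, 1, 8, 9]

/-- Commutator space of `wC`. -/
def LC : List V8 := [0, 1, 136, 137]

/-- Commutator space of `wF`. -/
def LF : List V8 := [0, 1, 2, 3, 4, 5, 6, 7, 8, 9, 10, 11, 12, 13, 14, 15]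

/-- Commutator space of `wF'`. -/
def LF' : List V8 :=
  [0, 1, 2, 3, 4, 5, 6, 7, 128, 129, 130, 131, 132, 133, 134, 135]

/-- Commutator space of `wE`. -/
def LE : List V8 :=
  [0, 1, 2, 3, 4, 5, 6, 7, 136, 137, 138, 139, 140, 141, 142, 143]

/-- Bases for `wA`. -/
def BA : List (V8 × V8) := [(1, 16), (2, 32), (4, 64), (8, 128), (32, 2), (64, 4)]

/-- Bases for `wC`. -/
def BC : List (V8 × V8) := [(1, 16), (2, 32), (4, 64), (32, 2), (64, 4), (136, 8)]

/-- Bases for `wF`. -/
def BF : List (V8 × V8) := [(1, 16), (2, 32), (4, 64), (8, 128)]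

/-- Bases for `wF'`. -/
def BF' : List (V8 × V8) := [(1, 16), (2, 32), (4, 64), (128, 8)]

/-- Bases for `wE`. -/
def BE : List (V8 × V8) := [(1, 16), (2, 32), (4, 64), (136, 8)]

theorem dataA : RepData wA LA BA :=
  ⟨by decide +kernel, by decide +kernel, by decide +kernel, by decide +kernel, by decide +kernel,
    by decide +kernel, by decide +kernel⟩

theorem dataC : RepData wC LC BC :=
  ⟨by decide +kernel, by decide +kernel, by decide +kernel, by decide +kernel, by decide +kernel,
    by decide +kernel, by decide +kernel⟩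

theorem dataF : RepData wF LF BF :=
  ⟨by decide +kernel, by decide +kernel, by decide +kernel, by decide +kernel, by decide +kernel,
    by decide +kernel, by decide +kernel⟩

theorem dataF' : RepData wF' LF' BF' :=
  ⟨by decide +kernel, by decide +kernel, by decide +kernel, by decide +kernel, by decide +kernel,
    by decide +kernel, by decide +kernel⟩

theorem dataE : RepData wE LE BE :=
  ⟨by decide +kernel, by decide +kernel, by decide +kernel, by decide +kernel, by decide +kernel,
    by decide +kernel, by decide +kernel⟩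

theorem rankTwo_L : (∀ x ∈ LA, qb x = false) ∧ qb 136 = true ∧ (136 : V8) ∈ LC := by
  decide +kernel

theorem rankFour : ∀ v, (wap wF v = v → v ∈ LF) ∧ (wap wF' v = v → v ∈ LF') ∧
    (wap wE v = v → v ∈ LE) := by
  decide +kernel

theorem four_sum : ∀ v, wap wF v = sie pt 8 (wap [(2, 4)] v) ∧
    wap wF' v = sie pt 128 (wap [(2, 4)] v) ∧ wap wE v = sie pt 136 (wap [(2, 4)] v) := by
  decide +kernel

theorem four_comm : ∀ w : V8, (w = 8 ∨ w = 128 ∨ w = 136) →
    (sie pt w 2 = 2 ∧ sie 2 4 pt = pt ∧ sie 2 4 w = w) ∧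
      ∀ j : Fin 8, sie pt w (sie 2 4 (ev j)) = sie 2 4 (sie pt w (ev j)) := by
  decide +kernel

theorem four_fix : ∀ v, (wap wF v = v → qb v = false ∧ sie pt 8 v = v ∧ sie 2 4 v = v) ∧
    (wap wF' v = v → qb v = false ∧ sie pt 128 v = v ∧ sie 2 4 v = v) := by
  decide +kernel

theorem moveT_ok : WordOK moveT ∧ wap moveT pt = 2 ∧ wap moveT 8 = 4 := by decide +kernel

theorem wE_facts : (∀ w, bl w pt = false → qb (vadd w (wap wE w)) = false) ∧
    wap wE 136 = 136 ∧ wap wE pt = pt := by
  decide +kernel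

theorem wE_noncanonical : ∀ p : V8, qb p = false → wap wE p = p → p ≠ 0 →
    (∀ w, bl w p = false → qb (vadd w (wap wE w)) = false) →
    ∀ v, vadd v (wap wE v) = p → qb v = false := by
  decide +kernel

theorem orbA_check : (List.finRange 256).all (fun v : V8 => wap wA v != v || qb v ||
    LA.contains v || orbA.any fun x => decide (WordOK x.2) &&
      (commB x.2 wA && LA.contains (vadd (wap x.2 2) v))) = true := by
  decide +kernel

theorem orbA_spec (v : V8) (hf : wap wA v = v) (hs : qb v = false) (hL : v ∉ LA) :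
    ∃ l, WordOK l ∧ commB l wA = true ∧ vadd (wap l 2) v ∈ LA := by
  have h := List.all_eq_true.1 orbA_check v (List.mem_finRange v)
  simp only [hf, hs, bne_self_eq_false, Bool.false_or, Bool.or_eq_true, List.contains_iff_mem,
    hL, false_or, List.any_eq_true, Bool.and_eq_true, decide_eq_true_eq] at h
  obtain ⟨x, -, h1, h2, h3⟩ := h
  exact ⟨x.2, h1, h2, h3⟩

theorem orbC_check : (List.finRange 256).all (fun v : V8 => wap wC v != v || !qb (vadd 42 v) ||
    orbC.any fun x => decide (WordOK x.2) &&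
      (commB x.2 wC && LC.contains (vadd (wap x.2 42) (vadd 42 v)))) = true := by
  decide +kernel

theorem orbC_spec (v : V8) (hf : wap wC v = v) (hs : qb (vadd 42 v) = true) :
    ∃ l, WordOK l ∧ commB l wC = true ∧ vadd (wap l 42) (vadd 42 v) ∈ LC := by
  have h := List.all_eq_true.1 orbC_check v (List.mem_finRange v)
  simp only [hf, hs, bne_self_eq_false, Bool.not_true, Bool.false_or, Bool.or_eq_true,
    List.contains_iff_mem, List.any_eq_true, Bool.and_eq_true, decide_eq_true_eq] at h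
  obtain ⟨x, -, h1, h2, h3⟩ := h
  exact ⟨x.2, h1, h2, h3⟩

/-! ### The central four groups -/

/-- Basis of the centralised part of the fixed space of `wA`. -/
def WK : List V8 := [1, 2, 4, 8, 64]

/-- Basis of the centralised part of the fixed space of `wC`. -/
def WB : List V8 := [1, 4, 34, 64, 138]

/-- The radical for `wA`. -/
def R3 : List V8 := [0, 1, 2, 3, 8, 9, 10, 11]

theorem WK_facts : (∀ v ∈ WK, wap wA v = v ∧ bl 2 v = false) ∧
    (∀ d, (∀ v ∈ WK, bl d v = false) → d ∈ R3) ∧ (∀ d ∈ R3, qb d = false) ∧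
    wap wA 2 = 2 ∧ qb 2 = false ∧ bl 2 pt = false ∧ (2 : V8) ∉ LA ∧ (∃ v, wap wA v = v ∧ bl 2 v = true) := by
  decide +kernel

theorem WB_facts : (∀ v ∈ WB, wap wC v = v ∧ bl 42 v = false) ∧
    (∀ d, (∀ v ∈ WB, bl d v = false) → qb d = false → d = 0 ∨ d = pt) ∧
    vadd 42 (wap wC 42) = pt ∧ bl 42 pt = false ∧ qb 42 = true ∧
      (∃ v, wap wC v = v ∧ bl 42 v = true) := by
  decide +kernel

theorem flipA_ok : WordOK flipA ∧ commB flipA wA = true ∧ vadd (wap flipA 2) 2 ∈ LA ∧
    wap flipA pt = pt ∧ vadd 128 (wap wA 128) = pt ∧ bl 2 (vadd 128 (wap flipA 128)) = true ∧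
    (∀ v, wap flipA (wap flipA (wap flipA (wap flipA v))) = v) ∧
    (∀ v ∈ R3, wap flipA v = v → v = 0 ∨ v = pt) := by
  decide +kernel

theorem flipA_pairs : ∀ a ∈ R3, ∀ b ∈ R3, a ≠ 0 → b ≠ 0 → a ≠ b →
      wap flipA a ∈ [a, b, vadd a b] → wap flipA b ∈ [a, b, vadd a b] →
        ∀ j : Fin 8, sie a b (ev j) = wap wA (ev j) := by
  decide +kernel

theorem flipC_ok : WordOK flipC ∧ commB flipC wC = true ∧ vadd (wap flipC 42) 42 ∈ LC ∧
    wap flipC pt = pt ∧ vadd 8 (wap wC 8) = pt ∧ bl 42 (vadd 8 (wap flipC 8)) = true ∧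
    ∀ v, wap flipC (wap flipC v) = v := by
  decide +kernel

/-- The transvection at a vector. -/
def tr (a v : V8) : V8 := vadd v (sel (bl v a) a)

theorem tr_facts : qb 42 = true ∧ qb 136 = true ∧ (∀ v ∈ WB, tr 42 (tr 136 v) = v) ∧
    (∀ v, tr 42 (tr 136 (tr 42 (tr 136 (tr 42 (tr 136 v))))) = v) ∧
    ∃ v, tr 42 (tr 136 v) ≠ v := by
  decide +kernel

theorem optsK : (oOpts 16 WK).length * (oOpts 32 (16 :: WK)).length *
      (oOpts 128 (32 :: 16 :: WK)).length ≤ 8 ∧
    ∀ d, (∀ f ∈ 128 :: 32 :: 16 :: WK, bl d f = false) → d = 0 := by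
  decide +kernel

theorem optsB : (oOpts 16 WB).length * (oOpts 2 (16 :: WB)).length *
      (oOpts 8 (2 :: 16 :: WB)).length ≤ 24 ∧
    ∀ d, (∀ f ∈ 8 :: 2 :: 16 :: WB, bl d f = false) → d = 0 := by
  decide +kernel

/-- The vectors orthogonal to a list. -/
def perpL (W : List V8) : List V8 :=
  (List.finRange 256).filter fun d => W.all fun v => bl d v == false

theorem perpL_small : (perpL WK).length ≤ 8 ∧ (perpL WB).length ≤ 8 := by decide +kernel

theorem four_lists : (LF.Nodup ∧ LF.length = 16) ∧ (LF'.Nodup ∧ LF'.length = 16) ∧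
    LE.Nodup ∧ LE.length = 16 := by
  decide +kernel

theorem fix16 : ∀ l ∈ reps,
    16 ≤ ((List.finRange 256).filter fun v => wap l v == v).length := by
  decide +kernel

theorem K_shift : ∀ l ∈ LA, vadd 2 l ∈ R3 ∧ vadd 2 l ≠ 0 ∧ vadd 2 l ≠ pt := by decide +kernel

end CfsgLib.Small.ConTwo
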