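import Cfsg.Agent.Lib.Small.ConTwo.Lower

/-!
Two perpendicular sets of five singular vectors: the orthogonal sum of two planes of minus type
and the permutations of the two sets induced by orthogonal maps.
-/

set_option autoImplicit false
set_option maxRecDepth 100000

namespace CfsgLib.Small.ConTwo

open Equiv

/-- A subgroup of index two of the orthogonal group containing no transvection. -/
structure Half (R : Subgroup (Perm V8)) : Prop where
  le : R ≤ O
  mul : ∀ {x y : Perm V8}, x ∈ O → y ∈ O → x ∉ R → y ∉ R → x * y ∈ R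
  tr : ∀ a : V8, qb a = true → trP a ∉ R

theorem pinv {α : Type*} (π : Perm α) (x : α) : π (π⁻¹ x) = x := π.apply_symm_apply x

theorem Half.mul_iff {R : Subgroup (Perm V8)} (hR : Half R) {x y : Perm V8} (hx : x ∈ O)
    (hy : y ∈ O) : x * y ∈ R ↔ (x ∈ R ↔ y ∈ R) := by
  by_cases h : x ∈ R
  · simp [Subgroup.mul_mem_cancel_left R h, h]
  · by_cases h' : y ∈ R
    · simp [Subgroup.mul_mem_cancel_right R h', h, h']
    · simp [hR.mul hx hy h h', h, h']

/-- Five pairwise nonorthogonal singular vectors, perpendicular to five others. -/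
structure Pent (p p' : Fin 5 → V8) : Prop where
  sing : ∀ i, qb (p i) = false
  bl_eq : ∀ i j, bl (p i) (p j) = !decide (i = j)
  perp : ∀ i j, bl (p i) (p' j) = false
  span : ∀ v, (∀ j, bl v (p' j) = false) → v = 0 ∨ qb v = true ∨ ∃ i, p i = v
  base : ∀ d, (∀ i, bl d (p i) = false) → (∀ j, bl d (p' j) = false) → d = 0

namespace Pent

variable {p p' : Fin 5 → V8}

theorem inj (P : Pent p p') : Function.Injective p := fun i j h => by
  have h1 := P.bl_eq i j
  rw [h, bl_self] at h1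
  simpa using h1.symm

theorem ne_zero (P : Pent p p') (i : Fin 5) : p i ≠ 0 := fun h => by
  have h1 := P.bl_eq i (i + 1)
  rw [h] at h1
  have h2 : bl 0 (p (i + 1)) = false := by simp [bl, pr, bit_zero]
  rw [h2] at h1
  fin_cases i <;> simp at h1

theorem ext (P : Pent p p') {π σ : Perm V8} (hπ : π ∈ O) (hσ : σ ∈ O)
    (h : ∀ i, π (p i) = σ (p i)) (h' : ∀ j, π (p' j) = σ (p' j)) : π = σ := by
  have hd : σ⁻¹ * π ∈ O := mul_mem (inv_mem hσ) hπ
  refine (inv_mul_eq_one.1 ?_).symm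
  refine Equiv.ext fun v => (vadd_eq_zero (P.base (vadd v ((σ⁻¹ * π) v)) ?_ ?_)).symm
  · intro i
    have hi : (σ⁻¹ * π) (p i) = p i := by rw [Perm.mul_apply, h i]; exact σ.symm_apply_apply _
    rw [bl_vadd_left]
    nth_rw 2 [← hi]
    rw [O_bl hd, Bool.xor_self]
  · intro j
    have hj : (σ⁻¹ * π) (p' j) = p' j := by rw [Perm.mul_apply, h' j]; exact σ.symm_apply_apply _
    rw [bl_vadd_left]
    nth_rw 2 [← hj]
    rw [O_bl hd, Bool.xor_self]

/-- A vector of the plane is moved inside it by maps permuting the perpendicular set. -/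
theorem maps (P : Pent p p') {π : Perm V8} (hπ : π ∈ O) (h : ∀ j, ∃ k, π (p' k) = p' j) (i : Fin 5) :
    ∃ k, π (p i) = p k := by
  rcases P.span (π (p i)) (fun j => by
    obtain ⟨k, hk⟩ := h j
    rw [← hk, O_bl hπ, P.perp]) with h0 | h0 | ⟨k, hk⟩
  · exact absurd (π.injective (h0.trans (O_zero hπ).symm)) (P.ne_zero i)
  · rw [O_q hπ, P.sing] at h0
    cases h0
  · exact ⟨k, hk.symm⟩

theorem exists_act (P : Pent p p') {π : Perm V8} (h : ∀ i, ∃ k, π (p i) = p k) :
    ∃ e : Perm (Fin 5), ∀ i, π (p i) = p (e i) := by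
  choose e he using h
  have hinj : Function.Injective e := fun i j hij => P.inj (π.injective (by rw [he i, he j, hij]))
  exact ⟨Equiv.ofBijective e (Finite.injective_iff_bijective.1 hinj), he⟩

/-- Every permutation of the set is induced, fixing the perpendicular set. -/
theorem exists_perm (P : Pent p p') {R : Subgroup (Perm V8)} (hR : Half R) (e : Perm (Fin 5)) :
    ∃ π ∈ O, (∀ i, π (p i) = p (e i)) ∧ (∀ j, π (p' j) = p' j) ∧
      (π ∈ R ↔ Equiv.Perm.sign e = 1) := by
  induction e using Equiv.Perm.swap_induction_on with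
  | one => exact ⟨1, one_mem O, fun i => rfl, fun j => rfl, by simp [one_mem]⟩
  | swap_mul f x y hxy ih =>
    obtain ⟨π, hπ, h1, h2, h3⟩ := ih
    have hq : qb (vadd (p x) (p y)) = true := by
      rw [qb_vadd, P.sing, P.sing, P.bl_eq]; simp [hxy]
    refine ⟨trP (vadd (p x) (p y)) * π, mul_mem (trP_mem hq) hπ, fun i => ?_, fun j => ?_, ?_⟩
    · rw [Perm.mul_apply, h1, Perm.mul_apply]
      show tr _ (p (f i)) = p (swap x y (f i))
      rw [tr, bl_vadd_right, P.bl_eq, P.bl_eq]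
      by_cases hx : f i = x
      · rw [hx, swap_apply_left]
        simp [hxy, sel, vadd_cancel]
      · by_cases hy : f i = y
        · rw [hy, swap_apply_right]
          simp [hxy.symm, sel]
          rw [vadd_comm (p x), vadd_cancel]
        · rw [swap_apply_of_ne_of_ne hx hy]
          simp [hx, hy, sel, vadd_zero]
    · rw [Perm.mul_apply, h2]
      show tr _ (p' j) = p' j
      rw [tr, bl_vadd_right, bl_comm, P.perp, bl_comm, P.perp]
      simp [sel, vadd_zero]
    · rw [hR.mul_iff (trP_mem hq) hπ, map_mul, Perm.sign_swap hxy, h3]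
      simp only [hR.tr _ hq, false_iff]
      rcases Int.units_eq_one_or (Perm.sign f) with h | h <;> simp [h]

/-- The element inducing a given pair of permutations, and when it lies in the subgroup. -/
theorem exists_pair (P : Pent p p') (P' : Pent p' p) {R : Subgroup (Perm V8)} (hR : Half R)
    (e e' : Perm (Fin 5)) :
    ∃ π ∈ O, (∀ i, π (p i) = p (e i)) ∧ (∀ j, π (p' j) = p' (e' j)) ∧
      (π ∈ R ↔ Equiv.Perm.sign e = Equiv.Perm.sign e') := by
  obtain ⟨π, hπ, h1, h2, h3⟩ := P.exists_perm hR e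
  obtain ⟨σ, hσ, k1, k2, k3⟩ := P'.exists_perm hR e'
  refine ⟨π * σ, mul_mem hπ hσ, fun i => by rw [Perm.mul_apply, k2, h1],
    fun j => by rw [Perm.mul_apply, k1, h2], ?_⟩
  rw [hR.mul_iff hπ hσ, h3, k3]
  rcases Int.units_eq_one_or (Perm.sign e) with h | h <;>
    rcases Int.units_eq_one_or (Perm.sign e') with h' | h' <;> simp [h, h']

theorem exists_R (P : Pent p p') (P' : Pent p' p) {R : Subgroup (Perm V8)} (hR : Half R)
    {e e' : Perm (Fin 5)} (h : Equiv.Perm.sign e = Equiv.Perm.sign e') :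
    ∃ π ∈ R, (∀ i, π (p i) = p (e i)) ∧ (∀ j, π (p' j) = p' (e' j)) := by
  obtain ⟨π, -, h1, h2, h3⟩ := P.exists_pair P' hR e e'
  exact ⟨π, h3.2 h, h1, h2⟩

theorem parity (P : Pent p p') (P' : Pent p' p) {R : Subgroup (Perm V8)} (hR : Half R)
    {π : Perm V8} (hπ : π ∈ R) {e e' : Perm (Fin 5)} (h1 : ∀ i, π (p i) = p (e i))
    (h2 : ∀ j, π (p' j) = p' (e' j)) : Equiv.Perm.sign e = Equiv.Perm.sign e' := by
  obtain ⟨σ, hσ, k1, k2, k3⟩ := P.exists_pair P' hR e e'
  obtain rfl : π = σ := P.ext (hR.le hπ) hσ (fun i => (h1 i).trans (k1 i).symm)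
    fun j => (h2 j).trans (k2 j).symm
  exact k3.1 hπ

/-- The maps permuting both sets. -/
def Pres (p p' : Fin 5 → V8) : Subgroup (Perm V8) where
  carrier := {π | π ∈ O ∧ (∃ e : Perm (Fin 5), ∀ i, π (p i) = p (e i)) ∧
    ∃ e : Perm (Fin 5), ∀ j, π (p' j) = p' (e j)}
  one_mem' := ⟨one_mem O, ⟨1, fun _ => rfl⟩, 1, fun _ => rfl⟩
  mul_mem' := fun {a b} ⟨ha, ⟨e, he⟩, e', he'⟩ ⟨hb, ⟨d, hd⟩, d', hd'⟩ =>
    ⟨mul_mem ha hb, ⟨e * d, fun i => by rw [Perm.mul_apply, hd, he]; rfl⟩,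
      e' * d', fun i => by rw [Perm.mul_apply, hd', he']; rfl⟩
  inv_mem' := fun {a} ⟨ha, ⟨e, he⟩, e', he'⟩ =>
    ⟨inv_mem ha, ⟨e⁻¹, fun i => a.injective (by
        rw [he, pinv, pinv])⟩,
      e'⁻¹, fun i => a.injective (by rw [he', pinv, pinv])⟩

theorem mem_O_of_Pres {π : Perm V8} (h : π ∈ Pres p p') : π ∈ O := h.1

/-- The permutation induced on the set. -/
noncomputable def permP (P : Pent p p') : Pres p p' →* Perm (Fin 5) where
  toFun π := π.2.2.1.choose
  map_one' := Equiv.ext fun i =>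
    P.inj ((((1 : Pres p p').2.2.1).choose_spec i).symm.trans rfl)
  map_mul' a b := Equiv.ext fun i => P.inj (by
    rw [Perm.mul_apply, ← (a * b).2.2.1.choose_spec i, ← a.2.2.1.choose_spec, ← b.2.2.1.choose_spec]
    rfl)

theorem permP_spec (P : Pent p p') (π : Pres p p') (i : Fin 5) :
    (π : Perm V8) (p i) = p (P.permP π i) := π.2.2.1.choose_spec i

theorem permP_eq (P : Pent p p') (π : Pres p p') {e : Perm (Fin 5)}
    (h : ∀ i, (π : Perm V8) (p i) = p (e i)) : P.permP π = e :=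
  Equiv.ext fun i => P.inj ((P.permP_spec π i).symm.trans (h i))

theorem mem_Pres (P : Pent p p') (P' : Pent p' p) {π : Perm V8} (hπ : π ∈ O)
    (h : ∀ i, ∃ k, π (p i) = p k) : π ∈ Pres p p' := by
  obtain ⟨e, he⟩ := P.exists_act h
  refine ⟨hπ, ⟨e, he⟩, P'.exists_act fun j => P'.maps hπ (fun i => ⟨e⁻¹ i, ?_⟩) j⟩
  rw [he, pinv]

/-- The elements of the subgroup fixing the perpendicular set. -/
def Kfix (R : Subgroup (Perm V8)) (p' : Fin 5 → V8) : Subgroup (Perm V8) where
  carrier := {π | π ∈ R ∧ ∀ j, π (p' j) = p' j}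
  one_mem' := ⟨one_mem R, fun _ => rfl⟩
  mul_mem' := fun {a b} ha hb => ⟨mul_mem ha.1 hb.1, fun j => by rw [Perm.mul_apply, hb.2, ha.2]⟩
  inv_mem' := fun {a} ha => ⟨inv_mem ha.1, fun j => a.injective (by
    rw [pinv, ha.2])⟩

variable {R : Subgroup (Perm V8)}

theorem Kfix_le_Pres (P : Pent p p') (P' : Pent p' p) (hR : Half R) :
    Kfix R p' ≤ Pres p p' := fun π hπ =>
  ⟨hR.le hπ.1, P.exists_act (P.maps (hR.le hπ.1) fun j => ⟨j, hπ.2 j⟩), 1, hπ.2⟩

/-- The elements fixing the perpendicular set form the alternating group of the set. -/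
theorem Kfix_iso (P : Pent p p') (P' : Pent p' p) (hR : Half R) :
    Nonempty (Kfix R p' ≃* alternatingGroup (Fin 5)) := by
  let φ : Kfix R p' →* Perm (Fin 5) := P.permP.comp (Subgroup.inclusion (Kfix_le_Pres P P' hR))
  have hspec : ∀ π : Kfix R p', ∀ i, (π : Perm V8) (p i) = p (φ π i) := fun π i =>
    P.permP_spec (Subgroup.inclusion (Kfix_le_Pres P P' hR) π) i
  have hA : ∀ π, φ π ∈ alternatingGroup (Fin 5) := fun π => by
    have h := P.parity P' hR π.2.1 (hspec π) (e' := 1) π.2.2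
    rwa [map_one] at h
  refine ⟨MulEquiv.ofBijective (φ.codRestrict _ hA) ⟨fun a b h => ?_, fun e => ?_⟩⟩
  · have h' : φ a = φ b := congrArg Subtype.val h
    exact Subtype.ext (P.ext (hR.le a.2.1) (hR.le b.2.1)
      (fun i => by rw [hspec, hspec, h']) fun j => (a.2.2 j).trans (b.2.2 j).symm)
  · obtain ⟨π, hπ, h1, h2⟩ := P.exists_R P' hR (e := e.1) (e' := 1) (by rw [map_one]; exact e.2)
    refine ⟨⟨π, hπ, h2⟩, Subtype.ext (P.permP_eq _ h1)⟩

theorem card_Kfix (P : Pent p p') (P' : Pent p' p) (hR : Half R) :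
    Nat.card (Kfix R p') = 60 := by
  obtain ⟨e⟩ := P.Kfix_iso P' hR
  rw [Nat.card_congr e.toEquiv, nat_card_alternatingGroup, Nat.card_fin]
  decide

end Pent

/-! ### The two sets used -/

/-- The first set. -/
def p1 : Fin 5 → V8 := ![1, 16, 51, 87, 117]

/-- The second set. -/
def p2 : Fin 5 → V8 := ![8, 128, 174, 204, 234]

theorem pent1 : Pent p1 p2 :=
  ⟨by decide +kernel, by decide +kernel, by decide +kernel, by decide +kernel, by decide +kernel⟩

theorem pent2 : Pent p2 p1 :=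
  ⟨by decide +kernel, by decide +kernel, by decide +kernel, by decide +kernel, by decide +kernel⟩

/-- The element of order five. -/
def pi5 : Perm V8 := trP (vadd (p2 0) (p2 1)) * trP (vadd (p2 1) (p2 2)) *
  trP (vadd (p2 2) (p2 3)) * trP (vadd (p2 3) (p2 4))

/-- The element of order three. -/
def tau3 : Perm V8 := trP (vadd (p1 2) (p1 3)) * trP (vadd (p1 3) (p1 4))

/-- The cycle. -/
def c5 : Perm (Fin 5) := finRotate 5

theorem pi5_vals : (∀ i, pi5 (p1 i) = p1 i) ∧ (∀ j, pi5 (p2 j) = p2 (c5 j)) ∧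
    (∀ v, pi5 v = v ↔ ∀ j, bl v (p2 j) = false) ∧ Equiv.Perm.sign c5 = 1 := by
  decide +kernel

theorem tau3_vals : (∀ i, tau3 (p1 i) = p1 (((swap (2 : Fin 5) 3 * swap 3 4) : Perm (Fin 5)) i)) ∧
    (∀ j, tau3 (p2 j) = p2 j) ∧ tau3 * tau3 * tau3 = 1 := by
  refine ⟨by decide +kernel, by decide +kernel, Equiv.ext ?_⟩
  decide +kernel

theorem c5_cent : ∀ e : Perm (Fin 5), e * c5 = c5 * e → ∃ k : Fin 5, e = c5 ^ k.val := by
  decide +kernel

theorem pi5_O : pi5 ∈ O :=
  mul_mem (mul_mem (mul_mem (trP_mem (by decide +kernel)) (trP_mem (by decide +kernel)))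
    (trP_mem (by decide +kernel))) (trP_mem (by decide +kernel))

theorem tau3_O : tau3 ∈ O :=
  mul_mem (trP_mem (by decide +kernel)) (trP_mem (by decide +kernel))

theorem pi5_pow : pi5 ^ 5 = 1 := by
  refine Equiv.ext ?_
  decide +kernel

theorem pi5_ne : pi5 ≠ 1 := fun h => by
  have h1 := pi5_vals.2.1 0
  rw [h] at h1
  revert h1
  decide +kernel

theorem pi5_pow_p2 (k : ℕ) (j : Fin 5) : (pi5 ^ k) (p2 j) = p2 ((c5 ^ k) j) := by
  induction k generalizing j with
  | zero => rfl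
  | succ k ih => rw [pow_succ, Perm.mul_apply, pi5_vals.2.1, ih, pow_succ, Perm.mul_apply]

theorem pi5_pow_p1 (k : ℕ) (i : Fin 5) : (pi5 ^ k) (p1 i) = p1 i := by
  induction k with
  | zero => rfl
  | succ k ih => rw [pow_succ, Perm.mul_apply, pi5_vals.1, ih]

variable {R : Subgroup (Perm V8)}

theorem pi5_mem (hR : Half R) : pi5 ∈ R := by
  obtain ⟨π, hπ, h1, h2⟩ := pent1.exists_R pent2 hR (e := 1) (e' := c5)
    (by rw [map_one]; exact pi5_vals.2.2.2.symm)
  rwa [show pi5 = π from pent1.ext pi5_O (hR.le hπ) (fun i => (pi5_vals.1 i).trans (h1 i).symm)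
    fun j => (pi5_vals.2.1 j).trans (h2 j).symm]

theorem tau3_mem (hR : Half R) : tau3 ∈ R :=
  (hR.mul_iff (trP_mem (by decide +kernel)) (trP_mem (by decide +kernel))).2
    (iff_of_false (hR.tr _ (by decide +kernel)) (hR.tr _ (by decide +kernel)))

/-- An element fixing the first set commutes with one fixing the second. -/
theorem Kfix_comm (hR : Half R) {x y : Perm V8} (hx : x ∈ Pent.Kfix R p1)
    (hy : y ∈ R) (hy2 : ∀ j, y (p2 j) = p2 j) : x * y = y * x := by
  obtain ⟨-, ⟨e, he⟩, -⟩ := Pent.Kfix_le_Pres pent1 pent2 hR (show y ∈ Pent.Kfix R p2 from ⟨hy, hy2⟩)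
  obtain ⟨-, ⟨d, hd⟩, -⟩ := Pent.Kfix_le_Pres pent2 pent1 hR hx
  refine pent1.ext (mul_mem (hR.le hx.1) (hR.le hy)) (mul_mem (hR.le hy) (hR.le hx.1))
    (fun i => ?_) fun j => ?_
  · rw [Perm.mul_apply, Perm.mul_apply, hx.2, he, hx.2]
  · rw [Perm.mul_apply, Perm.mul_apply, hy2, hd, hy2]

/-- The centraliser of the element of order five. -/
theorem cent_pi5 (hR : Half R) {π : Perm V8} (hπ : π ∈ R) (hc : π * pi5 = pi5 * π) :
    ∃ (k : ℕ) (e : Perm (Fin 5)), Equiv.Perm.sign e = 1 ∧ (∀ i, π (p1 i) = p1 (e i)) ∧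
      ∀ j, π (p2 j) = (pi5 ^ k) (p2 j) := by
  have hO := hR.le hπ
  have h1 : ∀ i, ∃ k, π (p1 i) = p1 k := by
    intro i
    have hfix : pi5 (π (p1 i)) = π (p1 i) := by
      rw [← Perm.mul_apply, ← hc, Perm.mul_apply, pi5_vals.1]
    rcases pent1.span _ ((pi5_vals.2.2.1 _).1 hfix) with h0 | h0 | ⟨k, hk⟩
    · exact absurd (π.injective (h0.trans (O_zero hO).symm)) (pent1.ne_zero i)
    · rw [O_q hO, pent1.sing] at h0; cases h0
    · exact ⟨k, hk.symm⟩
  obtain ⟨-, ⟨e, he⟩, e', he'⟩ := pent1.mem_Pres pent2 hO h1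
  have hcomm : e' * c5 = c5 * e' := Equiv.ext fun j => pent2.inj (by
    rw [Perm.mul_apply, Perm.mul_apply, ← he', ← pi5_vals.2.1, ← pi5_vals.2.1 (e' j), ← he',
      ← Perm.mul_apply, ← Perm.mul_apply, hc])
  obtain ⟨k, rfl⟩ := c5_cent e' hcomm
  refine ⟨k.val, e, ?_, he, fun j => by rw [he', pi5_pow_p2]⟩
  rw [pent1.parity pent2 hR hπ he he', map_pow, pi5_vals.2.2.2, one_pow]

/-- An upper bound for the elements fixing a plane and the distinguished vector. -/
theorem oStab_bound (hR : Half R) : Nat.card (R ⊓ oStab [70, 34, 1] : Subgroup (Perm V8)) ≤ 960 := by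
  have hlen : (oOpts 16 [70, 34, 1]).length = 16 := by decide +kernel
  have h := card_le_orbit (S := R ⊓ oStab [70, 34, 1]) (S' := Pent.Kfix R p1) 16
    (oOpts 16 [70, 34, 1]) ?_ ?_
  · rw [hlen, pent2.card_Kfix pent1 hR] at h
    exact h
  · intro π h
    have hO := oStab_le _ h.2
    simp only [oOpts, List.mem_filter, List.mem_finRange, true_and, Bool.and_eq_true, bne_iff_ne,
      ne_eq, beq_iff_eq, List.all_eq_true]
    refine ⟨⟨fun h0 => absurd (π.injective (h0.trans (O_zero hO).symm)) (by decide),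
      O_q hO 16⟩, fun f hf => ?_⟩
    conv_lhs => rw [← oStab_fix _ π h.2 f hf]
    exact O_bl hO 16 f
  · intro π h h16
    have hO := oStab_le _ h.2
    have hf := oStab_fix _ π h.2
    have h70 := hf 70 (by simp)
    have h34 := hf 34 (by simp)
    have h1 := hf 1 (by simp)
    refine ⟨h.1, fun i => ?_⟩
    fin_cases i
    · exact h1
    · exact h16
    · show π 51 = 51
      rw [show (51 : V8) = vadd (vadd 1 16) 34 by decide +kernel, O_add hO, O_add hO, h1, h16, h34]
    · show π 87 = 87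
      rw [show (87 : V8) = vadd (vadd 1 16) 70 by decide +kernel, O_add hO, O_add hO, h1, h16, h70]
    · show π 117 = 117
      rw [show (117 : V8) = vadd (vadd 1 16) (vadd 34 70) by decide +kernel, O_add hO, O_add hO,
        O_add hO, h1, h16, h34, h70]

end CfsgLib.Small.ConTwo
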