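import Cfsg.Agent.Lib.Small.ConTwo.FiveY
import Cfsg.Agent.Lib.Small.JankoTwoGen
import Cfsg.Agent.Lib.Spor.J2.Centralizer
import Cfsg.Agent.Lib.Components.Basic

/-!
The layer of the centraliser of an element of order five is of Hall–Janko type and its centraliser
is an alternating group of degree five.
-/

set_option autoImplicit false
set_option maxRecDepth 100000
set_option maxHeartbeats 1000000

namespace CfsgLib.Small.ConTwo

open Equiv
open scoped commutatorElement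

theorem layer_eq_of_complement {X : Type*} [Group X] [Finite X] (H : Subgroup X) [H.Normal]
    [IsSimpleGroup H] (hna : ¬ IsMulCommutative H)
    (hc : ∀ K : Subgroup X, K ≤ Subgroup.centralizer (H : Set X) → Group.IsSolvable K) :
    Cfsg.layer X = H := by
  have hq : Cfsg.IsQuasisimple H := CfsgLib.Components.isQuasisimple_of_isSimpleGroup hna
  have hcomp : Cfsg.IsComponent H := ⟨(inferInstance : H.Normal).isSubnormal, hq⟩
  refine le_antisymm (CfsgLib.Components.layer_le_iff.2 fun K hK => ?_)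
    (CfsgLib.Components.component_le_layer hcomp)
  rcases CfsgLib.Components.component_le_or_commutator_eq_bot hK hcomp.1 with h | h
  · exact h
  · exact absurd (hc K (Subgroup.commutator_eq_bot_iff_le_centralizer.1 h))
      (CfsgLib.Components.quasisimple_not_isSolvable hK.2)

namespace Five

variable {G : Type*} [Group G] {z : G} {Q : Subgroup G} {f : G → V8} {ρ : Cz z →* Perm V8} {b : G}
  (A : Five z Q f ρ b)

include A

/-- The action on the first set. -/
theorem exists_act [Finite G] : ∃ ψ : C1 z b →* alternatingGroup (Fin 5), Function.Surjective ψ ∧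
    (∀ x : C1 z b, ψ x = 1 ↔ ∀ i, ρ ⟨x, x.2.1⟩ (p1 i) = p1 i) ∧ ψ ⟨b, A.b_mem_C1⟩ = 1 := by
  have hP : ∀ x : C1 z b, ρ ⟨x, x.2.1⟩ ∈ Pent.Pres p1 p2 := fun x => by
    obtain ⟨π, hI, k, e, -, h1, h2⟩ := A.C1_act x.2
    rw [(Img.mk' x.2.1).unique hI]
    exact pent1.mem_Pres pent2 (A.M.img_O hI) fun i => ⟨e i, h1 i⟩
  let φ : C1 z b →* Perm (Fin 5) := pent1.permP.comp
    ((ρ.comp (Subgroup.inclusion inf_le_left)).codRestrict _ hP)
  have hs : ∀ x : C1 z b, ∀ i, ρ ⟨x, x.2.1⟩ (p1 i) = p1 (φ x i) := fun x i =>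
    pent1.permP_spec ⟨_, hP x⟩ i
  have hA : ∀ x, φ x ∈ alternatingGroup (Fin 5) := fun x => by
    obtain ⟨π, hI, k, e, he, h1, h2⟩ := A.C1_act x.2
    rw [show φ x = e from pent1.permP_eq ⟨_, hP x⟩ fun i => by
      show ρ ⟨x, x.2.1⟩ (p1 i) = _
      rw [(Img.mk' x.2.1).unique hI]; exact h1 i]
    exact he
  refine ⟨φ.codRestrict _ hA, fun e => ?_, fun x => ?_, ?_⟩
  · obtain ⟨π, hπ, h1, h2⟩ := pent1.exists_R pent2 A.M.half (e := e.1) (e' := 1)
      (by rw [map_one]; exact e.2)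
    obtain ⟨x, hx, hI⟩ := A.K1_lift ⟨hπ, h2⟩
    refine ⟨⟨x, hx⟩, Subtype.ext (pent1.permP_eq ⟨_, hP ⟨x, hx⟩⟩ fun i => ?_)⟩
    show ρ ⟨x, hx.1⟩ (p1 i) = _
    rw [(Img.mk' hx.1).unique hI]
    exact h1 i
  · rw [Subtype.ext_iff]
    constructor
    · intro h i
      have h' : φ x = 1 := h
      rw [hs, h', Perm.one_apply]
    · intro h
      exact pent1.permP_eq ⟨_, hP x⟩ fun i => h i
  · refine Subtype.ext (pent1.permP_eq ⟨_, hP ⟨b, A.b_mem_C1⟩⟩ fun i => ?_)
    show ρ ⟨b, A.img.mem⟩ (p1 i) = _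
    rw [(Img.mk' A.img.mem).unique A.img]
    exact pi5_vals.1 i

theorem act_ker [Finite G] {x : G} (hx : x ∈ C1 z b) (h : ∀ i, ρ ⟨x, hx.1⟩ (p1 i) = p1 i) :
    ∃ k : ℕ, ∃ q ∈ Qb Q b, x = b ^ k * q := by
  obtain ⟨k, π, hπ, hI⟩ := A.C1_rep hx
  have h1 : ∀ i, π (p1 i) = p1 i := fun i => by
    rw [← ((A.img.pow k).inv.mul (Img.mk' hx.1)).unique hI, Perm.mul_apply, h]
    exact ((pi5 ^ k).symm_apply_eq).2 (pi5_pow_p1 k i).symm
  have hπ1 : π = 1 := pent1.ext (A.M.range_le hπ.1) (one_mem O) h1 fun j => hπ.2 j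
  rw [hπ1] at hI
  have hq := A.M.img_one_mem hI
  exact ⟨k, _, ⟨hq, (Subgroup.centralizer ({b} : Set G)).mul_mem
    (inv_mem (pow_mem (show b ∈ Subgroup.centralizer ({b} : Set G) from A.b_mem_C1.2) k)) hx.2⟩,
    (mul_inv_cancel_left _ _).symm⟩

theorem sq_eq_one_pow {k : ℕ} (h : b ^ k * b ^ k = 1) : b ^ k = 1 := by
  have h5 : (b ^ k) ^ 5 = 1 := by rw [← pow_mul, mul_comm, pow_mul, A.pow, one_pow]
  calc b ^ k = (b ^ k * b ^ k) * (b ^ k * b ^ k) * b ^ k := by rw [h, one_mul, one_mul]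
    _ = (b ^ k) ^ 5 := by simp [pow_succ, mul_assoc]
    _ = 1 := h5

theorem pow_mem_Q {k : ℕ} (h : b ^ k ∈ Q) : b ^ k = 1 := by
  have h1 : pi5 ^ k = pi5 ^ 0 := by rw [pow_zero]; exact (A.img.pow k).unique (A.M.img_q h)
  rw [A.b_pow_eq h1, pow_zero]

/-- The layer of the centraliser and its centraliser. -/
theorem layer_main [Finite G] (hEx : Cfsg.IsExtraspecial 2 (Qb Q b))
    (h32 : Nat.card (Qb Q b) = 32) (X : Subgroup G) (hX : X = Subgroup.centralizer {b}) :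
    Cfsg.Spor.IsoJ2 ↥(Cfsg.layer ↥X) ∧
      Nonempty (↥(Subgroup.centralizer (((Cfsg.layer ↥X).map X.subtype) : Set G)) ≃*
        alternatingGroup (Fin 5)) := by
  classical
  haveI : Fact (Nat.Prime 2) := ⟨Nat.prime_two⟩
  obtain ⟨u, g, W, hu, hgb⟩ := A.exists_swapped
  obtain ⟨eY⟩ := A.Ys_iso W hu hgb
  obtain ⟨ψ, hψs, hψk, hψb⟩ := A.exists_act
  obtain ⟨t0, ht0b, ht0o, ht0z⟩ := A.other_invol W hgb
  have hmX : ∀ {x : G}, x ∈ X ↔ x * b = b * x := by
    intro x; rw [hX]; exact Subgroup.mem_centralizer_singleton_iff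
  have hbX : b ∈ X := hmX.2 rfl
  have hgX : g ∈ X := hmX.2 hgb
  have hzX : z ∈ X := hmX.2 (mem_Cz.1 A.img.mem).symm
  have hQX : ∀ {q}, q ∈ Qb Q b → q ∈ X := fun hq =>
    hmX.2 (Subgroup.mem_centralizer_singleton_iff.1 hq.2)
  have huX : u ∈ X := hQX hu
  let bX : X := ⟨b, hbX⟩
  let N : Subgroup X := Subgroup.zpowers bX
  haveI hN : N.Normal := ⟨fun n hn x => by
    have hc : Commute x bX := Subtype.ext (hmX.1 x.2)
    obtain ⟨k, rfl⟩ := Subgroup.mem_zpowers_iff.1 hn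
    rw [(hc.zpow_right k).eq, mul_inv_cancel_right]
    exact Subgroup.zpow_mem_zpowers bX k⟩
  let π : X →* X ⧸ N := QuotientGroup.mk' N
  have hπeq : ∀ x y : X, π x = π y → ∃ k : ℕ, (y : G) = (x : G) * b ^ k := by
    intro x y h
    have h' : x⁻¹ * y ∈ N := QuotientGroup.eq.1 h
    obtain ⟨k, hk⟩ := mem_powers_iff_mem_zpowers.2 h'
    refine ⟨k, ?_⟩
    have hk' : b ^ k = (x : G)⁻¹ * y := congrArg Subtype.val hk
    rw [hk', mul_inv_cancel_left]
  have hπb : ∀ (x : X) (k : ℕ), π (x * bX ^ k) = π x := fun x k => by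
    rw [map_mul, show π (bX ^ k) = 1 from
      (QuotientGroup.eq_one_iff _).2 (Subgroup.npow_mem_zpowers bX k), mul_one]
  let zb : X ⧸ N := π ⟨z, hzX⟩
  have hinvQ : ∀ {q q' : G}, q ∈ Qb Q b → q' ∈ Qb Q b → ∀ hq : q ∈ X, ∀ hq' : q' ∈ X,
      π ⟨q, hq⟩ = π ⟨q', hq'⟩ → q = q' := by
    intro q q' h h' hq hq' he
    obtain ⟨k, hk⟩ := hπeq _ _ he
    have hk' : q' = q * b ^ k := hk
    have : b ^ k ∈ Q := by
      rw [show b ^ k = q⁻¹ * q' by rw [hk', inv_mul_cancel_left]]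
      exact mul_mem (inv_mem h.1) h'.1
    rw [hk', A.pow_mem_Q this, mul_one]
  -- the centraliser of the image of `z`
  have hCz : ∀ x : X, π x * zb = zb * π x ↔ (x : G) ∈ C1 z b := by
    intro x
    constructor
    · intro h
      rw [← map_mul, ← map_mul] at h
      obtain ⟨k, hk⟩ := hπeq _ _ h
      have hk' : z * x = (x : G) * z * b ^ k := hk
      have hxb : Commute (x : G) (b ^ k) := (show Commute (x : G) b from hmX.1 x.2).pow_right k
      have hzb : Commute z (b ^ k) := (show Commute z b from hmX.1 hzX).pow_right k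
      have h1 : (x : G)⁻¹ * z * x = z * b ^ k := by
        rw [mul_assoc, hk', mul_assoc _ z, inv_mul_cancel_left]
      have h2 : b ^ k * b ^ k = 1 := by
        have e : (x : G)⁻¹ * z * x * ((x : G)⁻¹ * z * x) = 1 := by
          rw [show (x : G)⁻¹ * z * x * ((x : G)⁻¹ * z * x) = (x : G)⁻¹ * (z * z) * x by group,
            A.M.zz, mul_one, inv_mul_cancel]
        rw [h1] at e
        calc b ^ k * b ^ k = z * z * (b ^ k * b ^ k) := by rw [A.M.zz, one_mul]
          _ = z * (z * b ^ k) * b ^ k := by group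
          _ = z * (b ^ k * z) * b ^ k := by rw [hzb.eq]
          _ = 1 := by rw [← e]; group
      rw [A.sq_eq_one_pow h2, mul_one] at hk'
      exact ⟨mem_Cz.2 hk'.symm, Subgroup.mem_centralizer_singleton_iff.2 (hmX.1 x.2)⟩
    · intro h
      rw [← map_mul, ← map_mul]
      exact congrArg π (Subtype.ext (mem_Cz.1 h.1))
  let C : Subgroup (X ⧸ N) := Subgroup.centralizer {zb}
  have hC1X : ∀ {x : G}, x ∈ C1 z b → x ∈ X := fun hx =>
    hmX.2 (Subgroup.mem_centralizer_singleton_iff.1 hx.2)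
  let χ : C1 z b →* C :=
    { toFun := fun x => ⟨π ⟨x, hC1X x.2⟩,
        Subgroup.mem_centralizer_singleton_iff.2 ((hCz _).2 x.2)⟩
      map_one' := Subtype.ext (map_one π)
      map_mul' := fun x y => Subtype.ext (map_mul π ⟨(x : G), hC1X x.2⟩ ⟨(y : G), hC1X y.2⟩) }
  have hχs : Function.Surjective χ := by
    rintro ⟨c, hc⟩
    obtain ⟨x, rfl⟩ := QuotientGroup.mk'_surjective N c
    exact ⟨⟨x, (hCz x).1 (Subgroup.mem_centralizer_singleton_iff.1 hc)⟩, rfl⟩
  have hker : χ.ker ≤ ψ.ker := by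
    intro x hx
    have h := congrArg Subtype.val (MonoidHom.mem_ker.1 hx)
    obtain ⟨k, hk⟩ := hπeq 1 ⟨x, hC1X x.2⟩ ((map_one π).trans h.symm)
    have hk' : (x : G) = b ^ k := hk.trans (one_mul _)
    have : x = (⟨b, A.b_mem_C1⟩ : C1 z b) ^ k := Subtype.ext hk'
    rw [MonoidHom.mem_ker, this, map_pow, hψb, one_pow]
  let proj : C →* alternatingGroup (Fin 5) := χ.liftOfSurjective hχs ⟨ψ, hker⟩
  have hproj : ∀ x, proj (χ x) = ψ x := fun x =>
    MonoidHom.liftOfRightInverse_comp_apply χ _ _ ⟨ψ, hker⟩ x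
  let ι : Qb Q b →* C := χ.comp (Subgroup.inclusion A.Qb_le_C1)
  have hι : Function.Injective ι := fun q q' h =>
    Subtype.ext (hinvQ q.2 q'.2 (hQX q.2) (hQX q'.2) (congrArg Subtype.val h))
  have hprojk : proj.ker = ι.range := by
    ext c
    obtain ⟨x, rfl⟩ := hχs c
    rw [MonoidHom.mem_ker, hproj, hψk]
    constructor
    · intro h
      obtain ⟨k, q, hq, he⟩ := A.act_ker x.2 h
      refine ⟨⟨q, hq⟩, Subtype.ext ?_⟩
      show π ⟨q, hQX hq⟩ = π ⟨x, hC1X x.2⟩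
      rw [← hπb ⟨q, hQX hq⟩ k]
      refine congrArg π (Subtype.ext ?_)
      show q * b ^ k = x
      rw [he]
      exact ((show Commute q b from Subgroup.mem_centralizer_singleton_iff.1 hq.2).pow_right k).eq
    · rintro ⟨q, hq⟩ i
      have h : χ ⟨q, A.Qb_le_C1 q.2⟩ = χ x := hq
      have h' := hproj ⟨q, A.Qb_le_C1 q.2⟩
      rw [h, hproj] at h'
      refine (hψk x).1 (h'.trans ((hψk _).2 fun j => ?_)) i
      rw [(Img.mk' (A.M.le q.2.1)).unique (A.M.img_q q.2.1), Perm.one_apply]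
  have hzo : orderOf zb = 2 := by
    refine orderOf_eq_prime ?_ ?_
    · rw [← map_pow, show (⟨z, hzX⟩ : X) ^ 2 = 1 from Subtype.ext ((sq z).trans A.M.zz), map_one]
    · intro h
      exact A.M.z_ne (hinvQ A.z_Qb (one_mem _) hzX (one_mem X) (h.trans (map_one π).symm))
  have hcent : Subgroup.centralizer (ι.range : Set C) ≤ ι.range := by
    intro c hc
    obtain ⟨x, rfl⟩ := hχs c
    rw [← hprojk, MonoidHom.mem_ker, hproj, hψk]
    intro i
    obtain ⟨q, hq, hqf⟩ := A.exists_p1 i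
    have h := congrArg Subtype.val (Subgroup.mem_centralizer_iff.1 hc (ι ⟨q, hq⟩) ⟨⟨q, hq⟩, rfl⟩)
    have hxq : (x : G) * q * (x : G)⁻¹ ∈ Qb Q b := A.Qb_conj x.2 hq
    have he : π ⟨(x : G) * q * (x : G)⁻¹, hQX hxq⟩ = π ⟨q, hQX hq⟩ := by
      have e1 : (⟨(x : G) * q * (x : G)⁻¹, hQX hxq⟩ : X) =
          ⟨x, hC1X x.2⟩ * ⟨q, hQX hq⟩ * (⟨x, hC1X x.2⟩ : X)⁻¹ := rfl
      rw [e1, map_mul, map_mul, map_inv, mul_inv_eq_iff_eq_mul]
      exact h.symm
    have he' := hinvQ hxq hq _ _ he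
    rw [← hqf, ← A.M.img_conj (Img.mk' x.2.1) hq.1, he']
  have hug : π ⟨g, hgX⟩ * zb * (π ⟨g, hgX⟩)⁻¹ = π ⟨u, huX⟩ := by
    show π ⟨g, hgX⟩ * π ⟨z, hzX⟩ * (π ⟨g, hgX⟩)⁻¹ = _
    rw [← map_inv, ← map_mul, ← map_mul]
    exact congrArg π (Subtype.ext W.gz)
  have huC : π ⟨u, huX⟩ ∈ C := (χ ⟨u, A.Qb_le_C1 hu⟩).2
  have hune : π ⟨u, huX⟩ ≠ zb := fun h =>
    W.nc.2.2.2 (hinvQ hu A.z_Qb huX hzX h)
  let P : CfsgLib.Small.JTwoType.Pre (X ⧸ N) :=
    { z := zb
      ord := hzo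
      Q := ι.range
      extra := CfsgLib.J2.isExtraspecial_congr (MonoidHom.ofInjective hι) hEx
      card := (Nat.card_congr (MonoidHom.ofInjective hι).toEquiv).symm.trans h32
      cent := hcent
      proj := proj
      proj_surj := fun e => by
        obtain ⟨x, rfl⟩ := hψs e
        exact ⟨χ x, hproj x⟩
      proj_ker := hprojk }
  have ht0X : t0 ∈ X := hmX.2 ht0b
  have ht0sq : t0 * t0 = 1 := by
    have := pow_orderOf_eq_one t0
    rwa [ht0o, sq] at this
  let S : CfsgLib.Small.JTwoType.Setup (X ⧸ N) :=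
    { P with
      weak := ⟨π ⟨g, hgX⟩, ⟨hug ▸ huC, ⟨u, hu⟩, Subtype.ext hug.symm⟩, hug.trans_ne hune⟩
      two := by
        refine ⟨zb, π ⟨t0, ht0X⟩, hzo, orderOf_eq_prime ?_ ?_, fun h => ?_⟩
        · rw [← map_pow, show (⟨t0, ht0X⟩ : X) ^ 2 = 1 from Subtype.ext ((sq t0).trans ht0sq),
            map_one]
        · intro h
          obtain ⟨k, hk⟩ := hπeq 1 ⟨t0, ht0X⟩ ((map_one π).trans h.symm)
          have hk' : t0 = b ^ k := hk.trans (one_mul _)
          have h1 := A.sq_eq_one_pow (k := k) (by rw [← hk', ht0sq])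
          rw [hk', h1, orderOf_one] at ht0o
          omega
        · obtain ⟨c, hc⟩ := isConj_iff.1 h
          obtain ⟨x, rfl⟩ := QuotientGroup.mk'_surjective N c
          change π x * π ⟨z, hzX⟩ * (π x)⁻¹ = _ at hc
          rw [← map_inv, ← map_mul, ← map_mul] at hc
          obtain ⟨k, hk⟩ := hπeq _ _ hc
          have hk' : t0 = (x : G) * z * (x : G)⁻¹ * b ^ k := hk
          have hxz : ((x : G) * z * (x : G)⁻¹) * ((x : G) * z * (x : G)⁻¹) = 1 := by
            rw [show (x : G) * z * (x : G)⁻¹ * ((x : G) * z * (x : G)⁻¹) =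
              (x : G) * (z * z) * (x : G)⁻¹ by group, A.M.zz, mul_one, mul_inv_cancel]
          have hcb : Commute ((x : G) * z * (x : G)⁻¹) (b ^ k) :=
            (show Commute ((x : G) * z * (x : G)⁻¹) b from
              hmX.1 (mul_mem (mul_mem x.2 hzX) (inv_mem x.2))).pow_right k
          have h1 : b ^ k * b ^ k = 1 := by
            rw [hk', hcb.symm.mul_mul_mul_comm, hxz, one_mul] at ht0sq
            exact ht0sq
          rw [A.sq_eq_one_pow h1, mul_one] at hk'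
          exact ht0z x hk'.symm }
  obtain ⟨K⟩ := S.exists_coord
  obtain ⟨eJ⟩ := K.isoJ2
  -- the centraliser of the alternating group
  let H : Subgroup G := Subgroup.centralizer (Ys z Q b g : Set G)
  have hbY := A.b_mem_Ys hgb
  have hHX : H ≤ X := fun h hh =>
    hmX.2 (Subgroup.mem_centralizer_iff.1 hh b hbY).symm
  let HX : Subgroup X := H.subgroupOf X
  have hHb : ∀ k : ℕ, b ^ k ∈ H → b ^ k = 1 := by
    intro k hk
    have h := CfsgLib.Small.JTwoType.a5_center (eY ⟨b ^ k, pow_mem hbY k⟩) fun w => by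
      obtain ⟨y, rfl⟩ := eY.surjective w
      rw [← map_mul, ← map_mul]
      exact congrArg eY (Subtype.ext (Subgroup.mem_centralizer_iff.1 hk y y.2).symm)
    rw [map_eq_one_iff _ eY.injective] at h
    exact congrArg Subtype.val h
  have hinj : Function.Injective (π.comp HX.subtype) := by
    rw [injective_iff_map_eq_one]
    intro h hh
    obtain ⟨k, hk⟩ := hπeq 1 h.1 ((map_one π).trans hh.symm)
    have hk' : ((h : X) : G) = b ^ k := hk.trans (one_mul _)
    have hH : b ^ k ∈ H := hk' ▸ h.2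
    exact Subtype.ext (Subtype.ext (hk'.trans (hHb k hH)))
  have hL : ∀ c : C, ∃ l ∈ L0 z b, ∃ hl : l ∈ X, π ⟨l, hl⟩ = c := by
    intro c
    obtain ⟨x, rfl⟩ := hχs c
    obtain ⟨k, l, hl, he⟩ := A.C1_decomp x.2
    refine ⟨l, hl, hC1X (A.L0_le hl), ?_⟩
    show π ⟨l, _⟩ = π ⟨x, hC1X x.2⟩
    rw [← hπb ⟨l, hC1X (A.L0_le hl)⟩ k]
    refine congrArg π (Subtype.ext ?_)
    show l * b ^ k = x
    rw [he]
    exact ((show Commute l b from
      Subgroup.mem_centralizer_singleton_iff.1 (A.L0_le hl).2).pow_right k).eq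
  have htop : HX.map π = ⊤ := by
    refine S.eq_top_of_le (HX.map π) (fun c hc => ?_) (π ⟨g, hgX⟩) (hug ▸ huC)
      ⟨⟨u, hu⟩, Subtype.ext hug.symm⟩ (hug.trans_ne hune) (fun c hc => ?_)
    · obtain ⟨l, hl, hlX, he⟩ := hL ⟨c, hc⟩
      exact ⟨⟨l, hlX⟩, A.L0_le_cent g hl, he⟩
    · obtain ⟨l, hl, hlX, he⟩ := hL ⟨c, hc⟩
      refine ⟨⟨g, hgX⟩ * ⟨l, hlX⟩ * (⟨g, hgX⟩ : X)⁻¹, A.conjL0_le_cent hl, ?_⟩
      rw [map_mul, map_mul, map_inv, he]
  have hsurj : Function.Surjective (π.comp HX.subtype) := by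
    intro c
    obtain ⟨h, hh, rfl⟩ := (htop ▸ Subgroup.mem_top c : c ∈ HX.map π)
    exact ⟨⟨h, hh⟩, rfl⟩
  let eH : HX ≃* X ⧸ N := MulEquiv.ofBijective _ ⟨hinj, hsurj⟩
  let eHJ : HX ≃* Cfsg.Spor.J2 := eH.trans eJ
  have hdec : ∀ x : X, ∃ k : ℕ, ∃ h ∈ HX, x = h * bX ^ k := by
    intro x
    obtain ⟨⟨h, hh⟩, he⟩ := hsurj (π x)
    obtain ⟨k, hk⟩ := hπeq h x he
    exact ⟨k, h, hh, Subtype.ext hk⟩
  haveI : HX.Normal := ⟨fun n hn x => by
    obtain ⟨k, h, hh, rfl⟩ := hdec x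
    have hc : Commute (bX ^ k) n := (show Commute bX n from Subtype.ext (hmX.1 n.2).symm).pow_left k
    rw [show h * bX ^ k * n * (h * bX ^ k)⁻¹ = h * (bX ^ k * n * (bX ^ k)⁻¹) * h⁻¹ by group, hc.eq,
      mul_inv_cancel_right]
    exact mul_mem (mul_mem hh hn) (inv_mem hh)⟩
  haveI := CfsgLib.J2.j2_simple
  haveI : Nontrivial HX := eHJ.toEquiv.nontrivial
  haveI : IsSimpleGroup HX :=
    IsSimpleGroup.isSimpleGroup_of_surjective eHJ.symm.toMonoidHom eHJ.symm.surjective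
  have hna : ¬ IsMulCommutative HX := by
    intro h
    obtain ⟨p, q, hpq⟩ := CfsgLib.J2.j2_nonabelian
    refine hpq (eHJ.symm.injective ?_)
    rw [map_mul, map_mul]
    exact mul_comm' _ _
  have hlayer : Cfsg.layer X = HX := by
    refine layer_eq_of_complement HX hna fun K hK => ?_
    have hKN : K ≤ N := by
      intro x hx
      obtain ⟨k, h, hh, rfl⟩ := hdec x
      have hcx := Subgroup.mem_centralizer_iff.1 (hK hx)
      have hcen : (⟨h, hh⟩ : HX) ∈ Subgroup.center HX := Subgroup.mem_center_iff.2 fun w => by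
        refine Subtype.ext ?_
        show (w : X) * h = h * w
        have h1 : (w : X) * (h * bX ^ k) = h * bX ^ k * w := hcx w w.2
        have hc : Commute (bX ^ k) (w : X) :=
          (show Commute bX (w : X) from Subtype.ext (hmX.1 (w : X).2).symm).pow_left k
        rw [mul_assoc h, hc.eq, ← mul_assoc, ← mul_assoc] at h1
        exact mul_right_cancel h1
      rcases IsSimpleGroup.eq_bot_or_eq_top_of_normal (Subgroup.center HX) inferInstance with e | e
      · rw [e, Subgroup.mem_bot] at hcen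
        have : h = 1 := congrArg Subtype.val hcen
        rw [this, one_mul]
        exact Subgroup.npow_mem_zpowers bX k
      · exact absurd ⟨⟨fun a c => Subgroup.mem_center_iff.1
          (e ▸ Subgroup.mem_top c : c ∈ Subgroup.center HX) a⟩⟩ hna
    letI : CommGroup K :=
      { (inferInstance : Group K) with
        mul_comm := fun a c => by
          obtain ⟨i, hi⟩ := Subgroup.mem_zpowers_iff.1 (hKN a.2)
          obtain ⟨j, hj⟩ := Subgroup.mem_zpowers_iff.1 (hKN c.2)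
          refine Subtype.ext ?_
          show (a : X) * c = c * a
          rw [← hi, ← hj]
          exact ((Commute.refl bX).zpow_zpow i j).eq }
    infer_instance
  rw [hlayer]
  refine ⟨⟨eHJ⟩, ?_⟩
  rw [Subgroup.map_subgroupOf_eq_of_le hHX, A.cent_cent W]
  exact ⟨eY⟩

end Five

end CfsgLib.Small.ConTwo
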