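import Cfsg.Agent.Lib.Small.ConTwo.FiveBasic

/-!
An element of order five of the centraliser of `z` over a fixed map, and the centraliser of it
there.
-/

set_option autoImplicit false
set_option maxRecDepth 100000

namespace CfsgLib.Small.ConTwo

open Equiv
open scoped commutatorElement

variable {G : Type*} [Group G]

theorem Model.half {z : G} {Q : Subgroup G} {f : G → V8} {ρ : Cz z →* Perm V8}
    (M : Model z Q f ρ) : Half ρ.range := by
  have htr : ∀ a : V8, qb a = true → trP a ∉ ρ.range := by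
    intro a ha hmem
    have hsq : trP a * trP a = 1 := Equiv.ext fun v => tr_tr a v
    have h0 : bl a a = false := bl_self a
    obtain ⟨w, hw⟩ : ∃ w, bl w a = true := by
      by_contra hne
      push Not at hne
      have := bl_nondeg a fun j => by rw [bl_comm]; exact Bool.eq_false_iff.2 (hne (ev j))
      rw [this, qb_zero] at ha
      cases ha
    have hne : trP a ≠ 1 := fun h => by
      have h1 : tr a w = w := congrArg (fun π : Perm V8 => π w) h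
      have h2 := congrArg (vadd w) h1
      rw [tr, vadd_cancel, vadd_self, hw] at h2
      have : a = 0 := h2
      rw [this, qb_zero] at ha
      cases ha
    obtain ⟨c, hc, l, hl, he⟩ := M.invol _ hmem hsq hne
    obtain ⟨L, B, D⟩ := reps_data l hl
    obtain ⟨v, v', hv, hv', hvv'⟩ := D.two
    have hcO := M.range_le hc
    have key : ∀ x, vadd x (wap l x) ≠ 0 → vadd x (wap l x) = c a := by
      intro x hx
      have e := D.conj_vals hcO he (c⁻¹ x)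
      rw [pinv] at e
      change c (vadd (c⁻¹ x) (tr a (c⁻¹ x))) = _ at e
      rw [tr, vadd_cancel] at e
      cases hb : bl (c⁻¹ x) a
      · rw [hb] at e
        exact absurd (e.symm.trans (O_zero hcO)) hx
      · rw [hb] at e
        exact e.symm
    exact hvv' ((key v hv).trans (key v' hv').symm)
  refine ⟨M.range_le, fun {x y} hx hy hxR hyR => ?_, htr⟩
  have h1 := (ρ.range.subgroupOf O).card_mul_index
  rw [Nat.card_congr (Subgroup.subgroupOfEquivOfLe M.range_le).toEquiv, M.ρ_card] at h1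
  have h2 := card_O_le
  have h3 : (ρ.range.subgroupOf O).index ≠ 0 := Subgroup.index_ne_zero_of_finite
  rcases (show (ρ.range.subgroupOf O).index = 1 ∨ (ρ.range.subgroupOf O).index = 2 by omega)
    with hi | hi
  · rw [Subgroup.index_eq_one] at hi
    have : (⟨x, hx⟩ : O) ∈ ρ.range.subgroupOf O := hi ▸ Subgroup.mem_top _
    exact absurd this hxR
  · have h := Subgroup.mul_mem_iff_of_index_two hi (a := (⟨x, hx⟩ : O)) (b := ⟨y, hy⟩)
    simp only [Subgroup.mem_subgroupOf, Subgroup.coe_mul, hxR, hyR, iff_self, iff_true] at h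
    exact h

/-- The data of the element of order five. -/
structure Five (z : G) (Q : Subgroup G) (f : G → V8) (ρ : Cz z →* Perm V8) (b : G) : Prop where
  M : Model z Q f ρ
  img : Img ρ b pi5
  pow : b ^ 5 = 1

namespace Five

variable {z : G} {Q : Subgroup G} {f : G → V8} {ρ : Cz z →* Perm V8} {b : G}
  (A : Five z Q f ρ b)

/-- The part of `Q` centralising `b`. -/
def Qb (Q : Subgroup G) (b : G) : Subgroup G := Q ⊓ Subgroup.centralizer {b}

/-- The centraliser of `z` and `b`. -/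
def C1 (z b : G) : Subgroup G := Cz z ⊓ Subgroup.centralizer {b}

/-- Its derived subgroup. -/
def L0 (z b : G) : Subgroup G := ⁅C1 z b, C1 z b⁆

/-- The centraliser of the part of `Q` centralising `b`. -/
def D2 (z : G) (Q : Subgroup G) (b : G) : Subgroup G :=
  Cz z ⊓ Subgroup.centralizer (Qb Q b : Set G)

include A

theorem orderOf_b : orderOf b = 5 := by
  haveI : Fact (Nat.Prime 5) := ⟨by norm_num⟩
  exact orderOf_eq_prime A.pow fun h => pi5_ne (A.img.unique (h ▸ Img.one))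

theorem orderOf_pi5 : orderOf pi5 = 5 := by
  haveI : Fact (Nat.Prime 5) := ⟨by norm_num⟩
  exact orderOf_eq_prime pi5_pow pi5_ne

theorem b_pow_eq {i j : ℕ} (h : pi5 ^ i = pi5 ^ j) : b ^ i = b ^ j := by
  rw [pow_inj_mod, A.orderOf_pi5] at h
  rw [pow_inj_mod, A.orderOf_b]
  exact h

theorem b_mem_C1 : b ∈ C1 z b :=
  ⟨A.img.mem, Subgroup.mem_centralizer_singleton_iff.2 rfl⟩

theorem fix_iff {q : G} (hq : q ∈ Q) :
    q * b = b * q ↔ ∀ j, bl (f q) (p2 j) = false := by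
  rw [← pi5_vals.2.2.1]
  constructor
  · intro h
    rw [← A.M.img_conj A.img hq, ← h, mul_inv_cancel_right]
  · intro h
    rw [← A.M.img_conj A.img hq] at h
    rcases A.M.f_eq hq (A.M.normal b A.img.mem q hq) h.symm with e | e
    · exact (mul_inv_eq_iff_eq_mul.1 e).symm
    · exfalso
      have hz := mem_Cz.1 A.img.mem
      have hit : ∀ n : ℕ, b ^ n * q * (b ^ n)⁻¹ = q * z ^ n := by
        intro n
        induction n with
        | zero => simp
        | succ n ih =>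
          calc b ^ (n + 1) * q * (b ^ (n + 1))⁻¹ = b * (b ^ n * q * (b ^ n)⁻¹) * b⁻¹ := by
                rw [pow_succ']; group
            _ = b * q * b⁻¹ * (b * z ^ n * b⁻¹) := by rw [ih]; group
            _ = q * z * z ^ n := by
                rw [e, ((show Commute b z from hz).pow_right n).eq, mul_inv_cancel_right]
            _ = _ := by rw [pow_succ' z n, mul_assoc]
      have h5 := hit 5
      rw [A.pow, one_mul, inv_one, mul_one] at h5
      have : z ^ 5 = 1 := mul_left_cancel (h5.symm.trans (mul_one q).symm)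
      rw [show z ^ 5 = (z * z) * (z * z) * z by simp [pow_succ, mul_assoc], A.M.zz, one_mul, one_mul] at this
      exact A.M.z_ne this

theorem mem_Qb {q : G} : q ∈ Qb Q b ↔ q ∈ Q ∧ ∀ j, bl (f q) (p2 j) = false :=
  ⟨fun h => ⟨h.1, (A.fix_iff h.1).1 (Subgroup.mem_centralizer_singleton_iff.1 h.2)⟩,
    fun h => ⟨h.1, Subgroup.mem_centralizer_singleton_iff.2 ((A.fix_iff h.1).2 h.2)⟩⟩

theorem z_Qb : z ∈ Qb Q b :=
  A.mem_Qb.2 ⟨A.M.z_mem, fun j => by rw [A.M.f_z]; simp [bl, pr, bit_zero]⟩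

theorem exists_p1 (i : Fin 5) : ∃ q ∈ Qb Q b, f q = p1 i := by
  obtain ⟨q, hq, hf⟩ := A.M.f_surj (p1 i)
  exact ⟨q, A.mem_Qb.2 ⟨hq, fun j => by rw [hf]; exact pent1.perp i j⟩, hf⟩

theorem Qb_conj {x q : G} (hx : x ∈ C1 z b) (hq : q ∈ Qb Q b) : x * q * x⁻¹ ∈ Qb Q b := by
  refine ⟨A.M.normal x hx.1 q hq.1, ?_⟩
  exact (Subgroup.centralizer ({b} : Set G)).mul_mem (mul_mem hx.2 hq.2) (inv_mem hx.2)

theorem Qb_le_C1 : Qb Q b ≤ C1 z b := fun _ h => ⟨A.M.le h.1, h.2⟩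

theorem img_comm {x : G} {π : Perm V8} (hI : Img ρ x π) (hx : x * b = b * x) :
    π * pi5 = pi5 * π := by
  refine (hI.mul A.img).unique ?_
  rw [hx]
  exact A.img.mul hI

/-- The preimage of the group generated by the map of order five. -/
theorem conj_five [Finite G] (T : Subgroup G) {x : G} (hxT : x ∈ T) (hbT : b ∈ T) (hx5 : x ^ 5 = 1)
    (hx1 : x ≠ 1) {i : ℕ} (hI : Img ρ x (pi5 ^ i)) :
    ∃ h ∈ T, ∃ k m : ℕ, Img ρ h (pi5 ^ k) ∧ h * x * h⁻¹ = b ^ m := by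
  haveI : Fact (Nat.Prime 5) := ⟨by norm_num⟩
  let H0 : Subgroup G := ((Subgroup.zpowers pi5).comap ρ).map (Cz z).subtype
  have hH0 : Nat.card H0 = 5 * 512 := by
    let φ := ρ.subgroupComap (Subgroup.zpowers pi5)
    have hsurj : Function.Surjective φ := fun y => by
      obtain ⟨hx, he⟩ := A.img
      obtain ⟨n, hn⟩ := y.2
      refine ⟨⟨(⟨b, hx⟩ : Cz z) ^ n, ?_⟩, Subtype.ext ?_⟩
      · show ρ ((⟨b, hx⟩ : Cz z) ^ n) ∈ Subgroup.zpowers pi5
        rw [map_zpow, he]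
        exact ⟨n, rfl⟩
      · show ρ ((⟨b, hx⟩ : Cz z) ^ n) = y
        rw [map_zpow, he]
        exact hn
    have hker : Nat.card φ.ker = 512 := by
      rw [← A.M.card]
      refine Nat.card_congr ⟨fun k => ⟨(k.1.1 : G), (A.M.ρ_ker k.1.1).1 ?_⟩,
        fun q => ⟨⟨⟨q, A.M.le q.2⟩, ?_⟩, ?_⟩, fun k => rfl, fun q => rfl⟩
      · exact congrArg Subtype.val k.2
      · show ρ ⟨q, A.M.le q.2⟩ ∈ Subgroup.zpowers pi5
        rw [(A.M.ρ_ker ⟨q, A.M.le q.2⟩).2 q.2]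
        exact one_mem _
      · exact Subtype.ext ((A.M.ρ_ker ⟨q, A.M.le q.2⟩).2 q.2)
    rw [Subgroup.card_map_of_injective (Cz z).subtype_injective,
      Subgroup.card_eq_card_quotient_mul_card_subgroup φ.ker,
      Nat.card_congr (QuotientGroup.quotientKerEquivOfSurjective φ hsurj).toEquiv, hker,
      Nat.card_zpowers, A.orderOf_pi5]
  have hmem : ∀ {y : G} {n : ℕ}, Img ρ y (pi5 ^ n) → y ∈ H0 := by
    rintro y n ⟨hy, he⟩
    refine ⟨⟨y, hy⟩, ?_, rfl⟩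
    show ρ ⟨y, hy⟩ ∈ Subgroup.zpowers pi5
    rw [he]
    exact Subgroup.npow_mem_zpowers _ _
  let H : Subgroup G := T ⊓ H0
  have hb0 : b ∈ H0 := hmem (n := 1) (by rw [pow_one]; exact A.img)
  let xH : H := ⟨x, hxT, hmem hI⟩
  let bH : H := ⟨b, hbT, hb0⟩
  have hd : Nat.card H ∣ 5 * 512 := hH0 ▸ Subgroup.card_dvd_of_le inf_le_right
  have hxo : orderOf xH = 5 := by
    rw [← Subgroup.orderOf_coe]; exact orderOf_eq_prime hx5 hx1
  have h5 : 5 ∣ Nat.card H := hxo ▸ orderOf_dvd_natCard xH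
  have hbo : orderOf bH = 5 := by rw [← Subgroup.orderOf_coe]; exact A.orderOf_b
  have hf : (Nat.card H).factorization 5 = 1 := by
    have hpos : 0 < Nat.card H := Nat.card_pos
    obtain ⟨m, hm⟩ := h5
    rw [hm] at hd hpos ⊢
    have hm512 : m ∣ 512 := Nat.dvd_of_mul_dvd_mul_left (by norm_num) hd
    have h5m : ¬ 5 ∣ m := fun h => absurd (h.trans hm512) (by norm_num)
    rw [Nat.factorization_mul (by norm_num) (by omega), Finsupp.add_apply,
      Nat.Prime.factorization_self (by norm_num), Nat.factorization_eq_zero_of_not_dvd h5m]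
  have mk : ∀ y : H, orderOf y = 5 →
      Nat.card (Subgroup.zpowers y) = 5 ^ (Nat.card H).factorization 5 := by
    intro y hy
    rw [hf, pow_one, Nat.card_zpowers, hy]
  obtain ⟨h, hh⟩ := MulAction.exists_smul_eq H (Sylow.ofCard (Subgroup.zpowers xH) (mk xH hxo))
    (Sylow.ofCard (Subgroup.zpowers bH) (mk bH hbo))
  have h' := congrArg (fun S : Sylow 5 H => (S : Subgroup H)) hh
  simp only [Sylow.coe_subgroup_smul, Sylow.coe_ofCard] at h'
  have hm : h * xH * h⁻¹ ∈ Subgroup.zpowers bH := by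
    rw [← h']
    exact Subgroup.mem_map.2 ⟨xH, Subgroup.mem_zpowers _, rfl⟩
  obtain ⟨m, hm⟩ := mem_powers_iff_mem_zpowers.2 hm
  obtain ⟨hk0, hk, hkv⟩ := h.2.2
  have hk' : ρ hk0 ∈ Subgroup.zpowers pi5 := hk
  obtain ⟨k, hk''⟩ := mem_powers_iff_mem_zpowers.2 hk'
  refine ⟨h, h.2.1, k, m, ?_, (congrArg Subtype.val hm).symm⟩
  have hkv' : (hk0 : G) = (h : G) := hkv
  rw [← hkv']
  exact ⟨hk0.2, hk''.symm⟩

/-- A lift inducing a given power on `b`, inside a given subgroup. -/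
theorem lift_comm [Finite G] (T : Subgroup G) (hbT : b ∈ T) {x : G} {π : Perm V8}
    (hI : Img ρ x π) (hxT : x ∈ T) {j : ℕ} (hc : π * pi5 * π⁻¹ = pi5 ^ j) :
    ∃ y ∈ T, Img ρ y π ∧ y * b * y⁻¹ = b ^ j := by
  have hy : Img ρ (x * b * x⁻¹) (pi5 ^ j) := by
    have h := A.img.conj hI
    rwa [hc] at h
  obtain ⟨h, hhT, k, m, hhI, he⟩ := A.conj_five T (mul_mem (mul_mem hxT hbT) (inv_mem hxT)) hbT
    (by rw [conj_pow, A.pow, mul_one, mul_inv_cancel])
    (fun h => by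
      have := conj_eq_one_iff.1 h
      exact pi5_ne (A.img.unique (this ▸ Img.one))) hy
  have hjm : pi5 ^ j = pi5 ^ m := by
    have h1 := hy.conj hhI
    rw [he] at h1
    have h2 := A.img.pow m
    rw [h2.unique h1, ((Commute.refl pi5).pow_pow k j).eq, mul_inv_cancel_right]
  refine ⟨(b ^ k)⁻¹ * h * x, mul_mem (mul_mem (inv_mem (pow_mem hbT k)) hhT) hxT, ?_, ?_⟩
  · have h1 := ((A.img.pow k).inv.mul hhI).mul hI
    rwa [inv_mul_cancel, one_mul] at h1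
  · rw [A.b_pow_eq hjm]
    calc (b ^ k)⁻¹ * h * x * b * ((b ^ k)⁻¹ * h * x)⁻¹
        = (b ^ k)⁻¹ * (h * (x * b * x⁻¹) * h⁻¹) * b ^ k := by group
      _ = (b ^ k)⁻¹ * (b ^ m * b ^ k) := by rw [he, mul_assoc]
      _ = b ^ m := by rw [← pow_add, add_comm, pow_add, inv_mul_cancel_left]

theorem K1_lift [Finite G] {π : Perm V8} (hπ : π ∈ Pent.Kfix ρ.range p2) :
    ∃ x ∈ C1 z b, Img ρ x π := by
  have hK1 : pi5 ∈ Pent.Kfix ρ.range p1 := ⟨pi5_mem A.M.half, pi5_vals.1⟩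
  have hc := Kfix_comm A.M.half hK1 hπ.1 hπ.2
  obtain ⟨x, hx⟩ := exists_img hπ.1
  obtain ⟨y, -, hy, hyb⟩ := A.lift_comm ⊤ trivial hx trivial (j := 1) (by
    rw [← hc, mul_inv_cancel_right, pow_one])
  rw [pow_one] at hyb
  exact ⟨y, ⟨hy.mem, Subgroup.mem_centralizer_singleton_iff.2 (mul_inv_eq_iff_eq_mul.1 hyb)⟩, hy⟩

theorem C1_act {x : G} (hx : x ∈ C1 z b) :
    ∃ π, Img ρ x π ∧ ∃ (k : ℕ) (e : Perm (Fin 5)), Equiv.Perm.sign e = 1 ∧
      (∀ i, π (p1 i) = p1 (e i)) ∧ ∀ j, π (p2 j) = (pi5 ^ k) (p2 j) :=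
  ⟨_, Img.mk' hx.1, cent_pi5 A.M.half ⟨_, rfl⟩
    (A.img_comm (Img.mk' hx.1) (Subgroup.mem_centralizer_singleton_iff.1 hx.2))⟩

theorem C1_rep {x : G} (hx : x ∈ C1 z b) : ∃ k : ℕ, ∃ π ∈ Pent.Kfix ρ.range p2,
    Img ρ ((b ^ k)⁻¹ * x) π := by
  obtain ⟨π, hI, k, e, -, -, h2⟩ := A.C1_act hx
  have h := (A.img.pow k).inv.mul hI
  exact ⟨k, _, ⟨h.mem_range, fun j => by
    rw [Perm.mul_apply, h2]; exact (pi5 ^ k).symm_apply_apply _⟩, h⟩

theorem L0_fix {x : G} (hx : x ∈ L0 z b) :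
    ∃ π ∈ Pent.Kfix ρ.range p2, Img ρ x π := by
  let S : Subgroup G := ((Pent.Kfix ρ.range p2).comap ρ).map (Cz z).subtype
  suffices h : L0 z b ≤ S by
    obtain ⟨c, hc, rfl⟩ := h hx
    exact ⟨_, hc, c.2, rfl⟩
  refine Subgroup.commutator_le.2 fun a ha c hc => ?_
  obtain ⟨π, hI, k, -, -, -, h2⟩ := A.C1_act ha
  obtain ⟨σ, hJ, m, -, -, -, k2⟩ := A.C1_act hc
  obtain ⟨hm, he⟩ : Img ρ ⁅a, c⁆ (π * σ * π⁻¹ * σ⁻¹) := by
    rw [commutatorElement_def]; exact ((hI.mul hJ).mul hI.inv).mul hJ.inv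
  refine ⟨⟨_, hm⟩, ?_, rfl⟩
  show ρ _ ∈ Pent.Kfix ρ.range p2
  rw [he]
  refine ⟨he ▸ ⟨_, rfl⟩, ?_⟩
  have key : ∀ {π σ : Perm V8} (k m : ℕ), (∀ j, π (p2 j) = (pi5 ^ k) (p2 j)) →
      (∀ j, σ (p2 j) = (pi5 ^ m) (p2 j)) → ∀ j, (π * σ) (p2 j) = (pi5 ^ (k + m)) (p2 j) := by
    intro π σ k m h h' j
    rw [Perm.mul_apply, h', pi5_pow_p2, h, pi5_pow_p2, pi5_pow_p2, pow_add, Perm.mul_apply]
  intro j
  show (π * σ * π⁻¹ * σ⁻¹) (p2 j) = p2 j
  have h3 : ∀ j, (π * σ) (p2 j) = (σ * π) (p2 j) := fun j => by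
    rw [key k m h2 k2, key m k k2 h2, add_comm]
  let d : Perm (Fin 5) := c5 ^ (m + k)
  have hd : ∀ j, (σ * π) (p2 j) = p2 (d j) := fun j => by rw [key m k k2 h2, pi5_pow_p2]
  have e1 : (σ * π) (p2 (d⁻¹ j)) = p2 j := by rw [hd, pinv]
  calc (π * σ * π⁻¹ * σ⁻¹) (p2 j) = (π * σ) ((σ * π)⁻¹ ((σ * π) (p2 (d⁻¹ j)))) := by
        rw [e1, mul_inv_rev]; rfl
    _ = (π * σ) (p2 (d⁻¹ j)) := by rw [show (σ * π)⁻¹ ((σ * π) (p2 (d⁻¹ j))) = p2 (d⁻¹ j) from
        (σ * π).symm_apply_apply _]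
    _ = p2 j := by rw [h3, e1]

theorem L0_le : L0 z b ≤ C1 z b :=
  Subgroup.commutator_le.2 fun a ha c hc => by
    rw [commutatorElement_def]
    exact mul_mem (mul_mem (mul_mem ha hc) (inv_mem ha)) (inv_mem hc)

theorem K1_img [Finite G] {π : Perm V8} (hπ : π ∈ Pent.Kfix ρ.range p2) :
    ∃ l ∈ L0 z b, Img ρ l π := by
  let S : Subgroup (Perm V8) := ((L0 z b).subgroupOf (Cz z)).map ρ
  suffices h : Pent.Kfix ρ.range p2 ≤ S by
    obtain ⟨c, hc, rfl⟩ := h hπ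
    exact ⟨c, hc, c.2, rfl⟩
  obtain ⟨e⟩ := pent1.Kfix_iso pent2 A.M.half
  have hperf : ⁅Pent.Kfix ρ.range p2, Pent.Kfix ρ.range p2⁆ = Pent.Kfix ρ.range p2 := by
    have hA : commutator (alternatingGroup (Fin 5)) = ⊤ :=
      commutator_alternatingGroup_eq_top (by simp)
    have h : commutator (Pent.Kfix ρ.range p2) = ⊤ := by
      have h1 := congrArg (Subgroup.map e.symm.toMonoidHom) hA
      rwa [commutator_def, Subgroup.map_commutator,
        Subgroup.map_top_of_surjective _ e.symm.surjective, ← commutator_def] at h1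
    have h2 := congrArg (Subgroup.map (Pent.Kfix ρ.range p2).subtype) h
    rwa [commutator_def, Subgroup.map_commutator, ← MonoidHom.range_eq_map,
      Subgroup.range_subtype] at h2
  rw [← hperf]
  refine Subgroup.commutator_le.2 fun s hs t ht => ?_
  obtain ⟨x, hx, hxI⟩ := A.K1_lift hs
  obtain ⟨y, hy, hyI⟩ := A.K1_lift ht
  have hm : ⁅x, y⁆ ∈ L0 z b := Subgroup.commutator_mem_commutator hx hy
  obtain ⟨h1, h2⟩ : Img ρ ⁅x, y⁆ ⁅s, t⁆ := by
    rw [commutatorElement_def, commutatorElement_def]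
    exact ((hxI.mul hyI).mul hxI.inv).mul hyI.inv
  exact ⟨⟨_, h1⟩, hm, h2⟩

theorem Qb_le_L0 [Finite G] : Qb Q b ≤ L0 z b := by
  have hcomm : ∀ {x q : G}, x ∈ C1 z b → q ∈ Qb Q b → x * q * x⁻¹ * q⁻¹ ∈ L0 z b := by
    intro x q hx hq
    rw [← commutatorElement_def]
    exact Subgroup.commutator_mem_commutator hx (A.Qb_le_C1 hq)
  have hz : z ∈ L0 z b := by
    obtain ⟨q, hq, hqf⟩ := A.exists_p1 0
    obtain ⟨r, hr, hrf⟩ := A.exists_p1 1
    have h := hcomm (A.Qb_le_C1 hr) hq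
    rwa [show r * q * r⁻¹ * q⁻¹ = (r * q) * (q * r)⁻¹ by group, A.M.comm hq.1 hr.1, hqf, hrf,
      show bl (p1 0) (p1 1) = true by decide +kernel, zp_true, mul_inv_cancel_right] at h
  have hval : ∀ v, ∀ q ∈ Q, f q = v → (∃ r ∈ L0 z b, r ∈ Q ∧ f r = v) → q ∈ L0 z b := by
    rintro v q hq hqf ⟨r, hr, hrQ, hrf⟩
    rcases A.M.f_eq hrQ hq (hrf.trans hqf.symm) with rfl | rfl
    · exact hr
    · exact mul_mem hr hz
  have hpair : ∀ i k : Fin 5, ∃ r ∈ L0 z b, r ∈ Q ∧ f r = vadd (p1 k) (p1 i) := by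
    intro i k
    obtain ⟨e, he, hek⟩ : ∃ e : Perm (Fin 5), Equiv.Perm.sign e = 1 ∧ e i = k := by
      revert i k; decide +kernel
    obtain ⟨π, hπ, h1, h2⟩ := pent1.exists_R pent2 A.M.half (e := e) (e' := 1)
      (by rw [he, map_one])
    obtain ⟨x, hx, hxI⟩ := A.K1_lift ⟨hπ, h2⟩
    obtain ⟨q, hq, hqf⟩ := A.exists_p1 i
    have hc := A.M.normal x hx.1 q hq.1
    refine ⟨_, hcomm hx hq, mul_mem hc (inv_mem hq.1), ?_⟩
    rw [A.M.f_mul _ hc _ (inv_mem hq.1), A.M.img_conj hxI hq.1, A.M.f_inv hq.1, hqf, h1, hek]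
  intro q hq
  obtain ⟨hqQ, hperp⟩ := A.mem_Qb.1 hq
  have hcases : f q = 0 ∨ (∃ i k, f q = vadd (p1 i) (p1 k)) ∨
      ∃ i k l m, f q = vadd (vadd (p1 i) (p1 k)) (vadd (p1 l) (p1 m)) := by
    revert hperp
    generalize f q = v
    revert v
    decide +kernel
  rcases hcases with h | ⟨i, k, h⟩ | ⟨i, k, l, m, h⟩
  · exact hval _ q hqQ h ⟨1, one_mem _, one_mem _, A.M.f_one⟩
  · exact hval _ q hqQ h (hpair k i)
  · obtain ⟨r, hr, hrQ, hrf⟩ := hpair k i
    obtain ⟨s, hs, hsQ, hsf⟩ := hpair m l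
    exact hval _ q hqQ h ⟨r * s, mul_mem hr hs, mul_mem hrQ hsQ, by
      rw [A.M.f_mul r hrQ s hsQ, hrf, hsf]⟩

theorem z_L0 [Finite G] : z ∈ L0 z b := A.Qb_le_L0 A.z_Qb

theorem C1_decomp [Finite G] {x : G} (hx : x ∈ C1 z b) : ∃ k : ℕ, ∃ l ∈ L0 z b, x = b ^ k * l := by
  obtain ⟨k, π, hπ, hI⟩ := A.C1_rep hx
  obtain ⟨l, hl, hlI⟩ := A.K1_img hπ
  obtain ⟨q, hq, he⟩ := A.M.img_same hlI hI
  have hq1 : q ∈ C1 z b := by
    rw [show q = l⁻¹ * ((b ^ k)⁻¹ * x) by rw [he, inv_mul_cancel_left]]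
    exact mul_mem (inv_mem (A.L0_le hl)) (mul_mem (inv_mem (pow_mem A.b_mem_C1 k)) hx)
  refine ⟨k, l * q, mul_mem hl (A.Qb_le_L0 ⟨hq, hq1.2⟩), ?_⟩
  rw [← he, mul_inv_cancel_left]

theorem L0_perfect [Finite G] : L0 z b ≤ ⁅L0 z b, L0 z b⁆ := by
  refine Subgroup.commutator_le.2 fun x hx y hy => ?_
  obtain ⟨i, l, hl, rfl⟩ := A.C1_decomp hx
  obtain ⟨j, m, hm, rfl⟩ := A.C1_decomp hy
  have hcl : ∀ l ∈ L0 z b, Commute b l := fun l hl =>
    (Subgroup.mem_centralizer_singleton_iff.1 (A.L0_le hl).2).symm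
  have h1 : Commute (b ^ i) (b ^ j) := (Commute.refl b).pow_pow i j
  have h2 : Commute (b ^ i) m := (hcl m hm).pow_left i
  have h3 : Commute (b ^ j) l := (hcl l hl).pow_left j
  have : ⁅b ^ i * l, b ^ j * m⁆ = ⁅l, m⁆ := by
    rw [commutatorElement_def, commutatorElement_def]
    calc b ^ i * l * (b ^ j * m) * (b ^ i * l)⁻¹ * (b ^ j * m)⁻¹
        = b ^ i * (l * b ^ j) * m * l⁻¹ * (b ^ i)⁻¹ * (m⁻¹ * (b ^ j)⁻¹) := by group
      _ = b ^ i * b ^ j * (l * m * l⁻¹ * ((b ^ i)⁻¹ * m⁻¹)) * (b ^ j)⁻¹ := by rw [← h3.eq]; group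
      _ = b ^ j * (b ^ i * (l * m * l⁻¹ * m⁻¹)) * (b ^ i)⁻¹ * (b ^ j)⁻¹ := by
          rw [h1.eq, (h2.inv_right).inv_left.eq]; group
      _ = _ := by
          have hc : ∀ n, Commute (b ^ n) (l * m * l⁻¹ * m⁻¹) := fun n =>
            ((((hcl l hl).pow_left n).mul_right ((hcl m hm).pow_left n)).mul_right
              ((hcl l hl).pow_left n).inv_right).mul_right ((hcl m hm).pow_left n).inv_right
          rw [(hc i).eq, ← mul_assoc (b ^ j), mul_inv_cancel_right, (hc j).eq, mul_inv_cancel_right]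
  rw [this]
  exact Subgroup.commutator_mem_commutator hl hm

theorem mem_L0_of_pow [Finite G] {x : G} (hx : x ∈ C1 z b) {n : ℕ} (hn : x ^ n = 1)
    (h5 : Nat.Coprime n 5) : x ∈ L0 z b := by
  obtain ⟨k, l, hl, rfl⟩ := A.C1_decomp hx
  have hc : Commute (b ^ k) l :=
    (show Commute b l from (Subgroup.mem_centralizer_singleton_iff.1 (A.L0_le hl).2).symm).pow_left k
  rw [hc.mul_pow, ← pow_mul] at hn
  obtain ⟨π, hπ, hI⟩ := A.L0_fix hl
  have h := (((A.img.pow (k * n)).mul (hI.pow n)).unique (hn ▸ Img.one))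
  have hπn := pow_mem hπ n
  have h0 := congrArg (fun π : Perm V8 => π (p2 0)) h
  simp only [Perm.mul_apply, hπn.2, Perm.one_apply, pi5_pow_p2] at h0
  have hk : (c5 ^ (k * n)) 0 = 0 := pent2.inj h0
  have h55 : ∀ r : Fin 5, (c5 ^ r.val) 0 = 0 → r = 0 := by decide +kernel
  have hc5 : c5 ^ 5 = 1 := by decide +kernel
  have hmod : (k * n) % 5 = 0 := by
    have := h55 ⟨(k * n) % 5, Nat.mod_lt _ (by norm_num)⟩ (by
      show (c5 ^ ((k * n) % 5)) 0 = 0
      rw [← pow_eq_pow_mod _ hc5]; exact hk)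
    simpa using congrArg Fin.val this
  have hk5 : 5 ∣ k := (Nat.Coprime.dvd_of_dvd_mul_right h5.symm (Nat.dvd_of_mod_eq_zero hmod))
  obtain ⟨t, rfl⟩ := hk5
  rwa [pow_mul, A.pow, one_pow, one_mul]

end Five

end CfsgLib.Small.ConTwo
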