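import Cfsg.Agent.Lib.Small.ConTwo.Fuse

/-!
The ambient group has exactly three classes of involutions.
-/

set_option autoImplicit false

namespace CfsgLib.Small.ConTwo

open Equiv

namespace Model

variable {G : Type*} [Group G] {z : G} {Q : Subgroup G} {f : G → V8}
  {ρ : Cz z →* Perm V8} (M : Model z Q f ρ)

include M

/-- There are exactly three classes of involutions. -/
theorem three_classes [Finite G] : ∃ a b c : G, orderOf a = 2 ∧ orderOf b = 2 ∧ orderOf c = 2 ∧
    ¬ IsConj a b ∧ ¬ IsConj a c ∧ ¬ IsConj b c ∧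
    ∀ x : G, orderOf x = 2 → IsConj x a ∨ IsConj x b ∨ IsConj x c := by
  obtain ⟨u, g, W⟩ := M.exists_Swap
  obtain ⟨k, b, T⟩ := M.exists_Two W
  refine ⟨z, k, b, M.ord, orderOf_eq_prime (by rw [sq, T.k_sq]) ?_,
    orderOf_eq_prime (by rw [sq, T.b_sq]) ?_, fun h => ?_, fun h => ?_, M.k_not_b W T,
    fun x hx => ?_⟩
  · exact fun e => dataA.ne_one (T.k_fn.1.unique (e.symm ▸ Img.one))
  · exact fun e => dataC.ne_one (T.b_fn.1.unique (e.symm ▸ Img.one))
  · obtain ⟨j, hj⟩ := isConj_iff.1 h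
    exact M.k_not_z T j hj
  · obtain ⟨j, hj⟩ := isConj_iff.1 h
    exact M.b_not_z T j hj
  have hx2 : x * x = 1 := by
    have := pow_orderOf_eq_one x
    rwa [hx, sq] at this
  exact M.cls W T hx2 fun e => by rw [e, orderOf_one] at hx; omega

end Model

end CfsgLib.Small.ConTwo
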