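import Cfsg.Agent.Lib.Small.ConTwo.FiveModel
import Cfsg.Agent.Lib.Small.ConTwo.Main

/-!
The elements centralising two exchanged parts centralised by an element of order five form an
alternating group of degree five.
-/

set_option autoImplicit false
set_option maxRecDepth 100000
set_option maxHeartbeats 1000000

namespace CfsgLib.Small.ConTwo

open Equiv
open scoped commutatorElement

/-- The vectors perpendicular to the second set. -/
theorem half_span : ∀ v : V8, (∀ j, bl v (p2 j) = false) → ∃ a b c d : Bool,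
    v = vadd (vadd (sel a (p1 0)) (sel b (p1 1))) (vadd (sel c (p1 2)) (sel d (p1 3))) := by
  decide +kernel

/-- A vector with prescribed values on four of the first set. -/
theorem half_dual : ∀ a b c d : Bool, ∃ v : V8,
    bl v (p1 0) = a ∧ bl v (p1 1) = b ∧ bl v (p1 2) = c ∧ bl v (p1 3) = d := by
  decide +kernel

theorem half_span' : ∀ v : V8, (∀ j, bl v (p1 j) = false) → ∃ a b c d : Bool,
    v = vadd (vadd (sel a (p2 0)) (sel b (p2 1))) (vadd (sel c (p2 2)) (sel d (p2 3))) := by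
  decide +kernel

theorem fix_of_perp {π : Perm V8} (hO : π ∈ O) (h : ∀ j, π (p2 j) = p2 j) {v : V8}
    (hv : ∀ j, bl v (p1 j) = false) : π v = v := by
  obtain ⟨a, b, c, d, rfl⟩ := half_span' v hv
  simp only [O_add hO, O_sel hO, h]

theorem comm_central {G : Type*} [Group G] {a c s t : G} (h1 : Commute s a) (h2 : Commute s c)
    (h3 : Commute t a) (h4 : Commute t c) (h5 : Commute s t) :
    ⁅s * a, t * c⁆ = ⁅a, c⁆ := by
  have hs : Commute s (a * c * a⁻¹ * c⁻¹) :=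
    ((h1.mul_right h2).mul_right h1.inv_right).mul_right h2.inv_right
  have ht : Commute t (a * c * a⁻¹ * c⁻¹) :=
    ((h3.mul_right h4).mul_right h3.inv_right).mul_right h4.inv_right
  rw [commutatorElement_def, commutatorElement_def, mul_inv_rev, mul_inv_rev]
  calc s * a * (t * c) * (a⁻¹ * s⁻¹) * (c⁻¹ * t⁻¹)
      = s * (a * t) * c * a⁻¹ * (s⁻¹ * c⁻¹) * t⁻¹ := by group
    _ = s * (t * (a * c * a⁻¹ * c⁻¹)) * s⁻¹ * t⁻¹ := by
        rw [← h3.eq, h2.inv_inv.eq]; group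
    _ = a * c * a⁻¹ * c⁻¹ := by
        rw [(hs.mul_left ht |> fun h => show s * (t * (a * c * a⁻¹ * c⁻¹)) =
          (a * c * a⁻¹ * c⁻¹) * (s * t) from (mul_assoc _ _ _).symm.trans h.eq), h5.eq,
          ← mul_assoc, mul_inv_cancel_right, mul_inv_cancel_right]

theorem sie_fix_p1 : ∀ w : V8, bl w pt = false → (∀ i, sie pt w (p1 i) = p1 i) →
    w = 0 ∨ w = pt := by
  decide +kernel

theorem sie_comm_pi5 : ∀ w : V8, bl w pt = false → (pi5 w = w ∨ pi5 w = vadd w pt) →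
    w = 0 ∨ w = pt ∨ ∃ w0 : V8, (w0 = 34 ∨ w0 = 70 ∨ w0 = 100) ∧
      (w = w0 ∨ w = vadd w0 pt) := by
  decide +kernel

theorem tau3_fix : ∀ v : V8, bl v pt = false → tau3 v = v →
    (∀ i, bl v (p1 i) = false) ∨ ∀ i, bl (vadd pt v) (p1 i) = false := by
  decide +kernel

theorem tau3_cycle : tau3 34 = 70 ∧ tau3 70 = 100 ∧ tau3 100 = 34 ∧ tau3 pt = pt := by
  decide +kernel

/-- The elements commuting with the map of order three and a translation fix a plane. -/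
theorem mem_oStab_of_comm {π : Perm V8} (hO : π ∈ O) (hpt : π pt = pt)
    (hτ : π * tau3 = tau3 * π) {w0 : V8} (hw0 : w0 = 34 ∨ w0 = 70 ∨ w0 = 100) {e : Bool}
    (he : π w0 = vadd w0 (sel e pt)) : π ∈ oStab [70, 34, 1] := by
  have hstep : ∀ v, π v = vadd v (sel e pt) → π (tau3 v) = vadd (tau3 v) (sel e pt) := by
    intro v hv
    rw [← Perm.mul_apply, hτ, Perm.mul_apply, hv, O_add tau3_O, O_sel tau3_O, tau3_cycle.2.2.2]
  have h1 := hstep _ he
  have h2 := hstep _ h1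
  have h34 : π 34 = vadd 34 (sel e pt) := by
    rcases hw0 with rfl | rfl | rfl
    · exact he
    · rwa [tau3_cycle.2.1, tau3_cycle.2.2.1] at h2
    · rwa [tau3_cycle.2.2.1] at h1
  have h70 : π 70 = vadd 70 (sel e pt) := tau3_cycle.1 ▸ hstep _ h34
  have h100 : π 100 = vadd 100 (sel e pt) := tau3_cycle.2.1 ▸ hstep _ h70
  have hs : (100 : V8) = vadd 34 70 := by decide +kernel
  have hlin : π 100 = vadd 100 (vadd (sel e pt) (sel e pt)) := by
    rw [hs, O_add hO, h34, h70, vadd_four]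
  rw [vadd_self, vadd_zero] at hlin
  rw [hlin] at h100
  cases e
  · exact ⟨⟨⟨hO, hpt⟩, h34.trans (vadd_zero _)⟩, h70.trans (vadd_zero _)⟩
  · exact absurd h100 (by decide +kernel)

/-- The stabiliser of the distinguished vector. -/
def ptStab (R : Subgroup (Perm V8)) : Subgroup (Perm V8) where
  carrier := {π | π ∈ R ∧ π pt = pt}
  one_mem' := ⟨one_mem R, rfl⟩
  mul_mem' := fun {a b} ha hb => ⟨mul_mem ha.1 hb.1, by rw [Perm.mul_apply, hb.2, ha.2]⟩
  inv_mem' := fun {a} ha => ⟨inv_mem ha.1, a.injective (by rw [pinv, ha.2])⟩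

theorem sing_count : ((List.finRange 256).filter fun v : V8 => !qb v && v != 0).length = 135 := by
  decide +kernel

namespace Model

variable {G : Type*} [Group G] {z : G} {Q : Subgroup G} {f : G → V8} {ρ : Cz z →* Perm V8}
  (M : Model z Q f ρ)

include M

theorem card_ptStab : Nat.card (ptStab ρ.range) = 1290240 := by
  classical
  have h1 := Subgroup.card_eq_card_quotient_mul_card_subgroup (MulAction.stabilizer ρ.range pt)
  rw [← Nat.card_congr (MulAction.orbitEquivQuotientStabilizer ρ.range pt), M.ρ_card] at h1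
  have horb : MulAction.orbit ρ.range pt =
      ((((List.finRange 256).filter fun v : V8 => !qb v && v != 0).toFinset : Finset V8) : Set V8) := by
    ext v
    rw [MulAction.mem_orbit_iff, Finset.mem_coe, List.mem_toFinset, List.mem_filter]
    simp only [List.mem_finRange, true_and, Bool.and_eq_true, Bool.not_eq_true', bne_iff_ne, ne_eq]
    constructor
    · rintro ⟨⟨π, hπ⟩, rfl⟩
      refine ⟨(O_q (M.range_le hπ) pt).trans pt_facts.1, fun h => pt_facts.2.1 ?_⟩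
      exact π.injective (h.trans (O_zero (M.range_le hπ)).symm)
    · rintro ⟨hs, h0⟩
      obtain ⟨l, hl, hlv⟩ := trans_pt v hs h0
      refine ⟨⟨(wperm l)⁻¹, inv_mem (M.word_mem l)⟩, ?_⟩
      show (wperm l)⁻¹ pt = v
      rw [← hlv, ← wperm_apply hl]
      exact (wperm l).symm_apply_apply v
  rw [horb, show ∀ S : Finset V8, Nat.card ↑(↑S : Set V8) = S.card from Nat.card_eq_finsetCard,
    List.card_toFinset, (List.nodup_finRange 256).filter _ |>.dedup,
    sing_count] at h1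
  have e : Nat.card (MulAction.stabilizer ρ.range pt) = Nat.card (ptStab ρ.range) :=
    Nat.card_congr ⟨fun π => ⟨π.1.1, π.1.2, π.2⟩, fun π => ⟨⟨π.1, π.2.1⟩, π.2.2⟩,
      fun _ => rfl, fun _ => rfl⟩
  omega

/-- A map of order five fixing the distinguished vector is conjugate to a power of the fixed one. -/
theorem sylow_pi5 {π : Perm V8} (hπ : π ∈ ρ.range) (hpt : π pt = pt) (h5 : π ^ 5 = 1)
    (h1 : π ≠ 1) : ∃ d ∈ ρ.range, d pt = pt ∧ ∃ i : ℕ, d * π * d⁻¹ = pi5 ^ i := by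
  haveI : Fact (Nat.Prime 5) := ⟨by norm_num⟩
  let S := ptStab ρ.range
  let a : S := ⟨π, hπ, hpt⟩
  let c : S := ⟨pi5, pi5_mem M.half, pi5_vals.1 0⟩
  have hao : orderOf a = 5 := by rw [← Subgroup.orderOf_coe]; exact orderOf_eq_prime h5 h1
  have hco : orderOf c = 5 := by
    rw [← Subgroup.orderOf_coe]; exact orderOf_eq_prime pi5_pow pi5_ne
  have hf : (Nat.card S).factorization 5 = 1 := by
    rw [show Nat.card S = 5 * 258048 by rw [M.card_ptStab],
      Nat.factorization_mul (by norm_num) (by norm_num), Finsupp.add_apply,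
      Nat.Prime.factorization_self (by norm_num),
      Nat.factorization_eq_zero_of_not_dvd (by norm_num)]
  have mk : ∀ y : S, orderOf y = 5 →
      Nat.card (Subgroup.zpowers y) = 5 ^ (Nat.card S).factorization 5 := by
    intro y hy
    rw [hf, pow_one, Nat.card_zpowers, hy]
  obtain ⟨d, hd⟩ := MulAction.exists_smul_eq S (Sylow.ofCard (Subgroup.zpowers a) (mk a hao))
    (Sylow.ofCard (Subgroup.zpowers c) (mk c hco))
  have h' := congrArg (fun P : Sylow 5 S => (P : Subgroup S)) hd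
  simp only [Sylow.coe_subgroup_smul, Sylow.coe_ofCard] at h'
  have hm : d * a * d⁻¹ ∈ Subgroup.zpowers c := by
    rw [← h']
    exact Subgroup.mem_map.2 ⟨a, Subgroup.mem_zpowers _, rfl⟩
  obtain ⟨i, hi⟩ := mem_powers_iff_mem_zpowers.2 hm
  exact ⟨d, d.2.1, d.2.2, i, (congrArg Subtype.val hi).symm⟩

/-- A lift of a map fixing `f u` centralising `u`. -/
theorem lift_u {u : G} (hu : u ∈ Q) (h0 : f u ≠ 0) {π : Perm V8} (hπ : π ∈ ρ.range)
    (hi : π (f u) = f u) : ∃ x : G, Img ρ x π ∧ x * u = u * x := by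
  obtain ⟨c, hc⟩ := exists_img hπ
  have h : f (c * u * c⁻¹) = f u := by rw [M.img_conj hc hu, hi]
  obtain ⟨s, hs, he⟩ := M.conj_same_f (M.normal c hc.mem u hu) hu h (h ▸ h0)
  refine ⟨s * c, ?_, ?_⟩
  · simpa using (M.img_q hs).mul hc
  · calc s * c * u = s * (c * u * c⁻¹) * s⁻¹ * (s * c) := by group
      _ = u * (s * c) := by rw [he]

end Model

namespace Five

variable {G : Type*} [Group G] {z : G} {Q : Subgroup G} {f : G → V8} {ρ : Cz z →* Perm V8} {b : G}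
  (A : Five z Q f ρ b)

/-- The intersection of the two exchanged centralisers. -/
def Ys (z : G) (Q : Subgroup G) (b g : G) : Subgroup G :=
  D2 z Q b ⊓ (D2 z Q b).map (MulAut.conj g).toMonoidHom

theorem mem_Ys {g y : G} : y ∈ Ys z Q b g ↔ y ∈ D2 z Q b ∧ g⁻¹ * y * g ∈ D2 z Q b := by
  refine and_congr_right fun _ => ⟨?_, fun h => ⟨_, h, ?_⟩⟩
  · rintro ⟨d, hd, rfl⟩
    show g⁻¹ * (g * d * g⁻¹) * g ∈ D2 z Q b
    rwa [show g⁻¹ * (g * d * g⁻¹) * g = d by group]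
  · show g * (g⁻¹ * y * g) * g⁻¹ = y
    group

include A

theorem b_fix_pt : pi5 pt = pt := pi5_vals.1 0

theorem exists_swapped [Finite G] :
    ∃ u g, Swap z Q f u g ∧ u ∈ Qb Q b ∧ g * b = b * g := by
  obtain ⟨u, hu, hfu⟩ := A.exists_p1 0
  have hfu' : f u = pt := hfu
  have hnc := A.M.Nc_of_f hu.1 (hfu' ▸ pt_facts.1) (hfu' ▸ pt_facts.2.1)
  obtain ⟨g0, h1, h2⟩ := A.M.exists_swap hnc
  have W0 : Swap z Q f u g0 := ⟨hnc, hfu', h1, h2⟩
  have hbu : b * u = u * b := (Subgroup.mem_centralizer_singleton_iff.1 hu.2).symm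
  let T : Subgroup G := Cz z ⊓ Subgroup.centralizer {u}
  have hT : ∀ {x}, x ∈ T ↔ x ∈ Cz z ∧ x * u = u * x := fun {x} =>
    and_congr_right fun _ => Subgroup.mem_centralizer_singleton_iff
  have hbT : b ∈ T := hT.2 ⟨A.img.mem, hbu⟩
  have hxT : g0 * b * g0⁻¹ ∈ T :=
    hT.2 ⟨Model.conj_mem_Cz' W0 hbu, Model.commute_u_conj W0 A.img.mem⟩
  have hx5 : (g0 * b * g0⁻¹) ^ 5 = 1 := by rw [conj_pow, A.pow, mul_one, mul_inv_cancel]
  have hb1 : b ≠ 1 := fun h => pi5_ne (A.img.unique (h ▸ Img.one))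
  have hx1 : g0 * b * g0⁻¹ ≠ 1 := fun h => hb1 (conj_eq_one_iff.1 h)
  have hxI := Img.mk' (ρ := ρ) hxT.1
  have hπ1 : ρ ⟨g0 * b * g0⁻¹, hxT.1⟩ ≠ 1 := fun h => by
    have hq : g0 * b * g0⁻¹ ∈ Q := A.M.img_one_mem (h ▸ hxI)
    haveI : Fact (Nat.Prime 5) := ⟨by norm_num⟩
    obtain ⟨n, hn⟩ := A.M.isPGroup ⟨_, hq⟩
    have h2 : orderOf (g0 * b * g0⁻¹) ∣ 2 ^ n := orderOf_dvd_of_pow_eq_one (congrArg Subtype.val hn)
    rw [orderOf_eq_prime hx5 hx1] at h2
    exact absurd (Nat.Prime.dvd_of_dvd_pow (by norm_num) h2) (by norm_num)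
  have hπpt : ρ ⟨g0 * b * g0⁻¹, hxT.1⟩ pt = pt := by
    rw [← hfu', ← A.M.img_conj hxI hu.1, (hT.1 hxT).2, mul_inv_cancel_right]
  have hπ5 : ρ ⟨g0 * b * g0⁻¹, hxT.1⟩ ^ 5 = 1 := by
    rw [← map_pow, show (⟨g0 * b * g0⁻¹, hxT.1⟩ : Cz z) ^ 5 = 1 from Subtype.ext hx5, map_one]
  obtain ⟨d, hd, hdpt, i, hdi⟩ := A.M.sylow_pi5 hxI.mem_range hπpt hπ5 hπ1
  obtain ⟨c, hc, hcu⟩ := A.M.lift_u hu.1 (hfu' ▸ pt_facts.2.1) hd (by rw [hfu']; exact hdpt)
  have hcT : c ∈ T := hT.2 ⟨hc.mem, hcu⟩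
  have hI := hxI.conj hc
  rw [hdi] at hI
  obtain ⟨h, hhT, k, m, -, he⟩ := A.conj_five T
    (mul_mem (mul_mem hcT hxT) (inv_mem hcT)) hbT
    (by rw [conj_pow, hx5, mul_one, mul_inv_cancel])
    (fun e => hx1 (conj_eq_one_iff.1 e)) hI
  -- an element inducing the squaring map
  obtain ⟨σ, hσ, hσ1, hσ2⟩ := pent1.exists_R pent2 A.M.half (e := swap 2 3)
    (e' := swap 1 2 * swap 2 4 * swap 4 3) (by decide +kernel)
  have hσc : σ * pi5 * σ⁻¹ = pi5 ^ 2 := by
    rw [mul_inv_eq_iff_eq_mul]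
    refine pent1.ext (mul_mem (A.M.range_le hσ) pi5_O)
      (mul_mem (pow_mem pi5_O 2) (A.M.range_le hσ)) (fun i => ?_) fun j => ?_
    · rw [Perm.mul_apply, Perm.mul_apply, pi5_vals.1, hσ1, pi5_pow_p1]
    · rw [Perm.mul_apply, Perm.mul_apply, pi5_vals.2.1, hσ2, hσ2, pi5_pow_p2]
      refine congrArg p2 ?_
      revert j
      decide +kernel
  have hσpt : σ pt = pt := (hσ1 0).trans rfl
  obtain ⟨c', hc', hc'u⟩ := A.M.lift_u hu.1 (hfu' ▸ pt_facts.2.1) hσ (by rw [hfu']; exact hσpt)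
  obtain ⟨s, hsT, -, hs⟩ := A.lift_comm T hbT hc' (hT.2 ⟨hc'.mem, hc'u⟩) hσc
  have hsn : ∀ n, s ^ n * b * (s ^ n)⁻¹ = b ^ (2 ^ n) := by
    intro n
    induction n with
    | zero => simp
    | succ n ih =>
      calc s ^ (n + 1) * b * (s ^ (n + 1))⁻¹ = s * (s ^ n * b * (s ^ n)⁻¹) * s⁻¹ := by
            rw [pow_succ']; group
        _ = (s * b * s⁻¹) ^ (2 ^ n) := by rw [ih, conj_pow]
        _ = b ^ (2 ^ (n + 1)) := by rw [hs, ← pow_mul, pow_succ']
  have hm0 : m % 5 ≠ 0 := by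
    intro hm
    rw [pow_eq_pow_mod _ A.pow, hm, pow_zero] at he
    exact hx1 (conj_eq_one_iff.1 (conj_eq_one_iff.1 he))
  obtain ⟨n, hn⟩ : ∃ n : ℕ, (2 ^ n * m) % 5 = 1 := by
    have h4 : ∀ r : Fin 5, r ≠ 0 → ∃ n : Fin 4, (2 ^ n.val * r.val) % 5 = 1 := by decide +kernel
    obtain ⟨n, hn⟩ := h4 ⟨m % 5, Nat.mod_lt _ (by norm_num)⟩ fun e => hm0 (congrArg Fin.val e)
    exact ⟨n, by rw [Nat.mul_mod]; simpa [Nat.mul_mod] using hn⟩
  let e : G := s ^ n * (h * c)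
  have heT : e ∈ T := mul_mem (pow_mem hsT n) (mul_mem hhT hcT)
  have hez : e * z = z * e := mem_Cz.1 (hT.1 heT).1
  have heu : e * u = u * e := (hT.1 heT).2
  refine ⟨u, e * g0, ⟨hnc, hfu', ?_, ?_⟩, hu, ?_⟩
  · calc e * g0 * z * (e * g0)⁻¹ = e * (g0 * z * g0⁻¹) * e⁻¹ := by group
      _ = u := by rw [h1, heu, mul_inv_cancel_right]
  · calc (e * g0)⁻¹ * z * (e * g0) = g0⁻¹ * (e⁻¹ * (z * e)) * g0 := by group
      _ = u := by rw [← hez, inv_mul_cancel_left, h2]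
  · refine mul_inv_eq_iff_eq_mul.1 ?_
    calc e * g0 * b * (e * g0)⁻¹
        = s ^ n * (h * (c * (g0 * b * g0⁻¹) * c⁻¹) * h⁻¹) * (s ^ n)⁻¹ := by
          simp only [e]; group
      _ = b ^ (2 ^ n * m) := by rw [he, ← conj_pow, hsn, ← pow_mul]
      _ = b := by rw [pow_eq_pow_mod _ A.pow, hn, pow_one]

/-! ### The centraliser of the part of `Q` centralising `b` -/

theorem Qb_span (S : Subgroup G) (hz : z ∈ S)
    (h : ∀ i : Fin 4, ∃ q ∈ S, q ∈ Q ∧ f q = p1 i.castSucc) : Qb Q b ≤ S := by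
  intro x hx
  obtain ⟨hxQ, hperp⟩ := A.mem_Qb.1 hx
  obtain ⟨e0, e1, e2, e3, he⟩ := half_span _ hperp
  have hsel : ∀ (i : Fin 4) (e : Bool), ∃ q ∈ S, q ∈ Q ∧ f q = sel e (p1 i.castSucc) := by
    intro i e
    cases e
    · exact ⟨1, one_mem _, one_mem _, A.M.f_one⟩
    · exact h i
  obtain ⟨q0, hs0, hq0, hf0⟩ := hsel 0 e0
  obtain ⟨q1, hs1, hq1, hf1⟩ := hsel 1 e1
  obtain ⟨q2, hs2, hq2, hf2⟩ := hsel 2 e2
  obtain ⟨q3, hs3, hq3, hf3⟩ := hsel 3 e3
  have hS : q0 * q1 * (q2 * q3) ∈ S := mul_mem (mul_mem hs0 hs1) (mul_mem hs2 hs3)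
  rcases A.M.f_eq (mul_mem (mul_mem hq0 hq1) (mul_mem hq2 hq3)) hxQ (by
    rw [A.M.f_mul _ (mul_mem hq0 hq1) _ (mul_mem hq2 hq3), A.M.f_mul _ hq0 _ hq1,
      A.M.f_mul _ hq2 _ hq3, hf0, hf1, hf2, hf3, he]; rfl) with e | e
  · exact e ▸ hS
  · exact e ▸ mul_mem hS hz

omit A in
theorem mem_D2 {x : G} : x ∈ D2 z Q b ↔ x ∈ Cz z ∧ ∀ q ∈ Qb Q b, q * x = x * q :=
  and_congr_right fun _ => Subgroup.mem_centralizer_iff

theorem z_D2 : z ∈ D2 z Q b :=
  mem_D2.2 ⟨mem_Cz.2 rfl, fun _ hq => mem_Cz.1 (A.M.le hq.1)⟩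

theorem b_D2 : b ∈ D2 z Q b :=
  mem_D2.2 ⟨A.img.mem, fun _ hq => Subgroup.mem_centralizer_singleton_iff.1 hq.2⟩

theorem Q_perp_D2 {q : G} (hq : q ∈ Q) (h : ∀ i, bl (f q) (p1 i) = false) : q ∈ D2 z Q b := by
  refine ⟨A.M.le hq, ?_⟩
  have hle : Qb Q b ≤ Subgroup.centralizer {q} := by
    refine A.Qb_span _ (Subgroup.mem_centralizer_singleton_iff.2 (mem_Cz.1 (A.M.le hq)).symm)
      fun i => ?_
    obtain ⟨r, hr, hrf⟩ := A.exists_p1 i.castSucc
    exact ⟨r, Subgroup.mem_centralizer_singleton_iff.2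
      ((A.M.commute_iff hq hr.1).2 (by rw [hrf]; exact h _)), hr.1, hrf⟩
  exact Subgroup.mem_centralizer_iff.2 fun r hr =>
    Subgroup.mem_centralizer_singleton_iff.1 (hle hr)

theorem D2_fix {x : G} (hx : x ∈ D2 z Q b) :
    ∃ π ∈ Pent.Kfix ρ.range p1, Img ρ x π := by
  obtain ⟨hxz, hc⟩ := mem_D2.1 hx
  refine ⟨_, ⟨⟨_, rfl⟩, fun i => ?_⟩, Img.mk' hxz⟩
  obtain ⟨q, hq, hqf⟩ := A.exists_p1 i
  rw [← hqf, ← A.M.img_conj (Img.mk' hxz) hq.1, ← hc q hq, mul_inv_cancel_right]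

theorem D2_Q {q : G} (hq : q ∈ Q) (hd : q ∈ D2 z Q b) (i : Fin 5) :
    bl (f q) (p1 i) = false := by
  obtain ⟨r, hr, hrf⟩ := A.exists_p1 i
  rw [← hrf]
  exact (A.M.commute_iff hq hr.1).1 ((mem_D2.1 hd).2 r hr)

theorem D2_lift [Finite G] {π : Perm V8} (hπ : π ∈ Pent.Kfix ρ.range p1) :
    ∃ x ∈ D2 z Q b, Img ρ x π := by
  obtain ⟨x, hx⟩ := exists_img hπ.1
  have he : ∀ i : Fin 5, ∃ e : Bool, ∃ q ∈ Qb Q b, f q = p1 i ∧ x * q * x⁻¹ = zp z e * q := by
    intro i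
    obtain ⟨q, hq, hqf⟩ := A.exists_p1 i
    rcases A.M.f_eq hq.1 (A.M.normal x hx.mem q hq.1)
        (by rw [A.M.img_conj hx hq.1, hqf, hπ.2]) with e | e
    · exact ⟨false, q, hq, hqf, by rw [e, zp_false, one_mul]⟩
    · exact ⟨true, q, hq, hqf, by rw [e, zp_true]; exact mem_Cz.1 (A.M.le hq.1)⟩
  choose e q hq hqf hxq using he
  obtain ⟨v, h0, h1, h2, h3⟩ := half_dual (e 0) (e 1) (e 2) (e 3)
  obtain ⟨r, hr, rfl⟩ := A.M.f_surj v
  have hxI := A.M.img_mul_q hx hr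
  refine ⟨x * r, ⟨hxI.mem, ?_⟩, hxI⟩
  have hle : Qb Q b ≤ Subgroup.centralizer {x * r} := by
    refine A.Qb_span _ (Subgroup.mem_centralizer_singleton_iff.2 (mem_Cz.1 hxI.mem).symm)
      fun i => ⟨q i.castSucc, Subgroup.mem_centralizer_singleton_iff.2 ?_, (hq _).1, hqf _⟩
    have hv : bl (f (q i.castSucc)) (f r) = e i.castSucc := by
      rw [hqf, bl_comm]
      fin_cases i <;> assumption
    have hzx : Commute x (zp z (e i.castSucc)) := A.M.zp_comm _ hx.mem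
    refine Eq.symm (mul_inv_eq_iff_eq_mul.1 ?_)
    calc x * r * q i.castSucc * (x * r)⁻¹
        = x * (r * q i.castSucc) * r⁻¹ * x⁻¹ := by group
      _ = x * (zp z (e i.castSucc) * q i.castSucc) * x⁻¹ := by
          rw [A.M.comm (hq _).1 hr, hv]; group
      _ = x * zp z (e i.castSucc) * x⁻¹ * (x * q i.castSucc * x⁻¹) := by group
      _ = zp z (e i.castSucc) * (zp z (e i.castSucc) * q i.castSucc) := by
          rw [hzx.eq, mul_inv_cancel_right, hxq]
      _ = q i.castSucc := by rw [← mul_assoc, ← A.M.zp_xor, Bool.xor_self, zp_false, one_mul]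
  exact Subgroup.mem_centralizer_iff.2 fun r hr =>
    Subgroup.mem_centralizer_singleton_iff.1 (hle hr)

/-- The centraliser of that part centralises the derived group. -/
theorem D2_comm [Finite G] {d l : G} (hd : d ∈ D2 z Q b) (hl : l ∈ L0 z b) :
    d * l = l * d := by
  obtain ⟨σ, hσ, hσI⟩ := A.D2_fix hd
  have hdQ : ∀ q ∈ Qb Q b, q * d = d * q := (mem_D2.1 hd).2
  have hw : ∀ a ∈ L0 z b, d * a * d⁻¹ * a⁻¹ ∈ Q ∧
      ∀ i, bl (f (d * a * d⁻¹ * a⁻¹)) (p1 i) = false := by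
    intro a ha
    obtain ⟨π, hπ, hI⟩ := A.L0_fix ha
    have hcomm := Kfix_comm A.M.half hσ hπ.1 hπ.2
    have hI1 := ((hσI.mul hI).mul hσI.inv).mul hI.inv
    rw [hcomm, mul_inv_cancel_right, mul_inv_cancel] at hI1
    have hQ := A.M.img_one_mem hI1
    refine ⟨hQ, fun i => A.D2_Q hQ (mem_D2.2 ⟨A.M.le hQ, fun q hq => ?_⟩) i⟩
    have h1 := hdQ _ (A.Qb_conj (inv_mem (A.L0_le ha)) hq)
    rw [inv_inv] at h1
    have c1 : Commute q d := hdQ q hq
    have c2 : Commute q (a * d⁻¹ * a⁻¹) := by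
      show q * (a * d⁻¹ * a⁻¹) = a * d⁻¹ * a⁻¹ * q
      calc q * (a * d⁻¹ * a⁻¹) = a * ((a⁻¹ * q * a) * d⁻¹) * a⁻¹ := by group
        _ = a * (d⁻¹ * (a⁻¹ * q * a)) * a⁻¹ := by
            rw [((show Commute (a⁻¹ * q * a) d from h1).inv_right).eq]
        _ = _ := by group
    have e : d * a * d⁻¹ * a⁻¹ = d * (a * d⁻¹ * a⁻¹) := by group
    rw [e]
    exact (c1.mul_right c2).eq
  have hf : ∀ a ∈ L0 z b, ∀ c ∈ L0 z b, f (d * (a * c) * d⁻¹ * (a * c)⁻¹) =
      vadd (f (d * a * d⁻¹ * a⁻¹)) (f (d * c * d⁻¹ * c⁻¹)) := by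
    intro a ha c hc
    obtain ⟨π, hπ, hI⟩ := A.L0_fix ha
    have hwc := hw c hc
    rw [show d * (a * c) * d⁻¹ * (a * c)⁻¹ =
        d * a * d⁻¹ * a⁻¹ * (a * (d * c * d⁻¹ * c⁻¹) * a⁻¹) by group,
      A.M.f_mul _ (hw a ha).1 _ (A.M.normal a hI.mem _ hwc.1), A.M.img_conj hI hwc.1]
    congr 1
    have hperp : ∀ j, π (p2 j) = p2 j := hπ.2
    exact fix_of_perp (A.M.range_le hπ.1) hperp hwc.2
  let S : Subgroup G :=
    { carrier := {a | a ∈ L0 z b ∧ f (d * a * d⁻¹ * a⁻¹) = 0}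
      one_mem' := ⟨one_mem _, by simpa using A.M.f_one⟩
      mul_mem' := fun {a c} ha hc =>
        ⟨mul_mem ha.1 hc.1, by rw [hf a ha.1 c hc.1, ha.2, hc.2, vadd_self]⟩
      inv_mem' := fun {a} ha => ⟨inv_mem ha.1, by
        have h := hf a ha.1 a⁻¹ (inv_mem ha.1)
        rw [mul_inv_cancel, inv_one, mul_one, mul_one, mul_inv_cancel, A.M.f_one, ha.2,
          zero_vadd] at h
        exact h.symm⟩ }
  have hS : L0 z b ≤ S := A.L0_perfect.trans (Subgroup.commutator_le.2 fun a ha c hc => by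
    refine ⟨by rw [commutatorElement_def]; exact mul_mem (mul_mem (mul_mem ha hc) (inv_mem ha)) (inv_mem hc), ?_⟩
    have hinv : ∀ a ∈ L0 z b, f (d * a⁻¹ * d⁻¹ * a⁻¹⁻¹) = f (d * a * d⁻¹ * a⁻¹) := by
      intro a ha
      have h := hf a ha a⁻¹ (inv_mem ha)
      rw [mul_inv_cancel, inv_one, mul_one, mul_one, mul_inv_cancel, A.M.f_one] at h
      exact (vadd_eq_zero h.symm).symm
    rw [commutatorElement_def, hf _ (mul_mem (mul_mem ha hc) (inv_mem ha)) _ (inv_mem hc),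
      hf _ (mul_mem ha hc) _ (inv_mem ha), hf _ ha _ hc, hinv a ha, hinv c hc, vadd_assoc,
      vadd_assoc, vadd_comm (f (d * c * d⁻¹ * c⁻¹)), vadd_assoc, vadd_self, vadd_zero, vadd_self])
  have hC : L0 z b ≤ Subgroup.centralizer {d} := A.L0_perfect.trans
    (Subgroup.commutator_le.2 fun a ha c hc => by
      have key : ∀ a ∈ L0 z b, ∃ e : Bool, d * a * d⁻¹ = zp z e * a := by
        intro a ha
        rcases (A.M.f_ker _ (hw a ha).1).1 (hS ha).2 with e | e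
        · exact ⟨false, by rw [zp_false, one_mul, mul_inv_eq_one.1 e]⟩
        · exact ⟨true, by rw [zp_true, ← e, inv_mul_cancel_right]⟩
      obtain ⟨e, he⟩ := key a ha
      obtain ⟨e', he'⟩ := key c hc
      refine Subgroup.mem_centralizer_singleton_iff.2 (Eq.symm (mul_inv_eq_iff_eq_mul.1 ?_))
      have hza : ∀ e, ∀ a ∈ L0 z b, Commute a (zp z e) := fun e a ha =>
        A.M.zp_comm e (A.L0_le ha).1
      calc d * ⁅a, c⁆ * d⁻¹ = ⁅d * a * d⁻¹, d * c * d⁻¹⁆ := by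
            rw [commutatorElement_def, commutatorElement_def]; group
        _ = ⁅a, c⁆ := by
            rw [he, he']
            exact comm_central (hza e a ha).symm (hza e c hc).symm (hza e' a ha).symm
              (hza e' c hc).symm (A.M.zp_comm e'
                (show zp z e ∈ Cz z by cases e <;> simp [zp, mem_Cz])))
  exact (Subgroup.mem_centralizer_singleton_iff.1 (hC hl)).symm

/-- An element of order three of the derived group over the fixed map centralising `u`. -/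
theorem exists_t3 [Finite G] {u g : G} (W : Swap z Q f u g) (hu : u ∈ Qb Q b)
    (hgb : g * b = b * g) :
    ∃ t ∈ L0 z b, Img ρ t tau3 ∧ t * u = u * t ∧ g⁻¹ * t * g ∈ L0 z b := by
  obtain ⟨l, hl, hlI⟩ := A.K1_img (π := tau3) ⟨tau3_mem A.M.half, tau3_vals.2.1⟩
  obtain ⟨l', hl', hl'I, hl'u⟩ : ∃ l' ∈ L0 z b, Img ρ l' tau3 ∧ l' * u = u * l' := by
    rcases A.M.f_eq hu.1 (A.M.normal l hlI.mem u hu.1)
        (by rw [A.M.img_conj hlI hu.1, W.fu, tau3_cycle.2.2.2]) with e | e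
    · exact ⟨l, hl, hlI, mul_inv_eq_iff_eq_mul.1 e⟩
    · obtain ⟨r, hr, hrf⟩ := A.exists_p1 1
      refine ⟨r * l, mul_mem (A.Qb_le_L0 hr) hl, by simpa using (A.M.img_q hr.1).mul hlI, ?_⟩
      have hc := A.M.comm hu.1 hr.1
      rw [W.fu, hrf, show bl pt (p1 1) = true by decide +kernel, zp_true] at hc
      have hzr : z * r = r * z := (mem_Cz.1 (A.M.le hr.1)).symm
      calc r * l * u = r * (l * u * l⁻¹) * l := by group
        _ = r * u * z * l := by rw [e]; group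
        _ = z * (u * r) * z * l := by rw [hc]
        _ = u * r * (z * z) * l := by
            rw [← mem_Cz.1 (mul_mem (A.M.le hu.1) (A.M.le hr.1))]; group
        _ = u * (r * l) := by rw [A.M.zz, mul_one, mul_assoc]
  have h3 : tau3 ^ 3 = 1 := by rw [pow_succ, pow_two]; exact tau3_vals.2.2
  have hQ : l' ^ 3 ∈ Q := A.M.img_one_mem (h3 ▸ hl'I.pow 3)
  have h4 : (l' ^ 4) ^ 3 = 1 := by
    rw [← pow_mul, show (4 : ℕ) * 3 = 3 * 4 from rfl, pow_mul, show (4 : ℕ) = 2 * 2 from rfl,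
      pow_mul, sq, sq, A.M.sq_zp hQ]
    cases qb (f (l' ^ 3))
    · rw [zp_false, mul_one]
    · rw [zp_true, A.M.zz]
  have htu : l' ^ 4 * u = u * l' ^ 4 := (show Commute l' u from hl'u).pow_left 4
  refine ⟨l' ^ 4, pow_mem hl' 4, ?_, htu, ?_⟩
  · have h := hl'I.pow 4
    have h4' : tau3 ^ 4 = tau3 := by rw [pow_succ, h3, one_mul]
    rwa [h4'] at h
  · refine A.mem_L0_of_pow ⟨Model.conj_mem_Cz W htu, ?_⟩ (n := 3) ?_ (by norm_num)
    · have hg : g ∈ Subgroup.centralizer ({b} : Set G) :=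
        Subgroup.mem_centralizer_singleton_iff.2 hgb
      show g⁻¹ * l' ^ 4 * g ∈ Subgroup.centralizer ({b} : Set G)
      exact mul_mem (mul_mem (inv_mem hg) (A.L0_le (pow_mem hl' 4)).2) hg
    · rw [show g⁻¹ * l' ^ 4 * g = g⁻¹ * l' ^ 4 * g⁻¹⁻¹ by rw [inv_inv], conj_pow, h4, mul_one,
        mul_inv_cancel]

omit A in
theorem swap_symm {u g : G} (W : Swap z Q f u g) : Swap z Q f u g⁻¹ :=
  ⟨W.nc, W.fu, by rw [inv_inv, W.zg], by rw [inv_inv, W.gz]⟩

/-- The conjugate of the centraliser of that part lies in the centraliser of `u` and `z`. -/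
theorem gD2 {u g d : G} (W : Swap z Q f u g) (hu : u ∈ Qb Q b) (hd : d ∈ D2 z Q b) :
    g * d * g⁻¹ ∈ Cz z ∧ g * d * g⁻¹ * u = u * (g * d * g⁻¹) :=
  ⟨Model.conj_mem_Cz' W ((mem_D2.1 hd).2 u hu).symm, Model.commute_u_conj W (mem_D2.1 hd).1⟩

theorem DQ {u g d : G} (W : Swap z Q f u g) (hd : d ∈ D2 z Q b) (h : g * d * g⁻¹ ∈ Q) :
    d = 1 ∨ d = z := by
  have W' := swap_symm W
  have h' : g⁻¹⁻¹ * d * g⁻¹ ∈ Q := by rwa [inv_inv]
  obtain ⟨π, hπ, hI⟩ := A.D2_fix hd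
  obtain ⟨w, hw, rfl⟩ := A.M.D_trans W' hI h'
  have hw' : w = 0 ∨ w = pt := sie_fix_p1 w hw fun i => by
    rw [← sieP_apply (sieOK_pt hw)]; exact hπ.2 i
  have h1 : sieP pt w = 1 := by
    rcases hw' with rfl | rfl
    · exact sieP_zero
    · exact sieP_pt
  have hdQ : d ∈ Q := A.M.img_one_mem (h1 ▸ hI)
  rcases A.M.R0_f W' hdQ h' with e | e
  · exact (A.M.f_ker d hdQ).1 e
  · have h2 := A.D2_Q hdQ hd 1
    rw [e] at h2
    exact absurd h2 (by decide +kernel)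

theorem gD2_t3 [Finite G] {g d t : G} (ht : g⁻¹ * t * g ∈ L0 z b) (hd : d ∈ D2 z Q b) :
    g * d * g⁻¹ * t = t * (g * d * g⁻¹) := by
  have h := A.D2_comm hd ht
  calc g * d * g⁻¹ * t = g * (d * (g⁻¹ * t * g)) * g⁻¹ := by group
    _ = g * (g⁻¹ * t * g * d) * g⁻¹ := by rw [h]
    _ = t * (g * d * g⁻¹) := by group

/-- An element of the exchanged part outside `Q`. -/
theorem exists_wx [Finite G] {u g : G} (W : Swap z Q f u g) (hgb : g * b = b * g) :
    ∃ r ∈ Qb Q b, ∃ (w w0 : V8), f r = 34 ∧ Img ρ (g * r * g⁻¹) (sieP pt w) ∧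
      bl w pt = false ∧ w ≠ 0 ∧ w ≠ pt ∧ (w0 = 34 ∨ w0 = 70 ∨ w0 = 100) ∧
        (w = w0 ∨ w = vadd w0 pt) := by
  obtain ⟨r, hr, hrf⟩ := A.M.f_surj 34
  have hrb : r ∈ Qb Q b := A.mem_Qb.2 ⟨hr, fun j => by rw [hrf]; revert j; decide +kernel⟩
  obtain ⟨hxC, hx'⟩ := A.M.mk_D W hr (by rw [hrf]; decide +kernel)
  obtain ⟨w, hw, hπ⟩ := A.M.D_trans W (Img.mk' hxC) hx'
  have hI : Img ρ (g * r * g⁻¹) (sieP pt w) := hπ ▸ Img.mk' hxC
  have hg : g ∈ Subgroup.centralizer ({b} : Set G) :=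
    Subgroup.mem_centralizer_singleton_iff.2 hgb
  have hxb : g * r * g⁻¹ * b = b * (g * r * g⁻¹) :=
    Subgroup.mem_centralizer_singleton_iff.1 (mul_mem (mul_mem hg hrb.2) (inv_mem hg))
  have hc := A.img_comm hI hxb
  have h5 : bl (pi5 w) pt = false := by
    have h := (O_bl pi5_O w pt).trans hw
    rwa [show pi5 pt = pt from pi5_vals.1 0] at h
  have hpi : sieP pt (pi5 w) = sieP pt w := by
    have h := O_sieP pi5_O (sieOK_pt hw)
    rw [← hc, mul_inv_cancel_right, show pi5 pt = pt from pi5_vals.1 0] at h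
    exact h.symm
  have hpw : pi5 w = w ∨ pi5 w = vadd w pt := by
    rcases sieP_eq h5 hw hpi with e | e
    · exact Or.inl (vadd_eq_zero e)
    · exact Or.inr (by rw [← e, vadd_comm (pi5 w), vadd_cancel])
  have hne : w ≠ 0 ∧ w ≠ pt := by
    have key : sieP pt w ≠ 1 := fun h1 => by
      have hq : g⁻¹⁻¹ * r * g⁻¹ ∈ Q := by rw [inv_inv]; exact A.M.img_one_mem (h1 ▸ hI)
      have := A.M.R0_f (swap_symm W) hr hq
      rw [hrf] at this
      revert this
      decide +kernel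
    exact ⟨fun e => key (e ▸ sieP_zero), fun e => key (e ▸ sieP_pt)⟩
  rcases sie_comm_pi5 w hw hpw with e | e | ⟨w0, h0, h1⟩
  · exact absurd e hne.1
  · exact absurd e hne.2
  · exact ⟨r, hrb, w, w0, hrf, hI, hw, hne.1, hne.2, h0, h1⟩

theorem gD2_img [Finite G] {u g d : G} (W : Swap z Q f u g) (hu : u ∈ Qb Q b)
    (hgb : g * b = b * g) (hd : d ∈ D2 z Q b) {π : Perm V8} (hI : Img ρ (g * d * g⁻¹) π) :
    π ∈ ρ.range ⊓ oStab [70, 34, 1] := by
  obtain ⟨t, -, htI, -, ht⟩ := A.exists_t3 W hu hgb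
  obtain ⟨r, hr, w, w0, -, hxI, hw, -, -, h0, h1⟩ := A.exists_wx W hgb
  have hO := A.M.img_O hI
  have hpt : π pt = pt := by
    rw [← W.fu, ← A.M.img_conj hI W.nc.1, (A.gD2 W hu hd).2, mul_inv_cancel_right]
  have hτ : π * tau3 = tau3 * π := (hI.mul htI).unique (by
    rw [A.gD2_t3 ht hd]; exact htI.mul hI)
  have hs : π * sieP pt w * π⁻¹ = sieP pt w := by
    refine ((hxI.conj hI).unique ?_)
    rw [show g * d * g⁻¹ * (g * r * g⁻¹) * (g * d * g⁻¹)⁻¹ = g * (d * r * d⁻¹) * g⁻¹ by group,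
      ← (mem_D2.1 hd).2 r hr, mul_inv_cancel_right]
    exact hxI
  rw [O_sieP hO (sieOK_pt hw), hpt] at hs
  have hπw : bl (π w) pt = false := by
    conv_lhs => rw [← hpt, O_bl hO]
    exact hw
  obtain ⟨e, he⟩ : ∃ e, π w0 = vadd w0 (sel e pt) := by
    have key : ∀ a c v : V8, (c = v ∨ c = vadd v pt) →
        (vadd a c = 0 ∨ vadd a c = pt) → (a = v ∨ a = vadd v pt) := by
      intro a c v hc ha
      rcases hc with rfl | rfl <;> rcases ha with e | e
      · exact Or.inl (vadd_eq_zero e)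
      · exact Or.inr (by rw [← e, vadd_comm a, vadd_cancel])
      · exact Or.inr (vadd_eq_zero e)
      · exact Or.inl (vadd_eq_zero (by
          have := congrArg (fun x => vadd x pt) e
          simpa [vadd_assoc, vadd_self, vadd_zero] using this))
    have hw01 := key _ _ _ h1 (sieP_eq hπw hw hs)
    have : π w0 = w0 ∨ π w0 = vadd w0 pt := by
      rcases h1 with rfl | rfl
      · exact hw01
      · rw [O_add hO, hpt] at hw01
        rcases hw01 with e | e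
        · exact Or.inr (by rw [← e, vadd_assoc, vadd_self, vadd_zero, e])
        · exact Or.inl (by
            have := congrArg (fun x => vadd x pt) e
            simpa [vadd_assoc, vadd_self, vadd_zero] using this)
    rcases this with e | e
    · exact ⟨false, by rw [e]; exact (vadd_zero _).symm⟩
    · exact ⟨true, e⟩
  exact ⟨hI.mem_range, mem_oStab_of_comm hO hpt hτ h0 he⟩

theorem D2_img_card [Finite G] : 1920 ≤ Nat.card (D2 z Q b) := by
  let ψ : D2 z Q b →* Perm V8 := ρ.comp (Subgroup.inclusion inf_le_left)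
  have h1 := Subgroup.card_eq_card_quotient_mul_card_subgroup ψ.ker
  rw [Nat.card_congr (QuotientGroup.quotientKerEquivRange ψ).toEquiv] at h1
  have h2 : 60 ≤ Nat.card ψ.range := by
    rw [← pent2.card_Kfix pent1 A.M.half]
    refine Subgroup.card_le_of_le fun π hπ => ?_
    obtain ⟨x, hx, hI⟩ := A.D2_lift hπ
    exact ⟨⟨x, hx⟩, hI.2⟩
  have h3 : 32 ≤ Nat.card ψ.ker := by
    let V := {v : V8 // ∀ i, bl v (p1 i) = false}
    have hV : Nat.card (V × Bool) = 32 := by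
      rw [Nat.card_prod, Nat.card_eq_fintype_card, Nat.card_eq_fintype_card]
      decide +kernel
    choose q hq hqf using A.M.f_surj
    have hmem : ∀ (v : V) (e : Bool), q v.1 * zp z e ∈ Q := fun v e =>
      mul_mem (hq _) (by cases e; exacts [one_mem Q, A.M.z_mem])
    have hf : ∀ (v : V) (e : Bool), f (q v.1 * zp z e) = v.1 := fun v e => by
      cases e
      · rw [zp_false, mul_one, hqf]
      · rw [zp_true, A.M.f_mul_z (hq _), hqf]
    rw [← hV]
    refine Nat.card_le_card_of_injective (fun p : V × Bool =>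
      (⟨⟨q p.1.1 * zp z p.2, A.Q_perp_D2 (hmem _ _) (by rw [hf]; exact p.1.2)⟩,
        (A.M.ρ_ker _).2 (hmem _ _)⟩ : ψ.ker)) ?_
    rintro ⟨v, e⟩ ⟨v', e'⟩ h
    have h' : q v.1 * zp z e = q v'.1 * zp z e' := congrArg (fun x : ψ.ker => (x.1 : G)) h
    have hv : v = v' := Subtype.ext (by rw [← hf v e, h', hf v' e'])
    subst hv
    exact Prod.ext rfl (A.M.zp_inj (mul_left_cancel h'))
  rw [h1]
  exact Nat.mul_le_mul h2 h3

theorem Ys_lift [Finite G] {u g : G} (W : Swap z Q f u g) (hu : u ∈ Qb Q b)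
    (hgb : g * b = b * g) {π : Perm V8} (hπ : π ∈ Pent.Kfix ρ.range p1) :
    ∃ y ∈ Ys z Q b g, Img ρ y π := by
  let φ : D2 z Q b →* Perm V8 :=
    { toFun := fun d => ρ ⟨g * d * g⁻¹, (A.gD2 W hu d.2).1⟩
      map_one' := by
        rw [show (⟨g * ((1 : D2 z Q b) : G) * g⁻¹, (A.gD2 W hu (one_mem _)).1⟩ : Cz z) = 1 from
          Subtype.ext (by simp), map_one]
      map_mul' := fun d e => by
        rw [← map_mul]
        exact congrArg ρ (Subtype.ext (by simp [mul_assoc])) }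
  have hker : Nat.card φ.ker ≤ 2 := by
    classical
    have : ∀ k : φ.ker, (k.1 : G) = 1 ∨ (k.1 : G) = z := fun k =>
      A.DQ W k.1.2 ((A.M.ρ_ker _).1 k.2)
    calc Nat.card φ.ker ≤ Nat.card Bool := by
          refine Nat.card_le_card_of_injective (fun k => decide ((k.1 : G) = z)) fun k k' h => ?_
          refine Subtype.ext (Subtype.ext ?_)
          rcases this k with e | e <;> rcases this k' with e' | e' <;>
            simp [e, e', A.M.z_ne, Ne.symm A.M.z_ne] at h ⊢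
      _ = 2 := by simp
  have hle : φ.range ≤ ρ.range ⊓ oStab [70, 34, 1] := by
    rintro _ ⟨d, rfl⟩
    exact A.gD2_img W hu hgb d.2 (Img.mk' _)
  have heq : φ.range = ρ.range ⊓ oStab [70, 34, 1] := by
    refine Subgroup.eq_of_le_of_card_ge hle ((oStab_bound A.M.half).trans ?_)
    have h1 := Subgroup.card_eq_card_quotient_mul_card_subgroup φ.ker
    rw [Nat.card_congr (QuotientGroup.quotientKerEquivRange φ).toEquiv] at h1
    have h2 := A.D2_img_card
    have h3 := Nat.mul_le_mul_left (Nat.card φ.range) hker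
    omega
  have hO := A.M.range_le hπ.1
  have hfix : ∀ v, (∀ j, bl v (p2 j) = false) → π v = v := by
    intro v hv
    obtain ⟨a, b', c, d, rfl⟩ := half_span v hv
    simp only [O_add hO, O_sel hO, hπ.2]
  have hS : π ∈ φ.range := heq ▸ ⟨hπ.1, ⟨⟨⟨hO, hπ.2 0⟩,
    hfix 34 (by decide +kernel)⟩, hfix 70 (by decide +kernel)⟩⟩
  obtain ⟨e, he⟩ := hS
  have hcI : Img ρ (g * e * g⁻¹) π := ⟨_, he⟩
  have hcm : g⁻¹ * (g * e * g⁻¹) * g ∈ D2 z Q b := by
    rw [show g⁻¹ * (g * (e : G) * g⁻¹) * g = e by group]; exact e.2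
  obtain ⟨d, hd, hdI⟩ := A.D2_lift hπ
  obtain ⟨q, hq, hdq⟩ := A.M.img_same hcI hdI
  obtain ⟨t, htL, htI, -, htg⟩ := A.exists_t3 W hu hgb
  have hqd : q = (g * e * g⁻¹)⁻¹ * d := by rw [hdq, inv_mul_cancel_left]
  have hqu : q * u = u * q := by
    rw [hqd]
    exact ((show Commute (g * e * g⁻¹) u from (A.gD2 W hu e.2).2).inv_left.mul_left
      ((mem_D2.1 hd).2 u hu).symm).eq
  have hqt : q * t = t * q := by
    rw [hqd]
    exact ((show Commute (g * e * g⁻¹) t from A.gD2_t3 htg e.2).inv_left.mul_left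
      (A.D2_comm hd htL)).eq
  have hb : bl (f q) pt = false := by
    rw [← W.fu]; exact (A.M.commute_iff hq hu.1).1 hqu.symm
  have hfq : tau3 (f q) = f q := by
    rw [← A.M.img_conj htI hq, ← hqt, mul_inv_cancel_right]
  rcases tau3_fix _ hb hfq with h | h
  · refine ⟨g * e * g⁻¹, mem_Ys.2 ⟨?_, hcm⟩, hcI⟩
    rw [show g * (e : G) * g⁻¹ = d * q⁻¹ by rw [hdq, mul_inv_cancel_right]]
    exact mul_mem hd (inv_mem (A.Q_perp_D2 hq h))
  · have huI := A.M.img_mul_q hcI hu.1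
    refine ⟨g * e * g⁻¹ * u, mem_Ys.2 ⟨?_, ?_⟩, huI⟩
    · have hp : u * q ∈ D2 z Q b := A.Q_perp_D2 (mul_mem hu.1 hq) (fun i => by
        rw [A.M.f_mul _ hu.1 _ hq, W.fu]; exact h i)
      rw [show g * (e : G) * g⁻¹ * u = d * (u * q)⁻¹ by
        rw [hdq, mul_inv_rev, inv_eq_of_mul_eq_one_right W.nc.2.1]; group]
      exact mul_mem hd (inv_mem hp)
    · rw [show g⁻¹ * (g * (e : G) * g⁻¹ * u) * g = e * (g⁻¹ * u * g) by group,
        Model.swap_ug W]
      exact mul_mem e.2 A.z_D2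

theorem Ys_inj {u g y : G} (W : Swap z Q f u g) (hu : u ∈ Qb Q b) (hy : y ∈ Ys z Q b g)
    (hQ : y ∈ Q) : y = 1 := by
  obtain ⟨hy1, hy2⟩ := mem_Ys.1 hy
  rcases A.DQ W hy2 (by rwa [show g * (g⁻¹ * y * g) * g⁻¹ = y by group]) with e | e
  · calc y = g * (g⁻¹ * y * g) * g⁻¹ := by group
      _ = 1 := by rw [e, mul_one, mul_inv_cancel]
  · exfalso
    have hyu : y = u := by
      calc y = g * (g⁻¹ * y * g) * g⁻¹ := by group
        _ = u := by rw [e, W.gz]
    have h := A.D2_Q hQ hy1 1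
    rw [hyu, W.fu] at h
    revert h
    decide +kernel

/-- The intersection is an alternating group of degree five. -/
theorem Ys_iso [Finite G] {u g : G} (W : Swap z Q f u g) (hu : u ∈ Qb Q b)
    (hgb : g * b = b * g) : Nonempty (Ys z Q b g ≃* alternatingGroup (Fin 5)) := by
  obtain ⟨iso⟩ := pent2.Kfix_iso pent1 A.M.half
  let φ : Ys z Q b g →* Perm V8 := ρ.comp (Subgroup.inclusion
    (fun y hy => (mem_Ys.1 hy).1.1))
  have hK : ∀ y, φ y ∈ Pent.Kfix ρ.range p1 := fun y => by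
    obtain ⟨π, hπ, hI⟩ := A.D2_fix (mem_Ys.1 y.2).1
    rw [show φ y = π from (Img.mk' (mem_Ys.1 y.2).1.1).unique hI]
    exact hπ
  refine ⟨(MulEquiv.ofBijective (φ.codRestrict _ hK) ⟨?_, fun π => ?_⟩).trans iso⟩
  · refine (injective_iff_map_eq_one _).2 fun y hy => Subtype.ext ?_
    exact A.Ys_inj W hu y.2 ((A.M.ρ_ker _).1 (congrArg Subtype.val hy))
  · obtain ⟨y, hy, hyI⟩ := A.Ys_lift W hu hgb π.2
    exact ⟨⟨y, hy⟩, Subtype.ext hyI.2⟩

theorem b_mem_Ys {g : G} (hgb : g * b = b * g) : b ∈ Ys z Q b g :=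
  mem_Ys.2 ⟨A.b_D2, by rw [mul_assoc, ← hgb, inv_mul_cancel_left]; exact A.b_D2⟩

theorem L0_le_cent [Finite G] (g : G) :
    L0 z b ≤ Subgroup.centralizer (Ys z Q b g : Set G) := fun _ hl =>
  Subgroup.mem_centralizer_iff.2 fun _ hy => A.D2_comm (mem_Ys.1 hy).1 hl

theorem conjL0_le_cent [Finite G] {g l : G} (hl : l ∈ L0 z b) :
    g * l * g⁻¹ ∈ Subgroup.centralizer (Ys z Q b g : Set G) :=
  Subgroup.mem_centralizer_iff.2 fun y hy => by
    calc y * (g * l * g⁻¹) = g * (g⁻¹ * y * g * l) * g⁻¹ := by group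
      _ = g * (l * (g⁻¹ * y * g)) * g⁻¹ := by rw [A.D2_comm (mem_Ys.1 hy).2 hl]
      _ = g * l * g⁻¹ * y := by group

/-- The intersection is its own double centraliser. -/
theorem cent_cent [Finite G] {u g : G} (W : Swap z Q f u g) :
    Subgroup.centralizer (Subgroup.centralizer (Ys z Q b g : Set G) : Set G) = Ys z Q b g := by
  refine le_antisymm (fun x hx => ?_) fun y hy =>
    Subgroup.mem_centralizer_iff.2 fun h hh => (Subgroup.mem_centralizer_iff.1 hh y hy).symm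
  have h1 : ∀ l ∈ L0 z b, l * x = x * l := fun l hl =>
    Subgroup.mem_centralizer_iff.1 hx l (A.L0_le_cent g hl)
  have h2 : ∀ l ∈ L0 z b, l * (g⁻¹ * x * g) = g⁻¹ * x * g * l := fun l hl => by
    have h := Subgroup.mem_centralizer_iff.1 hx _ (A.conjL0_le_cent (g := g) hl)
    calc l * (g⁻¹ * x * g) = g⁻¹ * (g * l * g⁻¹ * x) * g := by group
      _ = g⁻¹ * x * g * l := by rw [h]; group
  exact mem_Ys.2 ⟨mem_D2.2 ⟨mem_Cz.2 (h1 z A.z_L0).symm, fun q hq => h1 q (A.Qb_le_L0 hq)⟩,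
    mem_D2.2 ⟨mem_Cz.2 (h2 z A.z_L0).symm, fun q hq => h2 q (A.Qb_le_L0 hq)⟩⟩

/-- An involution of the centraliser of `b` not conjugate to `z`. -/
theorem other_invol [Finite G] {u g : G} (W : Swap z Q f u g) (hgb : g * b = b * g) :
    ∃ t : G, t * b = b * t ∧ orderOf t = 2 ∧ ∀ h : G, h * z * h⁻¹ ≠ t := by
  obtain ⟨r, hr, w, w0, hrf, hxI, hw, hw0, hw1, h0, h1⟩ := A.exists_wx W hgb
  have key : ∀ a w : V8, (a = 34 ∨ a = 70 ∨ a = 100) → (w = a ∨ w = vadd a pt) →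
      qb w = true ∧ ∃ v : V8, (v = 34 ∨ v = 70 ∨ v = 100) ∧ bl v w = true := by decide +kernel
  obtain ⟨hqw, v, hv, hvw⟩ := key w0 w h0 h1
  obtain ⟨hvp, hvq, hvb⟩ : bl v pt = false ∧ qb v = true ∧ ∀ j, bl v (p2 j) = false := by
    rcases hv with rfl | rfl | rfl <;> decide +kernel
  obtain ⟨q, hq, hqf⟩ := A.M.f_surj v
  have hqb : q ∈ Qb Q b := A.mem_Qb.2 ⟨hq, fun j => by rw [hqf]; exact hvb j⟩
  have hx' : g⁻¹ * (g * r * g⁻¹) * g ∈ Q := by
    rw [show g⁻¹ * (g * r * g⁻¹) * g = r by group]; exact hr.1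
  set x := g * r * g⁻¹ with hx
  have hxx : x * x = u := by
    rw [hx, show g * r * g⁻¹ * (g * r * g⁻¹) = g * (r * r) * g⁻¹ by group, A.M.sq_zp hr.1, hrf,
      show qb 34 = true by decide +kernel, zp_true, W.gz]
  have hcm := A.M.D_comm W hxI hx' hw q hq (by rw [hqf]; exact hvp)
  rw [hqf, hvw] at hcm
  have hqu : q * u = u * q := A.M.perp_comm W hq (by rw [hqf]; exact hvp)
  have hqq : q * q = z := by rw [A.M.sq_zp hq, hqf, hvq, zp_true]
  have ht2 : x * q * (x * q) = 1 := by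
    calc x * q * (x * q) = x * q * x⁻¹ * (x * x) * q := by group
      _ = q * (u * z) * u * q := by rw [hcm, hxx]; rfl
      _ = q * (u * u) * (z * q) := by
          rw [mul_assoc q (u * z) u, mul_assoc u z u,
            ← mem_Cz.1 (A.M.le W.nc.1)]; group
      _ = q * q * z := by rw [W.nc.2.1, ← mem_Cz.1 (A.M.le hq), mul_one, mul_assoc]
      _ = 1 := by rw [hqq, A.M.zz]
  have htI := A.M.img_mul_q hxI hq
  have hg : g ∈ Subgroup.centralizer ({b} : Set G) :=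
    Subgroup.mem_centralizer_singleton_iff.2 hgb
  refine ⟨x * q, Subgroup.mem_centralizer_singleton_iff.1
    (mul_mem (mul_mem (mul_mem hg hr.2) (inv_mem hg)) hqb.2), ?_, fun h hh => ?_⟩
  · refine orderOf_eq_prime (by rw [sq, ht2]) fun e => ?_
    have h1' : sieP pt w = 1 := htI.unique (e ▸ Img.one)
    rcases sieP_eq hw (show bl 0 pt = false by decide +kernel)
        (h1'.trans sieP_zero.symm) with e | e <;> rw [vadd_zero] at e
    exacts [hw0 e, hw1 e]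
  · obtain ⟨c, σ, hc, -, -, -, he⟩ := A.M.orbit_move W hw hw0 hw1
    rw [hqw] at he
    simp only [if_true, ← wperm_wC] at he
    obtain ⟨k, bb, T⟩ := A.M.exists_Two W
    have hI' := htI.conj hc
    rw [he] at hI'
    obtain ⟨j, hj⟩ := isConj_iff.1 (A.M.class_C W T hI' (by
      rw [show c * (x * q) * c⁻¹ * (c * (x * q) * c⁻¹) = c * (x * q * (x * q)) * c⁻¹ by group,
        ht2, mul_one, mul_inv_cancel]))
    refine A.M.b_not_z T (j * c * h) ?_
    rw [← hj, ← hh]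
    group

end Five

end CfsgLib.Small.ConTwo
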