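import Cfsg.Agent.Lib.Small.ConTwo.InvolData

/-!
Finite checks on the data for the involutions of the orthogonal group of plus type in dimension
eight over two elements.
-/

set_option autoImplicit false
set_option maxRecDepth 100000
set_option maxHeartbeats 0

namespace CfsgLib.Small.ConTwo

/-- The matrix of a word in root elements. -/
def wM (l : List (Fin 24)) : M8 := l.foldr (fun k m => (rootM k).mul m) idM8

theorem rootPar_ok : ∀ k : Fin 24, SieOK (rootPar k) ∧
    rootM k = matSie (rootPar k).1 (rootPar k).2 := by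
  decide +kernel

theorem eM_ok : ∀ i : Fin 64, SieOK (1, wOf i) ∧ eM i = matSie 1 (wOf i) := by
  decide +kernel

theorem eM_mul : ∀ i k : Fin 64, (eM i).mul (eM k) = eM (i ^^^ k) := by decide +kernel

theorem eM_cover : ∀ w : V8, bl 1 w = false → matSie 1 w = eM (idxOf w) := by decide +kernel

theorem lW_ok : ∀ a : Fin 64, wM (lW a) = lM a := by decide +kernel

theorem lM_mul : ∀ a b : Fin 64, (lM a).mul (lM b) = lM (lMul a b) := by decide +kernel

theorem lM_fix : ∀ a : Fin 64, (lM a).ap 1 = 1 ∧ (lM a).ap 16 = 16 := by decide +kernel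

theorem lM_act : ∀ a i : Fin 64, (lM a).ap (wOf i) = wOf (lAct a i) := by decide +kernel

theorem lM_nodup : ((List.finRange 64).map lM).Nodup := by decide +kernel

theorem eM_sixteen : ((List.finRange 64).map fun i => (eM i).ap 16).Nodup := by decide +kernel

theorem eM_zero : eM 0 = idM8 ∧ lM 0 = idM8 := by decide +kernel

theorem comW_ok : ∀ t : Fin 6, wM [(comW t).1, (comW t).2, (comW t).1, (comW t).2] =
    eM (Fin.ofNat 64 (2 ^ t.val)) := by
  decide +kernel

theorem bits_span : ∀ i : Fin 64, ∀ t : Fin 6, i.val < 2 ^ (t.val + 1) → 2 ^ t.val ≤ i.val →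
    (i ^^^ Fin.ofNat 64 (2 ^ t.val)).val < 2 ^ t.val := by
  decide +kernel

theorem ptW_ok : ∀ x ∈ ptW, (wM x.2).ap 1 = x.1 := by decide +kernel

theorem ptW_cover : ∀ p : V8, qb p = false → p = 0 ∨ ∃ x ∈ ptW, x.1 = p := by decide +kernel

theorem xor_eq_zero64 : ∀ i j : Fin 64, i ^^^ j = 0 → i = j := by decide +kernel

theorem repM_ok : ∀ r : Fin 5, WordOK (reps.getD r.val []) ∧ reps.getD r.val [] ∈ reps ∧
    ∀ j : Fin 8, wap (reps.getD r.val []) (ev j) = (repM r).ap (ev j) := by
  decide +kernel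

theorem invW_ok : ∀ a : Fin 64, ∀ x ∈ invW a,
    (wM x.2.2).mul ((eM x.1).mul (lM a)) = (repM x.2.1).mul (wM x.2.2) := by
  decide +kernel

theorem invW_cover : ∀ a i : Fin 64, lMul a a = 0 → i = lAct a i →
    (i = 0 ∧ a = 0) ∨ ∃ x ∈ invW a, x.1 = i := by
  decide +kernel

end CfsgLib.Small.ConTwo
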