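import Cfsg.Agent.Lib.Small.ConTwo.Facts

/-!
An involution centraliser with a large extraspecial subgroup of order `2 ^ 9` and orthogonal
quotient of plus type, and the first consequences for the ambient group.
-/

set_option autoImplicit false
set_option linter.style.haveILetI false

namespace CfsgLib.Small.ConTwo

open Equiv

variable {G : Type*} [Group G]

/-- The centraliser of `z`. -/
abbrev Cz (z : G) : Subgroup G := Subgroup.centralizer ({z} : Set G)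

theorem mem_Cz {z x : G} : x ∈ Cz z ↔ x * z = z * x :=
  Subgroup.mem_centralizer_singleton_iff

/-- The data of the centraliser in coordinates. -/
structure Model (z : G) (Q : Subgroup G) (f : G → V8) (ρ : Cz z →* Perm (V8)) : Prop where
  ord : orderOf z = 2
  le : Q ≤ Cz z
  normal : ∀ c ∈ Cz z, ∀ q ∈ Q, c * q * c⁻¹ ∈ Q
  card : Nat.card Q = 512
  z_mem : z ∈ Q
  f_mul : ∀ q ∈ Q, ∀ r ∈ Q, f (q * r) = vadd (f q) (f r)
  f_ker : ∀ q ∈ Q, f q = 0 ↔ q = 1 ∨ q = z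
  f_surj : ∀ v, ∃ q ∈ Q, f q = v
  f_sq : ∀ q ∈ Q, q * q = if qb (f q) then z else 1
  ρ_conj : ∀ (c : Cz z), ∀ q ∈ Q, ρ c (f q) = f (c * q * (c : G)⁻¹)
  ρ_ker : ∀ c : Cz z, ρ c = 1 ↔ (c : G) ∈ Q
  ρ_card : Nat.card ρ.range = 174182400
  nwc : ∃ g : G, g * z * g⁻¹ ∈ Q ∧ g * z * g⁻¹ ≠ z
  sie_mem : ∀ p w : V8, sieP p w ∈ ρ.range
  invol : ∀ π ∈ ρ.range, π * π = 1 → π ≠ 1 →
    ∃ c ∈ ρ.range, ∃ l ∈ reps, c * π * c⁻¹ = wperm l

/-- `x` lies in the centraliser and acts as `π`. -/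
def Img {z : G} (ρ : Cz z →* Perm (V8)) (x : G) (π : Perm (V8)) : Prop :=
  ∃ h : x ∈ Cz z, ρ ⟨x, h⟩ = π

/-- A power of `z`. -/
def zp (z : G) (b : Bool) : G := if b then z else 1

/-- A noncentral involution of `Q`. -/
def Nc (z : G) (Q : Subgroup G) (q : G) : Prop := q ∈ Q ∧ q * q = 1 ∧ q ≠ 1 ∧ q ≠ z

/-- `b` lies in the conjugate of `Q` attached to `a`. -/
def InQ (z : G) (Q : Subgroup G) (a b : G) : Prop := ∃ g : G, g * z * g⁻¹ = a ∧ g⁻¹ * b * g ∈ Q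

section Img

variable {z : G} {ρ : Cz z →* Perm (V8)} {x y : G} {π σ : Perm (V8)}

theorem Img.mem (h : Img ρ x π) : x ∈ Cz z := h.1

theorem Img.mk' (h : x ∈ Cz z) : Img ρ x (ρ ⟨x, h⟩) := ⟨h, rfl⟩

theorem Img.unique (h : Img ρ x π) (h' : Img ρ x σ) : π = σ := by
  obtain ⟨hx, rfl⟩ := h
  obtain ⟨_, rfl⟩ := h'
  rfl

theorem Img.mul (h : Img ρ x π) (h' : Img ρ y σ) : Img ρ (x * y) (π * σ) := by
  obtain ⟨hx, rfl⟩ := h
  obtain ⟨hy, rfl⟩ := h'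
  exact ⟨mul_mem hx hy, map_mul ρ ⟨x, hx⟩ ⟨y, hy⟩⟩

theorem Img.inv (h : Img ρ x π) : Img ρ x⁻¹ π⁻¹ := by
  obtain ⟨hx, rfl⟩ := h
  exact ⟨inv_mem hx, map_inv ρ ⟨x, hx⟩⟩

theorem Img.conj (h : Img ρ x π) (h' : Img ρ y σ) : Img ρ (y * x * y⁻¹) (σ * π * σ⁻¹) :=
  (h'.mul h).mul h'.inv

theorem Img.one : Img ρ (1 : G) 1 := ⟨one_mem _, map_one ρ⟩

theorem Img.pow (h : Img ρ x π) : ∀ n : ℕ, Img ρ (x ^ n) (π ^ n)
  | 0 => by rw [pow_zero, pow_zero]; exact Img.one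
  | n + 1 => by rw [pow_succ, pow_succ]; exact (h.pow n).mul h

theorem Img.mem_range (h : Img ρ x π) : π ∈ ρ.range := ⟨⟨x, h.1⟩, h.2⟩

theorem exists_img (h : π ∈ ρ.range) : ∃ x : G, Img ρ x π := by
  obtain ⟨c, rfl⟩ := h
  exact ⟨c, c.2, rfl⟩

end Img

theorem zp_false (z : G) : zp z false = 1 := rfl

theorem zp_true (z : G) : zp z true = z := rfl

namespace Model

variable {z : G} {Q : Subgroup G} {f : G → V8} {ρ : Cz z →* Perm (V8)}
variable (M : Model z Q f ρ)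

include M

theorem zz : z * z = 1 := by
  have h := pow_orderOf_eq_one z
  rwa [M.ord, sq] at h

theorem z_ne : z ≠ 1 := fun h => by
  have h2 := M.ord
  rw [h, orderOf_one] at h2
  omega

theorem z_inv : z⁻¹ = z := inv_eq_of_mul_eq_one_right M.zz

theorem zp_xor (a b : Bool) : zp z (a ^^ b) = zp z a * zp z b := by
  cases a <;> cases b <;> simp [zp, M.zz]

theorem zp_inj {a b : Bool} (h : zp z a = zp z b) : a = b := by
  cases a <;> cases b <;> simp [zp, M.z_ne, M.z_ne.symm] at h ⊢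

theorem zp_comm (a : Bool) {x : G} (hx : x ∈ Cz z) : x * zp z a = zp z a * x := by
  cases a
  · simp [zp]
  · exact mem_Cz.1 hx

theorem sq_zp {q : G} (hq : q ∈ Q) : q * q = zp z (qb (f q)) := M.f_sq q hq

theorem f_one : f 1 = 0 := (M.f_ker 1 (one_mem Q)).2 (Or.inl rfl)

theorem f_z : f z = 0 := (M.f_ker z M.z_mem).2 (Or.inr rfl)

theorem f_inv {q : G} (hq : q ∈ Q) : f q⁻¹ = f q := by
  have h := M.f_mul q hq q⁻¹ (inv_mem hq)
  rw [mul_inv_cancel, M.f_one] at h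
  exact (vadd_eq_zero h.symm).symm

theorem f_mul_z {q : G} (hq : q ∈ Q) : f (q * z) = f q := by
  rw [M.f_mul q hq z M.z_mem, M.f_z, vadd_zero]

theorem f_eq {q r : G} (hq : q ∈ Q) (hr : r ∈ Q) (h : f q = f r) : r = q ∨ r = q * z := by
  have h1 : f (q⁻¹ * r) = 0 := by
    rw [M.f_mul _ (inv_mem hq) r hr, M.f_inv hq, h, vadd_self]
  rcases (M.f_ker _ (mul_mem (inv_mem hq) hr)).1 h1 with h2 | h2
  · exact Or.inl (inv_mul_eq_one.1 h2).symm
  · exact Or.inr (by rw [← h2]; group)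

theorem inv_eq {q : G} (hq : q ∈ Q) : q⁻¹ = q * zp z (qb (f q)) := by
  apply inv_eq_of_mul_eq_one_right
  rw [← mul_assoc, M.sq_zp hq, ← M.zp_xor, Bool.xor_self, zp_false]

theorem comm {q r : G} (hq : q ∈ Q) (hr : r ∈ Q) :
    r * q = zp z (bl (f q) (f r)) * (q * r) := by
  have h1 := M.sq_zp (mul_mem hq hr)
  rw [M.f_mul q hq r hr, qb_vadd, M.zp_xor, M.zp_xor] at h1
  have h2 : r * q = q⁻¹ * (q * r * (q * r)) * r⁻¹ := by group
  rw [h2, h1, ← M.sq_zp hq, ← M.sq_zp hr]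
  calc q⁻¹ * (q * q * (r * r) * zp z (bl (f q) (f r))) * r⁻¹
      = q * (r * r) * (zp z (bl (f q) (f r)) * r⁻¹) := by group
    _ = q * (r * r) * (r⁻¹ * zp z (bl (f q) (f r))) := by
        rw [M.zp_comm _ (inv_mem (M.le hr))]
    _ = q * r * zp z (bl (f q) (f r)) := by group
    _ = _ := M.zp_comm _ (M.le (mul_mem hq hr))

theorem commute_iff {q r : G} (hq : q ∈ Q) (hr : r ∈ Q) :
    r * q = q * r ↔ bl (f q) (f r) = false := by
  rw [M.comm hq hr, mul_eq_right]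
  exact ⟨fun h => M.zp_inj (h.trans (zp_false z).symm), fun h => by rw [h, zp_false]⟩

theorem range_le : ρ.range ≤ O := by
  rintro _ ⟨c, rfl⟩
  refine ⟨fun v w => ?_, fun v => ?_⟩
  · obtain ⟨q, hq, rfl⟩ := M.f_surj v
    obtain ⟨r, hr, rfl⟩ := M.f_surj w
    rw [← M.f_mul q hq r hr, M.ρ_conj c _ (mul_mem hq hr), M.ρ_conj c q hq, M.ρ_conj c r hr,
      ← M.f_mul _ (M.normal c c.2 q hq) _ (M.normal c c.2 r hr)]
    exact congrArg f (by group)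
  · obtain ⟨q, hq, rfl⟩ := M.f_surj v
    rw [M.ρ_conj c q hq]
    refine M.zp_inj ?_
    rw [← M.sq_zp hq, ← M.sq_zp (M.normal c c.2 q hq)]
    calc (c : G) * q * (c : G)⁻¹ * ((c : G) * q * (c : G)⁻¹) = c * (q * q) * (c : G)⁻¹ := by
          group
      _ = q * q := by rw [M.sq_zp hq, M.zp_comm _ c.2, mul_inv_cancel_right]

theorem img_O {x : G} {π : Perm (V8)} (h : Img ρ x π) : π ∈ O := M.range_le h.mem_range

theorem word_mem (l : List (V8 × V8)) : wperm l ∈ ρ.range :=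
  list_prod_mem fun x hx => by
    obtain ⟨y, -, rfl⟩ := List.mem_map.1 hx
    exact M.sie_mem _ _

theorem lift (l : List (V8 × V8)) : ∃ x : G, Img ρ x (wperm l) :=
  exists_img (M.word_mem l)

theorem img_conj {x q : G} {π : Perm (V8)} (h : Img ρ x π) (hq : q ∈ Q) :
    f (x * q * x⁻¹) = π (f q) := by
  obtain ⟨hx, rfl⟩ := h
  exact (M.ρ_conj ⟨x, hx⟩ q hq).symm

theorem img_q {q : G} (hq : q ∈ Q) : Img ρ q 1 := ⟨M.le hq, (M.ρ_ker ⟨q, M.le hq⟩).2 hq⟩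

theorem img_one_mem {x : G} (h : Img ρ x 1) : x ∈ Q := (M.ρ_ker ⟨x, h.1⟩).1 h.2

theorem img_mul_q {x q : G} {π : Perm (V8)} (h : Img ρ x π) (hq : q ∈ Q) :
    Img ρ (x * q) π := by
  have h' := h.mul (M.img_q hq)
  rwa [mul_one] at h'

theorem not_mem_of_img {x : G} {π : Perm (V8)} (h : Img ρ x π) (hπ : π ≠ 1) : x ∉ Q :=
  fun hq => hπ (h.unique (M.img_q hq))

theorem img_same {x y : G} {π : Perm (V8)} (hx : Img ρ x π) (hy : Img ρ y π) :
    ∃ q ∈ Q, y = x * q := by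
  refine ⟨x⁻¹ * y, ?_, by group⟩
  have h := hx.inv.mul hy
  rw [inv_mul_cancel] at h
  exact M.img_one_mem h

/-- Only `1` and `z` centralise `Q` in the centraliser of `z`. -/
theorem cent_Q {c : G} (hc : c ∈ Cz z) (h : ∀ q ∈ Q, c * q = q * c) : c = 1 ∨ c = z := by
  have hI : Img ρ c (ρ ⟨c, hc⟩) := Img.mk' hc
  have h1 : ρ ⟨c, hc⟩ = 1 := Equiv.ext fun v => by
    obtain ⟨q, hq, rfl⟩ := M.f_surj v
    rw [← M.img_conj hI hq, h q hq, mul_inv_cancel_right]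
    rfl
  rw [h1] at hI
  have hcQ := M.img_one_mem hI
  refine (M.f_ker c hcQ).1 (bl_nondeg _ fun w => ?_)
  obtain ⟨q, hq, hqe⟩ := M.f_surj (ev w)
  rw [← hqe]
  exact (M.commute_iff hcQ hq).1 (h q hq).symm

theorem isPGroup : IsPGroup 2 Q := by
  haveI : Fact (Nat.Prime 2) := ⟨Nat.prime_two⟩
  exact IsPGroup.of_card (n := 9) (by rw [M.card]; norm_num)

/-- Every involution is conjugate into the centraliser of `z`. -/
theorem into_Cz [Finite G] {t : G} (ht : t * t = 1) : ∃ g : G, g * t * g⁻¹ ∈ Cz z := by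
  haveI : Fact (Nat.Prime 2) := ⟨Nat.prime_two⟩
  obtain ⟨S, hS⟩ := M.isPGroup.exists_le_sylow
  haveI : Nontrivial (S : Subgroup G) :=
    ⟨⟨⟨z, hS M.z_mem⟩, 1, fun h => M.z_ne (congrArg Subtype.val h)⟩⟩
  haveI : Finite (S : Subgroup G) := inferInstance
  haveI : Nontrivial (Subgroup.center (S : Subgroup G)) := S.2.center_nontrivial
  obtain ⟨w, hw⟩ := exists_ne (1 : Subgroup.center (S : Subgroup G))
  have hwc : ∀ s : G, s ∈ (S : Subgroup G) → s * (w.1 : G) = (w.1 : G) * s := fun s hs =>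
    congrArg Subtype.val (Subgroup.mem_center_iff.1 w.2 ⟨s, hs⟩)
  have hwC : (w.1 : G) ∈ Cz z := mem_Cz.2 (hwc z (hS M.z_mem)).symm
  have hwz : (w.1 : G) = z := by
    rcases M.cent_Q hwC (fun q hq => (hwc q (hS hq)).symm) with h | h
    · exact absurd (Subtype.ext (Subtype.ext h)) hw
    · exact h
  have hSC : (S : Subgroup G) ≤ Cz z := fun s hs => mem_Cz.2 (by rw [← hwz]; exact hwc s hs)
  have hT : IsPGroup 2 (Subgroup.zpowers t) := by
    intro x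
    obtain ⟨k, hk⟩ := x.2
    refine ⟨1, Subtype.ext ?_⟩
    simp only [← hk, pow_one, SubgroupClass.coe_pow, Subgroup.coe_one]
    rw [← zpow_natCast, ← zpow_mul, mul_comm, zpow_mul, zpow_natCast, sq, ht, one_zpow]
  obtain ⟨S', hS'⟩ := hT.exists_le_sylow
  obtain ⟨g, hg⟩ := MulAction.exists_smul_eq G S' S
  refine ⟨g, hSC ?_⟩
  rw [← hg, Sylow.coe_subgroup_smul]
  exact Subgroup.mem_map.2 ⟨t, hS' (Subgroup.mem_zpowers t), rfl⟩

theorem InQ_any {a b g : G} (h : InQ z Q a b) (hg : g * z * g⁻¹ = a) : g⁻¹ * b * g ∈ Q := by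
  obtain ⟨k, hk, hkQ⟩ := h
  have hc : g⁻¹ * k ∈ Cz z := mem_Cz.2 (by
    calc g⁻¹ * k * z = g⁻¹ * (k * z * k⁻¹) * k := by group
      _ = z * (g⁻¹ * k) := by rw [hk, ← hg]; group)
  have h2 := M.normal _ hc _ hkQ
  rwa [show g⁻¹ * k * (k⁻¹ * b * k) * (g⁻¹ * k)⁻¹ = g⁻¹ * b * g by group] at h2

theorem InQ_z {b : G} : InQ z Q z b ↔ b ∈ Q := by
  refine ⟨fun h => ?_, fun h => ⟨1, by group, by simpa using h⟩⟩
  simpa using M.InQ_any h (g := 1) (by group)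

omit M in
theorem InQ_conj {a b : G} (x : G) (h : InQ z Q a b) :
    InQ z Q (x * a * x⁻¹) (x * b * x⁻¹) := by
  obtain ⟨k, hk, hkQ⟩ := h
  refine ⟨x * k, by rw [← hk]; group, ?_⟩
  rwa [show (x * k)⁻¹ * (x * b * x⁻¹) * (x * k) = k⁻¹ * b * k by group]

theorem Nc_conj {c q : G} (hc : c ∈ Cz z) (h : Nc z Q q) : Nc z Q (c * q * c⁻¹) := by
  obtain ⟨hq, h2, h1, hz⟩ := h
  refine ⟨M.normal c hc q hq, ?_, fun e => h1 ?_, fun e => hz ?_⟩
  · calc c * q * c⁻¹ * (c * q * c⁻¹) = c * (q * q) * c⁻¹ := by group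
      _ = 1 := by rw [h2]; group
  · exact conj_eq_one_iff.1 e
  · calc q = c⁻¹ * (c * q * c⁻¹) * c := by group
      _ = c⁻¹ * (z * c) := by rw [e]; group
      _ = z := by rw [← mem_Cz.1 hc]; group

theorem Nc_f {q : G} (h : Nc z Q q) : qb (f q) = false ∧ f q ≠ 0 := by
  obtain ⟨hq, h2, h1, hz⟩ := h
  refine ⟨M.zp_inj ?_, fun e => ?_⟩
  · rw [← M.sq_zp hq, h2, zp_false]
  · rcases (M.f_ker q hq).1 e with e' | e'
    · exact h1 e'
    · exact hz e'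

theorem Nc_of_f {q : G} (hq : q ∈ Q) (hs : qb (f q) = false) (h0 : f q ≠ 0) : Nc z Q q :=
  ⟨hq, by rw [M.sq_zp hq, hs, zp_false], fun e => h0 ((M.f_ker q hq).2 (Or.inl e)),
    fun e => h0 ((M.f_ker q hq).2 (Or.inr e))⟩

/-- An element of the centraliser moving one element over `v` to another over `w`. -/
theorem conj_same_f {q r : G} (hq : q ∈ Q) (hr : r ∈ Q) (h : f q = f r) (h0 : f q ≠ 0) :
    ∃ s ∈ Q, s * q * s⁻¹ = r := by
  rcases M.f_eq hq hr h with rfl | rfl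
  · exact ⟨1, one_mem Q, by group⟩
  · obtain ⟨w, hw⟩ : ∃ w, bl (f q) w = true := by
      by_contra hne
      push Not at hne
      exact h0 (bl_nondeg _ fun w => Bool.eq_false_iff.2 (hne (ev w)))
    obtain ⟨s, hs, rfl⟩ := M.f_surj w
    refine ⟨s, hs, ?_⟩
    rw [M.comm hq hs, hw, zp_true, ← mem_Cz.1 (M.le (mul_mem hq hs))]
    calc q * s * z * s⁻¹ = q * s * (z * s⁻¹) := mul_assoc _ _ _
      _ = q * s * (s⁻¹ * z) := by rw [mem_Cz.1 (inv_mem (M.le hs))]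
      _ = q * z := by group

/-- A lift of an element fixing `f u` can be chosen to centralise `u`. -/
theorem lift_fix {u : G} (hu : u ∈ Q) (h0 : f u ≠ 0) {l : List (V8 × V8)} (hok : WordOK l) (hi : wap l (f u) = f u) :
    ∃ c : G, Img ρ c (wperm l) ∧ c * u = u * c := by
  obtain ⟨c, hc⟩ := M.lift l
  have h : f (c * u * c⁻¹) = f u := by rw [M.img_conj hc hu, wperm_apply hok, hi]
  obtain ⟨s, hs, he⟩ := M.conj_same_f (M.normal c hc.mem u hu) hu h (h ▸ h0)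
  refine ⟨s * c, ?_, ?_⟩
  · simpa using (M.img_q hs).mul hc
  · calc s * c * u = s * (c * u * c⁻¹) * s⁻¹ * (s * c) := by group
      _ = u * (s * c) := by rw [he]

theorem nc_trans {q r : G} (hq : Nc z Q q) (hr : Nc z Q r) :
    ∃ c ∈ Cz z, c * q * c⁻¹ = r := by
  obtain ⟨sq, nq⟩ := M.Nc_f hq
  obtain ⟨sr, nr⟩ := M.Nc_f hr
  obtain ⟨i, hiok, hi⟩ := trans_pt _ sq nq
  obtain ⟨j, hjok, hj⟩ := trans_pt _ sr nr
  obtain ⟨a, ha⟩ := M.lift i
  obtain ⟨b, hb⟩ := M.lift j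
  have he : f (a * q * a⁻¹) = f (b * r * b⁻¹) := by
    rw [M.img_conj ha hq.1, M.img_conj hb hr.1, wperm_apply hiok, wperm_apply hjok, hi, hj]
  obtain ⟨s, hs, hse⟩ := M.conj_same_f (M.normal a ha.mem q hq.1) (M.normal b hb.mem r hr.1) he
    (M.Nc_f (M.Nc_conj ha.mem hq)).2
  refine ⟨b⁻¹ * s * a, mul_mem (mul_mem (inv_mem hb.mem) (M.le hs)) ha.mem, ?_⟩
  calc b⁻¹ * s * a * q * (b⁻¹ * s * a)⁻¹ = b⁻¹ * (s * (a * q * a⁻¹) * s⁻¹) * b := by group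
    _ = r := by rw [hse]; group

/-- All noncentral involutions of `Q` are conjugate to `z`. -/
theorem nc_conj_z {q : G} (hq : Nc z Q q) : ∃ g : G, g * z * g⁻¹ = q := by
  obtain ⟨g, hgQ, hgz⟩ := M.nwc
  have hu : Nc z Q (g * z * g⁻¹) := by
    refine ⟨hgQ, ?_, fun e => M.z_ne (conj_eq_one_iff.1 e), hgz⟩
    calc g * z * g⁻¹ * (g * z * g⁻¹) = g * (z * z) * g⁻¹ := by group
      _ = 1 := by rw [M.zz]; group
  obtain ⟨c, _, hc⟩ := M.nc_trans hu hq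
  exact ⟨c * g, by rw [← hc]; group⟩

end Model

end CfsgLib.Small.ConTwo
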