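import Cfsg.Agent.Lib.Small.SuzTwo.Orth
import Cfsg.Agent.Lib.Classical.PSpFourThree

/-!
The group Ω⁻(6, 2) as permutations of the bit strings of length six.
-/

set_option autoImplicit false
set_option linter.style.haveILetI false

namespace CfsgLib.Small.ConTwo.SixMinus

open Equiv CfsgLib.Classical CfsgLib.Classical.ESix CfsgLib.Geometry

/-- The bit string of six coordinates. -/
def encV (v : V2) : Fin 64 :=
  SuzTwo.vadd
    (SuzTwo.vadd
      (SuzTwo.vadd (SuzTwo.sel (decide (v (.inr 0) = 1)) 1)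
        (SuzTwo.sel (decide (v (.inl (.inl 0)) = 1)) 2))
      (SuzTwo.vadd (SuzTwo.sel (decide (v (.inl (.inl 1)) = 1)) 4)
        (SuzTwo.sel (decide (v (.inr 1) = 1)) 8)))
    (SuzTwo.vadd (SuzTwo.sel (decide (v (.inl (.inr 0)) = 1)) 16)
      (SuzTwo.sel (decide (v (.inl (.inr 1)) = 1)) 32))

/-- The vector of six coordinates. -/
def mkV (a b c d e g : ZMod 2) : V2 := Sum.elim (Sum.elim ![b, c] ![e, g]) ![a, d]

theorem exists_mkV (v : V2) : ∃ a b c d e g : ZMod 2, v = mkV a b c d e g :=
  ⟨v (.inr 0), v (.inl (.inl 0)), v (.inl (.inl 1)), v (.inr 1), v (.inl (.inr 0)),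
    v (.inl (.inr 1)), by funext i; rcases i with (i | i) | i <;> fin_cases i <;> rfl⟩

theorem mkV_add (a b c d e g a' b' c' d' e' g' : ZMod 2) :
    mkV a b c d e g + mkV a' b' c' d' e' g' =
      mkV (a + a') (b + b') (c + c') (d + d') (e + e') (g + g') := by
  funext i; rcases i with (i | i) | i <;> fin_cases i <;> rfl

theorem enc_facts : ∀ a b c d e g : ZMod 2,
    SuzTwo.qb (encV (mkV a b c d e g)) =
        decide ((b * e + c * g) + (a ^ 2 + a * d + d ^ 2) = (1 : ZMod 2)) ∧
      (encV (mkV a b c d e g) = 0 → mkV a b c d e g = 0) := by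
  decide +kernel

theorem enc_add' : ∀ a b c d e g a' b' c' d' e' g' : ZMod 2,
    encV (mkV (a + a') (b + b') (c + c') (d + d') (e + e') (g + g')) =
      SuzTwo.vadd (encV (mkV a b c d e g)) (encV (mkV a' b' c' d' e' g')) := by
  decide +kernel

theorem enc_surj : ∀ x : Fin 64, ∃ a b c d e g : ZMod 2, encV (mkV a b c d e g) = x := by
  decide +kernel

theorem encV_add (v w : V2) : encV (v + w) = SuzTwo.vadd (encV v) (encV w) := by
  obtain ⟨a, b, c, d, e, g, rfl⟩ := exists_mkV v
  obtain ⟨a', b', c', d', e', g', rfl⟩ := exists_mkV w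
  rw [mkV_add]
  exact enc_add' _ _ _ _ _ _ _ _ _ _ _ _

theorem encV_bij : Function.Bijective encV := by
  refine ⟨fun v w h => ?_, fun x => ?_⟩
  · obtain ⟨a, b, c, d, e, g, hvw⟩ := exists_mkV (v + w)
    have h0 : encV (v + w) = 0 := by rw [encV_add, h, SuzTwo.vadd_self]
    rw [hvw] at h0
    have h1 := (enc_facts a b c d e g).2 h0
    rw [← hvw] at h1
    rw [eq_neg_of_add_eq_zero_left h1]
    funext i
    exact ZMod.neg_eq_self_mod_two _
  · obtain ⟨a, b, c, d, e, g, h⟩ := enc_surj x
    exact ⟨_, h⟩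

theorem encV_qb (v : V2) : SuzTwo.qb (encV v) = decide (Q2 v = 1) := by
  obtain ⟨a, b, c, d, e, g, rfl⟩ := exists_mkV v
  rw [(enc_facts a b c d e g).1, Q2, coe_matQuad_minus]
  simp [Cfsg.quadFormMinus, mkV, Fin.sum_univ_two]

/-- The coordinates. -/
noncomputable def encE : V2 ≃ Fin 64 := Equiv.ofBijective encV encV_bij

/-- The isometries as permutations of the bit strings. -/
noncomputable def toP : orth Q2 →* Perm (Fin 64) :=
  MonoidHom.mk' (fun e => encE.permCongr (e.1.toEquiv))
    fun a b => Equiv.ext fun x => by simp [Equiv.permCongr_apply]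

theorem toP_apply (e : orth Q2) (v : V2) : toP e (encV v) = encV (e.1 v) := by
  show encV (e.1 (encE.symm (encE v))) = _
  rw [Equiv.symm_apply_apply]

theorem toP_inj : Function.Injective toP := fun a b h => by
  refine Subtype.ext (LinearEquiv.ext fun v => encV_bij.1 ?_)
  rw [← toP_apply, ← toP_apply, h]

theorem toP_mem (e : orth Q2) : toP e ∈ SuzTwo.O := by
  refine ⟨fun x y => ?_, fun x => ?_⟩
  · obtain ⟨v, rfl⟩ := encV_bij.2 x
    obtain ⟨w, rfl⟩ := encV_bij.2 y
    rw [← encV_add, toP_apply, toP_apply, toP_apply, map_add, encV_add]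
  · obtain ⟨v, rfl⟩ := encV_bij.2 x
    rw [toP_apply, encV_qb, encV_qb, e.2 v]

theorem range_eq_O : toP.range = SuzTwo.O := by
  refine Subgroup.eq_of_le_of_card_ge (by rintro _ ⟨e, rfl⟩; exact toP_mem e) ?_
  rw [← Nat.card_congr (MonoidHom.ofInjective toP_inj).toEquiv, card_orth_two]
  exact SuzTwo.card_O_le

theorem card_O : Nat.card SuzTwo.O = 51840 := by
  rw [← range_eq_O, ← Nat.card_congr (MonoidHom.ofInjective toP_inj).toEquiv, card_orth_two]

/-- The commutators of the orthogonal group. -/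
noncomputable def Om : Subgroup (Perm (Fin 64)) := ⁅SuzTwo.O, SuzTwo.O⁆

theorem Om_eq : Om = (commutator (orth Q2)).map toP := by
  rw [Om, ← range_eq_O, commutator_def, Subgroup.map_commutator, ← MonoidHom.range_eq_map]

theorem Om_le : Om ≤ SuzTwo.O :=
  Subgroup.commutator_le.2 fun _ ha _ hb =>
    mul_mem (mul_mem (mul_mem ha hb) (inv_mem ha)) (inv_mem hb)

theorem card_Om : Nat.card Om = 25920 := by
  rw [Om_eq, Subgroup.card_map_of_injective toP_inj, card_omega_two]

/-- The commutators are the group of the statements. -/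
theorem omega_iso : Nonempty (Om ≃* Cfsg.Omega (ZMod 2) (Cfsg.quadFormMinus 2 (ZMod 2) 1 1)) := by
  rw [← coe_matQuad_minus]
  let e := isomEquiv (matQuad (minusMat 2 (ZMod 2) (1 : ZMod 2) 1))
  have h : (commutator _).map e.toMonoidHom = commutator _ := by
    rw [commutator_def, Subgroup.map_commutator, Subgroup.map_top_of_surjective _ e.surjective,
      commutator_def]
  refine ⟨((MulEquiv.subgroupCongr Om_eq).trans
    ((commutator (orth Q2)).equivMapOfInjective toP toP_inj).symm).trans ?_⟩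
  exact ((Subgroup.equivMapOfInjective _ e.toMonoidHom e.injective).trans
    (MulEquiv.subgroupCongr h)).symm

theorem sq_one_zmod : ∀ u : ZMod 2, u * u = 1 → u = 1 := by decide

/-- There is no nontrivial normal 2-subgroup. -/
theorem Om_no_two (M : Subgroup Om) (hM : M.Normal) (h2 : IsPGroup 2 M) : M = ⊥ := by
  haveI : Fact (Nat.Prime 2) := ⟨Nat.prime_two⟩
  haveI := hM
  let C := commutator (orth Q2)
  let ψ : Om ≃* C :=
    (MulEquiv.subgroupCongr Om_eq).trans (C.equivMapOfInjective toP toP_inj).symm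
  let M' := M.map ψ.toMonoidHom
  haveI hn : M'.Normal := hM.map _ ψ.surjective
  have h2' : IsPGroup 2 M' := h2.map _
  haveI : IsSimpleGroup (C ⧸ Subgroup.center C) :=
    isSimpleGroup_omega_mod_center nondeg_Q2 (by rw [finrank_V2]; norm_num)
  have hcen : Subgroup.center C = ⊥ := by
    refine (Subgroup.eq_bot_iff_forall _).2 fun w hw => ?_
    obtain ⟨t, ht, htv⟩ := (mem_center_omega_iff nondeg_Q2 (by rw [finrank_V2]; norm_num) w).1 hw
    obtain rfl : t = 1 := sq_one_zmod t ht
    refine Subtype.ext (Subtype.ext (LinearEquiv.ext fun v => ?_))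
    rw [htv v, one_smul]
    rfl
  have key : M' = ⊥ := by
    rcases (Subgroup.Normal.map hn (QuotientGroup.mk' (Subgroup.center C))
        (QuotientGroup.mk'_surjective _)).eq_bot_or_eq_top with h | h
    · rw [Subgroup.map_eq_bot_iff, QuotientGroup.ker_mk', hcen] at h
      exact le_bot_iff.1 h
    · exfalso
      obtain ⟨n, hn'⟩ := IsPGroup.iff_card.1 (h2'.map (QuotientGroup.mk' (Subgroup.center C)))
      rw [h, Subgroup.card_top] at hn'
      have hc := Subgroup.card_eq_card_quotient_mul_card_subgroup (Subgroup.center C)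
      rw [hcen, Subgroup.card_bot, mul_one, card_omega_two] at hc
      rw [hcen, ← hc] at hn'
      have h5 : 5 ∣ 2 ^ n := hn' ▸ (by norm_num)
      exact absurd (Nat.Prime.dvd_of_dvd_pow (by norm_num) h5) (by norm_num)
  exact (Subgroup.map_eq_bot_iff_of_injective M ψ.injective).1 key

end CfsgLib.Small.ConTwo.SixMinus
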