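import Cfsg.Agent.Lib.Small.ConTwo.FactsRep

/-!
Siegel transformations at the distinguished point and the five representatives as permutations.
-/

set_option autoImplicit false

namespace CfsgLib.Small.ConTwo

open Equiv

theorem wperm_single (x : V8 × V8) : wperm [x] = sieP x.1 x.2 := by simp [wperm]

theorem wperm_pair (x y : V8 × V8) : wperm [x, y] = sieP x.1 x.2 * sieP y.1 y.2 := by simp [wperm]

theorem wperm_mem_O (l : List (V8 × V8)) : wperm l ∈ O :=
  list_prod_mem fun _ h => by
    obtain ⟨y, -, rfl⟩ := List.mem_map.1 h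
    exact sieP_mem _ _

theorem bl_sel_pt (b : Bool) (v : V8) : bl v (sel b pt) = (b && bl v pt) := bl_sel_right b pt v

theorem sieOK_pt {w : V8} (h : bl w pt = false) : SieOK (pt, w) :=
  ⟨pt_facts.1, by rw [bl_comm]; exact h⟩

theorem perp_sum {v w : V8} (hv : bl v pt = false) (hw : bl w pt = false) :
    bl (vadd v w) pt = false := by
  rw [bl_vadd_left, hv, hw]; rfl

theorem sie_perp {v : V8} (w : V8) (hv : bl v pt = false) :
    sie pt w v = vadd v (sel (bl v w) pt) := by
  simp [sie, hv, sel, vadd_zero, zero_vadd]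

theorem sie_zero_right (v : V8) : sie pt 0 v = v := by
  simp [sie, qb_zero, sel, bl, pr, bit_zero, vadd_zero]

theorem sie_add_pt {w : V8} (h : bl w pt = false) (v : V8) :
    sie pt (vadd w pt) v = sie pt w v := by
  simp only [sie, qb_vadd, bl_vadd_right, h, pt_facts.1, Bool.xor_false, sel_add]
  cases bl v pt <;> cases bl v w <;> cases qb w <;>
    simp [sel, vadd_zero, zero_vadd, vadd_assoc, vadd_self]

theorem sieP_add_pt {w : V8} (h : bl w pt = false) : sieP pt (vadd w pt) = sieP pt w :=
  Equiv.ext fun v => by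
    rw [sieP_apply (sieOK_pt h), sieP_apply (sieOK_pt (perp_sum h pt_facts.2.2)), sie_add_pt h]

theorem sieP_zero : sieP pt 0 = 1 :=
  Equiv.ext fun v => by
    rw [sieP_apply (show SieOK (pt, 0) from sieOK_pt (by decide +kernel)), sie_zero_right]
    rfl

theorem sieP_pt : sieP pt pt = 1 := by
  have h := sieP_add_pt (w := 0) (by decide +kernel)
  rwa [zero_vadd, sieP_zero] at h

theorem sie_mul {w w' : V8} (h : bl w pt = false) (h' : bl w' pt = false) (v : V8) :
    sie pt w (sie pt w' v) = sie pt (vadd w w') v := by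
  have hp : bl pt pt = false := bl_self pt
  have h2 : bl pt w = false := by rw [bl_comm]; exact h
  simp only [sie, qb_vadd, bl_vadd_left, bl_vadd_right, bl_sel_left, hp, h', h2, bl_comm w' w,
    Bool.and_false, Bool.xor_false, sel_add, sel_xor, Bool.and_xor_distrib_right,
    Bool.and_comm (bl v pt) (bl w w')]
  ac_rfl

theorem sieP_mul {w w' : V8} (h : bl w pt = false) (h' : bl w' pt = false) :
    sieP pt w * sieP pt w' = sieP pt (vadd w w') :=
  Equiv.ext fun v => by
    rw [Perm.mul_apply, sieP_apply (sieOK_pt h'), sieP_apply (sieOK_pt h),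
      sieP_apply (sieOK_pt (perp_sum h h')), sie_mul h h']

theorem sel_pt_inj {b c : Bool} (h : sel b pt = sel c pt) : b = c := by
  cases b <;> cases c <;> first | rfl | exact absurd h pt_facts.2.1 | exact absurd h.symm pt_facts.2.1

theorem sieP_eq {a b : V8} (ha : bl a pt = false) (hb : bl b pt = false)
    (h : sieP pt a = sieP pt b) : vadd a b = 0 ∨ vadd a b = pt := by
  refine perp_basis.1 _ fun j hj => ?_
  have hv : bl (ev j) pt = false := perp_basis.2.1 j hj
  have h1 := congrArg (fun π : Perm V8 => π (ev j)) h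
  simp only [sieP_apply (sieOK_pt ha), sieP_apply (sieOK_pt hb), sie_perp _ hv] at h1
  have h2 : sel (bl (ev j) a) pt = sel (bl (ev j) b) pt := by
    have := congrArg (vadd (ev j)) h1
    rwa [vadd_cancel, vadd_cancel] at this
  rw [bl_vadd_left, bl_comm a, bl_comm b, sel_pt_inj h2, Bool.xor_self]

theorem sie_fixed {w v : V8} (h0 : w ≠ 0) (h1 : w ≠ pt) (h : sie pt w v = v) :
    bl v pt = false ∧ bl v w = false := by
  have h' := congrArg (vadd v) h
  rw [sie, vadd_cancel, vadd_self] at h'
  cases hb : bl v pt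
  · refine ⟨rfl, sel_pt_inj (b := bl v w) (c := false) ?_⟩
    simpa [hb, sel, vadd_zero, zero_vadd] using h'
  · exfalso
    rw [hb] at h'
    revert h'
    cases bl v w <;> cases qb w <;> intro h' <;>
      simp [sel, vadd_zero, zero_vadd, vadd_assoc, vadd_self] at h' <;>
      first
        | exact h0 h'
        | exact h1 (vadd_eq_zero h')

theorem wperm_comm {l m : List (V8 × V8)} (hl : WordOK l) (hm : WordOK m)
    (h : commB l m = true) : wperm l * wperm m = wperm m * wperm l :=
  O_ext (mul_mem (wperm_mem_O l) (wperm_mem_O m)) (mul_mem (wperm_mem_O m) (wperm_mem_O l))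
    fun j => by
      rw [Perm.mul_apply, Perm.mul_apply, wperm_apply hl, wperm_apply hm, wperm_apply hl,
        wperm_apply hm]
      exact eq_of_beq (List.all_eq_true.1 h j (List.mem_finRange j))

theorem wperm_conj {l m : List (V8 × V8)} (hl : WordOK l) (hm : WordOK m)
    (h : commB l m = true) : wperm l * wperm m * (wperm l)⁻¹ = wperm m := by
  rw [wperm_comm hl hm h, mul_inv_cancel_right]

namespace RepData

variable {l : List (V8 × V8)} {L : List V8} {B : List (V8 × V8)} (D : RepData l L B)

include D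

theorem sq : wperm l * wperm l = 1 :=
  Equiv.ext fun v => by rw [Perm.mul_apply, wperm_apply D.ok, wperm_apply D.ok, D.invol]; rfl

theorem inv : (wperm l)⁻¹ = wperm l := inv_eq_of_mul_eq_one_right D.sq

theorem ne_one : wperm l ≠ 1 := fun h => by
  obtain ⟨v, _, hv, -, -⟩ := D.two
  refine hv ?_
  rw [← wperm_apply D.ok, h]
  exact vadd_self v

theorem outside {a : V8} (ha : a ∉ L) : ∃ v, wap l v = v ∧ bl a v = true := by
  by_contra hne
  push Not at hne
  exact ha (D.perp a fun y hy => Bool.eq_false_iff.2 (hne _ (D.basis y hy)))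

/-- The commutator space of a conjugate. -/
theorem conj_vals {π c : Perm V8} (hc : c ∈ O) (h : c * π * c⁻¹ = wperm l) (v : V8) :
    c (vadd v (π v)) = vadd (c v) (wap l (c v)) := by
  rw [O_add hc, ← wperm_apply D.ok, ← h]
  simp [Perm.mul_apply]

end RepData

theorem reps_data : ∀ l ∈ reps, ∃ L B, RepData l L B := by
  simp only [reps, List.forall_mem_cons, List.not_mem_nil, IsEmpty.forall_iff, implies_true,
    and_true]
  exact ⟨⟨_, _, dataA⟩, ⟨_, _, dataC⟩, ⟨_, _, dataF⟩, ⟨_, _, dataF'⟩, ⟨_, _, dataE⟩⟩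

/-- The three representatives of rank four. -/
def reps4 : List (List (V8 × V8)) := [wF, wF', wE]

theorem reps_cases {l : List (V8 × V8)} (h : l ∈ reps) : l = wA ∨ l = wC ∨ l ∈ reps4 := by
  simp only [reps, List.mem_cons] at h
  simp only [reps4, List.mem_cons]
  tauto

theorem reps4_data {l : List (V8 × V8)} (h : l ∈ reps4) :
    ∃ L B, RepData l L B ∧ L.Nodup ∧ L.length = 16 ∧ ∀ v, wap l v = v → v ∈ L := by
  simp only [reps4, List.mem_cons, List.not_mem_nil, or_false] at h
  obtain ⟨⟨a1, a2⟩, ⟨b1, b2⟩, c1, c2⟩ := four_lists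
  rcases h with rfl | rfl | rfl
  · exact ⟨_, _, dataF, a1, a2, fun v => (rankFour v).1⟩
  · exact ⟨_, _, dataF', b1, b2, fun v => (rankFour v).2.1⟩
  · exact ⟨_, _, dataE, c1, c2, fun v => (rankFour v).2.2⟩

theorem wperm_wA : wperm wA = sieP pt 8 := wperm_single _

theorem wperm_wC : wperm wC = sieP pt 136 := wperm_single _

theorem wperm_wF : wperm wF = sieP pt 8 * sieP 2 4 := wperm_pair _ _

theorem wperm_wF' : wperm wF' = sieP pt 128 * sieP 2 4 := wperm_pair _ _

theorem wperm_wE : wperm wE = sieP pt 136 * sieP 2 4 := wperm_pair _ _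

theorem flipA_pow : wperm flipA ^ 4 = 1 :=
  Equiv.ext fun v => by
    simp only [pow_succ, pow_zero, one_mul, Perm.mul_apply, wperm_apply flipA_ok.1, Perm.one_apply]
    exact flipA_ok.2.2.2.2.2.2.1 v

theorem flipC_pow : wperm flipC ^ 4 = 1 :=
  Equiv.ext fun v => by
    simp only [pow_succ, pow_zero, one_mul, Perm.mul_apply, wperm_apply flipC_ok.1, Perm.one_apply,
      flipC_ok.2.2.2.2.2.2]

end CfsgLib.Small.ConTwo
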