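import Cfsg.Agent.Lib.Small.ConTwo.Model
import Cfsg.Agent.Lib.Small.ConTwo.Word

/-!
No element of order seven commutes with an involution of the orthogonal group; consequently
the relation `InQ` between distinct conjugates of `z` is symmetric.
-/

set_option autoImplicit false

namespace CfsgLib.Small.ConTwo

open Equiv

theorem seven_iter (u : V8) : ∀ m : ℕ, (wap sevenW)^[7 * m] u = u
  | 0 => rfl
  | m + 1 => by
    rw [Nat.mul_succ, Function.iterate_add_apply, show (wap sevenW)^[7] u = u from seven_ok.2.2.2 u,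
      seven_iter u m]

theorem seven_fix_zero {b : Bool} {u : V8} (hu : inK b u = true) (h : wap sevenW u = u) :
    u = 0 := by
  simp only [inK, h, ite_self, vadd_self, vadd_zero, beq_iff_eq] at hu
  exact hu

theorem seven_commute {π : Perm V8} (hπ : π ∈ O) (h2 : π * π = 1)
    (hc : π * wperm sevenW = wperm sevenW * π) (v : V8) :
    vadd v (π v) = 0 ∨ vadd v (π v) = seven_h := by
  have hcv : Function.Commute (π : V8 → V8) (wap sevenW) := fun v => by
    have h := congrArg (fun p : Perm V8 => p v) hc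
    simpa only [Perm.mul_apply, wperm_apply seven_ok.1] using h
  have hh : π seven_h = seven_h :=
    seven_h_spec.2.2 _ (by rw [O_q hπ, seven_h_spec.1]) (by rw [← hcv, seven_h_spec.2.1])
  have hK : ∀ b : Bool, ∀ u, inK b u = true → π u = u := by
    intro b u hu
    by_cases h0 : u = 0
    · rw [h0, O_zero hπ]
    have hu' : inK b (π u) = true := by
      simp only [inK, beq_iff_eq] at hu ⊢
      rw [← hcv, ← hcv, ← hcv]
      cases b <;> simp only [Bool.false_eq_true, if_false, if_true] at hu ⊢ <;>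
        rw [← O_add hπ, ← O_add hπ, hu, O_zero hπ]
    rcases seven_cyclic b u hu h0 (π u) hu' with h | ⟨k, hk⟩
    · exact absurd (π.injective (h.trans (O_zero hπ).symm)) h0
    rcases Nat.eq_zero_or_pos k.val with hk0 | hk0
    · rw [← hk, hk0]; rfl
    exfalso
    have h2k : (wap sevenW)^[2 * k.val] u = u := by
      rw [two_mul, Function.iterate_add_apply, hk, ← (hcv.iterate_right k.val) u, hk,
        ← Perm.mul_apply, h2]
      rfl
    obtain ⟨m, q, hm⟩ : ∃ m q : ℕ, m * (2 * k.val) = 7 * q + 1 := by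
      have hk7 := k.2
      interval_cases hkv : k.val
      · exact ⟨4, 1, rfl⟩
      · exact ⟨2, 1, rfl⟩
      · exact ⟨6, 5, rfl⟩
      · exact ⟨1, 1, rfl⟩
      · exact ⟨5, 7, rfl⟩
      · exact ⟨3, 5, rfl⟩
    have hall : ∀ n : ℕ, (wap sevenW)^[n * (2 * k.val)] u = u := by
      intro n
      induction n with
      | zero => simp
      | succ n ih => rw [Nat.succ_mul, Function.iterate_add_apply, h2k, ih]
    refine h0 (seven_fix_zero hu ?_)
    have h := hall m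
    rwa [hm, Nat.add_comm, Function.iterate_add_apply, seven_iter] at h
  refine seven_perp _ ?_ fun b k hk => ?_
  · have h := O_bl hπ v seven_h
    rw [hh] at h
    rw [bl_vadd_left, h, Bool.xor_self]
  · have h := O_bl hπ v k
    rw [hK b k hk] at h
    rw [bl_vadd_left, h, Bool.xor_self]

namespace Model

variable {G : Type*} [Group G] {z : G} {Q : Subgroup G} {f : G → V8}
  {ρ : Cz z →* Perm V8} (M : Model z Q f ρ)

include M

theorem no_seven {π : Perm V8} (hπ : π ∈ ρ.range) (h2 : π * π = 1) (h1 : π ≠ 1)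
    (hc : π * wperm sevenW = wperm sevenW * π) : False := by
  obtain ⟨c, hcR, l, hl, he⟩ := M.invol π hπ h2 h1
  obtain ⟨L, B, D⟩ := reps_data l hl
  obtain ⟨v, w, hv, hw, hvw⟩ := D.two
  have hO := M.range_le hcR
  have key : ∀ x, vadd x (wap l x) ≠ 0 → vadd x (wap l x) = c seven_h := by
    intro x hx
    have e := D.conj_vals hO he (c⁻¹ x)
    rw [show c (c⁻¹ x) = x by simp] at e
    rcases seven_commute (M.range_le hπ) h2 hc (c⁻¹ x) with h | h
    · rw [h, O_zero hO] at e; exact absurd e.symm hx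
    · rw [h] at e; exact e.symm
  exact hvw ((key v hv).trans (key w hw).symm)

theorem seven_conj {σ : Perm V8} (hσ : σ ∈ ρ.range) (h7 : σ ^ 7 = 1) (h1 : σ ≠ 1) :
    ∃ c ∈ ρ.range, wperm sevenW ∈ Subgroup.zpowers (c * σ * c⁻¹) := by
  haveI : Fact (Nat.Prime 7) := ⟨by norm_num⟩
  have hs7 : wperm sevenW ^ 7 = 1 := Equiv.ext fun v => by
    simp only [pow_succ, pow_zero, one_mul, Perm.mul_apply, wperm_apply seven_ok.1,
      Perm.one_apply, seven_ok.2.2.2]
  have hs1 : wperm sevenW ≠ 1 := fun h => by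
    obtain ⟨v, hv⟩ := seven_ok.2.2.1
    exact hv (by rw [← wperm_apply seven_ok.1, h]; rfl)
  have hf : (174182400 : ℕ).factorization 7 = 1 := by
    rw [show (174182400 : ℕ) = 7 ^ 1 * 24883200 by norm_num,
      Nat.factorization_mul (by norm_num) (by norm_num)]
    rw [Finsupp.add_apply, (show Nat.Prime 7 by norm_num).factorization_pow, Finsupp.single_eq_same,
      Nat.factorization_eq_zero_of_not_dvd (show ¬ 7 ∣ 24883200 by norm_num)]
  have mk : ∀ x : ρ.range, x ^ 7 = 1 → x ≠ 1 →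
      Nat.card (Subgroup.zpowers x) = 7 ^ (Nat.card ρ.range).factorization 7 := by
    intro x h h'
    rw [M.ρ_card, hf, Nat.card_zpowers, pow_one, orderOf_eq_prime h h']
  let a : ρ.range := ⟨σ, hσ⟩
  let b : ρ.range := ⟨wperm sevenW, M.word_mem _⟩
  obtain ⟨c, hc⟩ := MulAction.exists_smul_eq ρ.range
    (Sylow.ofCard (Subgroup.zpowers a)
      (mk a (Subtype.ext h7) (fun e => h1 (congrArg Subtype.val e))))
    (Sylow.ofCard (Subgroup.zpowers b)
      (mk b (Subtype.ext hs7) (fun e => hs1 (congrArg Subtype.val e))))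
  refine ⟨c, c.2, ?_⟩
  have hb : b ∈ Subgroup.zpowers b := Subgroup.mem_zpowers b
  have hc' := congrArg (fun S : Sylow 7 ρ.range => (S : Subgroup ρ.range)) hc
  simp only [Sylow.coe_subgroup_smul, Sylow.coe_ofCard] at hc'
  rw [← hc'] at hb
  obtain ⟨y, ⟨k, rfl⟩, hy⟩ := Subgroup.mem_map.1 hb
  refine ⟨k, ?_⟩
  have h := congrArg Subtype.val hy
  simp only [MulDistribMulAction.toMonoidEnd_apply] at h
  show ((c : Perm V8) * σ * (c : Perm V8)⁻¹) ^ k = wperm sevenW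
  rw [conj_zpow]
  exact h

theorem InQ_self_z {u : G} (hu : Nc z Q u) : InQ z Q u z := by
  suffices h : ∀ w : G, Nc z Q w → f w = pt → InQ z Q w z by
    obtain ⟨v, hvQ, hvf⟩ := M.f_surj pt
    have hv : Nc z Q v := M.Nc_of_f hvQ (hvf ▸ pt_facts.1) (hvf ▸ pt_facts.2.1)
    obtain ⟨c, hc, hcv⟩ := M.nc_trans hv hu
    have h1 := InQ_conj c (h v hv hvf)
    rwa [hcv, mem_Cz.1 hc, mul_inv_cancel_right] at h1
  intro u hu hfu
  obtain ⟨g, hg⟩ := M.nc_conj_z hu
  refine ⟨g, hg, ?_⟩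
  by_contra hz'
  have huz : u * z = z * u := mem_Cz.1 (M.le hu.1)
  have hgu : g * z = u * g := by rw [← hg]; group
  have hz'C : g⁻¹ * z * g ∈ Cz z := mem_Cz.2 (by
    calc g⁻¹ * z * g * z = g⁻¹ * z * (g * z) := by group
      _ = g⁻¹ * (u * z) * g := by rw [hgu, huz]; group
      _ = g⁻¹ * u * g * (g⁻¹ * z * g) := by group
      _ = z * (g⁻¹ * z * g) := by rw [← hg]; group)
  obtain ⟨τ', hτ'⟩ : ∃ π, Img ρ (g⁻¹ * z * g) π := ⟨_, Img.mk' hz'C⟩
  have hτ'2 : τ' * τ' = 1 := by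
    have h := hτ'.mul hτ'
    rw [show g⁻¹ * z * g * (g⁻¹ * z * g) = g⁻¹ * (z * z) * g by group, M.zz, mul_one,
      inv_mul_cancel] at h
    exact h.unique Img.one
  have hτ'1 : τ' ≠ 1 := fun e => hz' (M.img_one_mem (e ▸ hτ'))
  obtain ⟨hok, hpt, -, -⟩ := seven_ok
  obtain ⟨c, hc, hcu⟩ :=
    M.lift_fix hu.1 (hfu ▸ pt_facts.2.1) hok (by rw [hfu]; exact hpt)
  have hs7 : wperm sevenW ^ 7 = 1 := Equiv.ext fun v => by
    simp only [pow_succ, pow_zero, one_mul, Perm.mul_apply, wperm_apply hok, Perm.one_apply,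
      seven_ok.2.2.2]
  have hc7Q : c ^ 7 ∈ Q := M.img_one_mem (hs7 ▸ hc.pow 7)
  have hc28 : c ^ 28 = 1 := by
    have h1 : (c ^ 7) ^ 4 = 1 := by
      rw [show (4 : ℕ) = 2 * 2 by norm_num, pow_mul, pow_two, pow_two, M.sq_zp hc7Q, ← M.zp_xor,
        Bool.xor_self, zp_false]
    rwa [← pow_mul] at h1
  obtain ⟨e, he7, he, heu⟩ : ∃ e : G, e ^ 7 = 1 ∧ e ∉ Q ∧ e * u = u * e ∧ e ∈ Cz z := by
    refine ⟨c ^ 4, by rw [← pow_mul, hc28], M.not_mem_of_img (hc.pow 4) fun h => ?_,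
      ⟨((show Commute c u from hcu).pow_left 4).eq, (hc.pow 4).mem⟩⟩
    obtain ⟨v, hv⟩ := seven_ok.2.2.1
    have h' : wperm sevenW = 1 :=
      calc wperm sevenW = wperm sevenW ^ 7 * wperm sevenW := by rw [hs7, one_mul]
        _ = (wperm sevenW ^ 4) ^ 2 := by rw [← pow_succ, ← pow_mul]
        _ = 1 := by rw [h, one_pow]
    exact hv (by rw [← wperm_apply hok, h']; rfl)
  obtain ⟨heu, heC⟩ := heu
  have heC' : g⁻¹ * e * g ∈ Cz z := mem_Cz.2 (by
    calc g⁻¹ * e * g * z = g⁻¹ * e * (g * z) := by group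
      _ = g⁻¹ * (e * u) * g := by rw [hgu]; group
      _ = g⁻¹ * u * g * (g⁻¹ * e * g) := by rw [heu]; group
      _ = z * (g⁻¹ * e * g) := by rw [← hg]; group)
  obtain ⟨σ, hσ⟩ : ∃ π, Img ρ (g⁻¹ * e * g) π := ⟨_, Img.mk' heC'⟩
  have he7' : (g⁻¹ * e * g) ^ 7 = 1 := by
    rw [show g⁻¹ * e * g = g⁻¹ * e * (g⁻¹)⁻¹ by rw [inv_inv], conj_pow, he7]
    group
  have hσ7 : σ ^ 7 = 1 := (hσ.pow 7).unique (he7'.symm ▸ Img.one)
  have hσ1 : σ ≠ 1 := fun h => by
    have hQ := M.img_one_mem (h ▸ hσ)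
    have h4 : (g⁻¹ * e * g) ^ 4 = 1 := by
      rw [show (4 : ℕ) = 2 * 2 by norm_num, pow_mul, pow_two, pow_two, M.sq_zp hQ, ← M.zp_xor,
        Bool.xor_self, zp_false]
    have he1 : g⁻¹ * e * g = 1 :=
      calc g⁻¹ * e * g = (g⁻¹ * e * g) ^ 7 * (g⁻¹ * e * g) := by rw [he7', one_mul]
        _ = ((g⁻¹ * e * g) ^ 4) ^ 2 := by rw [← pow_succ, ← pow_mul]
        _ = 1 := by rw [h4, one_pow]
    refine he ?_
    have : e = 1 := by
      calc e = g * (g⁻¹ * e * g) * g⁻¹ := by group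
        _ = 1 := by rw [he1]; group
    rw [this]
    exact one_mem Q
  have hcom : σ * τ' = τ' * σ := by
    refine (hσ.mul hτ').unique ?_
    have : g⁻¹ * e * g * (g⁻¹ * z * g) = g⁻¹ * z * g * (g⁻¹ * e * g) := by
      calc g⁻¹ * e * g * (g⁻¹ * z * g) = g⁻¹ * (e * z) * g := by group
        _ = _ := by rw [mem_Cz.1 heC]; group
    rw [this]
    exact hτ'.mul hσ
  obtain ⟨w, hwR, k, hk⟩ := M.seven_conj hσ.mem_range hσ7 hσ1
  refine M.no_seven (mul_mem (mul_mem hwR hτ'.mem_range) (inv_mem hwR)) ?_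
    (fun h => hτ'1 (conj_eq_one_iff.1 h)) ?_
  · calc w * τ' * w⁻¹ * (w * τ' * w⁻¹) = w * (τ' * τ') * w⁻¹ := by group
      _ = 1 := by rw [hτ'2]; group
  · rw [← hk]
    refine (Commute.zpow_right ?_ k).eq
    show w * τ' * w⁻¹ * (w * σ * w⁻¹) = w * σ * w⁻¹ * (w * τ' * w⁻¹)
    calc w * τ' * w⁻¹ * (w * σ * w⁻¹) = w * (τ' * σ) * w⁻¹ := by group
      _ = _ := by rw [← hcom]; group

/-- Symmetry of the relation for distinct conjugates of `z`. -/
theorem InQ_symm {a b : G} (ha : ∃ k : G, k * z * k⁻¹ = a) (hb : b * b = 1) (hb1 : b ≠ 1)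
    (hab : b ≠ a) (h : InQ z Q a b) : InQ z Q b a := by
  obtain ⟨k, hk⟩ := ha
  have hkb := M.InQ_any h hk
  have hnc : Nc z Q (k⁻¹ * b * k) := by
    refine ⟨hkb, ?_, fun e => hb1 ?_, fun e => hab ?_⟩
    · calc k⁻¹ * b * k * (k⁻¹ * b * k) = k⁻¹ * (b * b) * k := by group
        _ = 1 := by rw [hb]; group
    · calc b = k * (k⁻¹ * b * k) * k⁻¹ := by group
        _ = 1 := by rw [e]; group
    · calc b = k * (k⁻¹ * b * k) * k⁻¹ := by group
        _ = a := by rw [e, hk]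
  have h1 := InQ_conj k (M.InQ_self_z hnc)
  rwa [hk, show k * (k⁻¹ * b * k) * k⁻¹ = b by group] at h1

/-- A conjugating element exchanging `z` and `u`. -/
theorem exists_swap {u : G} (hu : Nc z Q u) :
    ∃ g : G, g * z * g⁻¹ = u ∧ g⁻¹ * z * g = u := by
  obtain ⟨g, hg⟩ := M.nc_conj_z hu
  have hQ := M.InQ_any (M.InQ_self_z hu) hg
  have hnc : Nc z Q (g⁻¹ * z * g) := by
    refine ⟨hQ, ?_, fun e => M.z_ne ?_, fun e => hu.2.2.2 ?_⟩
    · calc g⁻¹ * z * g * (g⁻¹ * z * g) = g⁻¹ * (z * z) * g := by group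
        _ = 1 := by rw [M.zz]; group
    · calc z = g * (g⁻¹ * z * g) * g⁻¹ := by group
        _ = 1 := by rw [e]; group
    · rw [← hg]
      calc g * z * g⁻¹ = g * (g⁻¹ * z * g) * g⁻¹ := by rw [e]
        _ = z := by group
  obtain ⟨c, hc, hcu⟩ := M.nc_trans hu hnc
  refine ⟨g * c, ?_, ?_⟩
  · rw [← hg]
    calc g * c * z * (g * c)⁻¹ = g * (c * z) * c⁻¹ * g⁻¹ := by group
      _ = g * (z * c) * c⁻¹ * g⁻¹ := by rw [mem_Cz.1 hc]
      _ = g * z * g⁻¹ := by group
  · calc (g * c)⁻¹ * z * (g * c) = c⁻¹ * (g⁻¹ * z * g) * c := by group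
      _ = c⁻¹ * (c * u * c⁻¹) * c := by rw [hcu]
      _ = u := by group

end Model

end CfsgLib.Small.ConTwo
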