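import Cfsg.Agent.Lib.Small.ConTwo.Core
import Cfsg.Agent.Lib.Small.SuzTwo.Orth

/-!
A fixed plane of minus type, its perpendicular space in coordinates, and words moving any plane
of minus type onto it.
-/

set_option autoImplicit false
set_option maxRecDepth 100000
set_option maxHeartbeats 0

namespace CfsgLib.Small.ConTwo.Three

/-- Words moving a nonsingular vector to `136`. -/
def firstW : List (V8 × List (V8 × V8)) := [
    (17, [(9, 144)]), (19, [(9, 146)]), (21, [(9, 148)]), (23, [(9, 150)]), (25, [(128, 17)]),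
    (27, [(128, 19)]), (29, [(128, 21)]), (31, [(128, 23)]), (34, [(10, 160)]),
    (35, [(10, 161)]), (38, [(10, 164)]), (39, [(10, 165)]), (42, [(128, 34)]),
    (43, [(128, 35)]), (46, [(128, 38)]), (47, [(128, 39)]), (49, [(9, 176)]), (50, [(10, 176)]),
    (53, [(9, 180)]), (54, [(10, 180)]), (57, [(128, 49)]), (58, [(128, 50)]), (61, [(128, 53)]),
    (62, [(128, 54)]), (68, [(12, 192)]), (69, [(12, 193)]), (70, [(12, 194)]),
    (71, [(12, 195)]), (76, [(128, 68)]), (77, [(128, 69)]), (78, [(128, 70)]),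
    (79, [(128, 71)]), (81, [(9, 208)]), (83, [(9, 210)]), (84, [(12, 208)]), (86, [(12, 210)]),
    (89, [(128, 81)]), (91, [(128, 83)]), (92, [(128, 84)]), (94, [(128, 86)]),
    (98, [(10, 224)]), (99, [(10, 225)]), (100, [(12, 224)]), (101, [(12, 225)]),
    (106, [(128, 98)]), (107, [(128, 99)]), (108, [(128, 100)]), (109, [(128, 101)]),
    (113, [(9, 240)]), (114, [(10, 240)]), (116, [(12, 240)]), (119, [(9, 246)]),
    (121, [(128, 113)]), (122, [(128, 114)]), (124, [(128, 116)]), (127, [(128, 119)]),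
    (136, []), (137, [(1, 8)]), (138, [(2, 8)]), (139, [(3, 8)]), (140, [(4, 8)]),
    (141, [(5, 8)]), (142, [(6, 8)]), (143, [(7, 8)]), (145, [(8, 17)]), (147, [(8, 19)]),
    (149, [(8, 21)]), (151, [(8, 23)]), (152, [(8, 16)]), (154, [(8, 18)]), (156, [(8, 20)]),
    (158, [(8, 22)]), (162, [(8, 34)]), (163, [(8, 35)]), (166, [(8, 38)]), (167, [(8, 39)]),
    (168, [(8, 32)]), (169, [(8, 33)]), (172, [(8, 36)]), (173, [(8, 37)]), (177, [(8, 49)]),
    (178, [(8, 50)]), (181, [(8, 53)]), (182, [(8, 54)]), (184, [(8, 48)]), (187, [(8, 51)]),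
    (188, [(8, 52)]), (191, [(8, 55)]), (196, [(8, 68)]), (197, [(8, 69)]), (198, [(8, 70)]),
    (199, [(8, 71)]), (200, [(8, 64)]), (201, [(8, 65)]), (202, [(8, 66)]), (203, [(8, 67)]),
    (209, [(8, 81)]), (211, [(8, 83)]), (212, [(8, 84)]), (214, [(8, 86)]), (216, [(8, 80)]),
    (218, [(8, 82)]), (221, [(8, 85)]), (223, [(8, 87)]), (226, [(8, 98)]), (227, [(8, 99)]),
    (228, [(8, 100)]), (229, [(8, 101)]), (232, [(8, 96)]), (233, [(8, 97)]), (238, [(8, 102)]),
    (239, [(8, 103)]), (241, [(8, 113)]), (242, [(8, 114)]), (244, [(8, 116)]),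
    (247, [(8, 119)]), (248, [(8, 112)]), (251, [(8, 115)]), (253, [(8, 117)]),
    (254, [(8, 118)])]

/-- Words fixing `136` moving a nonsingular vector not perpendicular to it to `76`. -/
def secondW : List (V8 × List (V8 × V8)) := [
    (25, [(5, 80)]), (27, [(5, 82)]), (29, [(64, 17)]), (31, [(64, 19)]), (42, [(6, 96)]),
    (43, [(6, 97)]), (46, [(64, 34)]), (47, [(64, 35)]), (57, [(5, 112)]), (58, [(6, 112)]),
    (61, [(64, 49)]), (62, [(64, 50)]), (76, []), (77, [(1, 4)]), (78, [(2, 4)]), (79, [(3, 4)]),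
    (89, [(4, 17)]), (91, [(4, 19)]), (92, [(4, 16)]), (94, [(4, 18)]), (106, [(4, 34)]),
    (107, [(4, 35)]), (108, [(4, 32)]), (109, [(4, 33)]), (121, [(4, 49)]), (122, [(4, 50)]),
    (124, [(4, 48)]), (127, [(4, 51)]), (145, [(5, 216)]), (147, [(5, 218)]), (149, [(64, 153)]),
    (151, [(64, 155)]), (162, [(6, 232)]), (163, [(6, 233)]), (166, [(64, 170)]),
    (167, [(64, 171)]), (177, [(5, 248)]), (178, [(6, 248)]), (181, [(64, 185)]),
    (182, [(64, 186)]), (196, [(4, 136)]), (197, [(4, 137)]), (198, [(4, 138)]),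
    (199, [(4, 139)]), (209, [(4, 153)]), (211, [(4, 155)]), (212, [(4, 152)]),
    (214, [(4, 154)]), (226, [(4, 170)]), (227, [(4, 171)]), (228, [(4, 168)]),
    (229, [(4, 169)]), (241, [(4, 185)]), (242, [(4, 186)]), (244, [(4, 184)]),
    (247, [(153, 34)])]

theorem firstW_ok : ∀ a : V8, qb a = true →
    ∃ l ∈ firstW.map Prod.snd, WordOK l ∧ wap l a = 136 := by
  have h : (List.finRange 256).all (fun a : V8 => !qb a ||
      firstW.any fun x => x.1 == a && (decide (WordOK x.2) && wap x.2 a == 136)) = true := by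
    decide +kernel
  intro a ha
  have h1 := List.all_eq_true.1 h a (List.mem_finRange a)
  simp only [ha, Bool.not_true, Bool.false_or, List.any_eq_true, Bool.and_eq_true,
    decide_eq_true_eq, beq_iff_eq] at h1
  obtain ⟨x, hx, -, h2, h3⟩ := h1
  exact ⟨x.2, List.mem_map_of_mem hx, h2, h3⟩

theorem secondW_ok : ∀ b : V8, qb b = true → bl b 136 = true →
    ∃ l ∈ secondW.map Prod.snd, WordOK l ∧ wap l 136 = 136 ∧ wap l b = 76 := by
  have h : (List.finRange 256).all (fun b : V8 => !qb b || !bl b 136 ||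
      secondW.any fun x => x.1 == b &&
        (decide (WordOK x.2) && (wap x.2 136 == 136 && wap x.2 b == 76))) = true := by
    decide +kernel
  intro b hb hb'
  have h1 := List.all_eq_true.1 h b (List.mem_finRange b)
  simp only [hb, hb', Bool.not_true, Bool.false_or, List.any_eq_true, Bool.and_eq_true,
    decide_eq_true_eq, beq_iff_eq] at h1
  obtain ⟨x, hx, -, h2, h3, h4⟩ := h1
  exact ⟨x.2, List.mem_map_of_mem hx, h2, h3, h4⟩

/-- A bit string of six given bits. -/
def mk6 (a b c d e g : Bool) : Fin 64 :=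
  SuzTwo.vadd
    (SuzTwo.vadd (SuzTwo.vadd (SuzTwo.sel a 1) (SuzTwo.sel b 2))
      (SuzTwo.vadd (SuzTwo.sel c 4) (SuzTwo.sel d 8)))
    (SuzTwo.vadd (SuzTwo.sel e 16) (SuzTwo.sel g 32))

/-- The coordinates of the perpendicular space of the plane. -/
def em (x : Fin 64) : V8 :=
  vadd (vadd (vadd (sel (x.val.testBit 0) 68) (sel (x.val.testBit 1) 1))
      (vadd (sel (x.val.testBit 2) 2) (sel (x.val.testBit 3) 140)))
    (vadd (sel (x.val.testBit 4) 16) (sel (x.val.testBit 5) 32))

/-- The projection to the perpendicular space. -/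
def prj (v : V8) : Fin 64 :=
  mk6 (bl v 140) (bl v 16) (bl v 32) (bl v 68) (bl v 1) (bl v 2)

/-- The projection to the plane. -/
def pp (v : V8) : V8 := vadd (sel (bl v 76) 136) (sel (bl v 136) 76)

theorem mk6_vadd : ∀ a b c d e g a' b' c' d' e' g' : Bool,
    mk6 (a ^^ a') (b ^^ b') (c ^^ c') (d ^^ d') (e ^^ e') (g ^^ g') =
      SuzTwo.vadd (mk6 a b c d e g) (mk6 a' b' c' d' e' g') := by
  decide +kernel

theorem em_facts : ∀ x : Fin 64, qb (em x) = SuzTwo.qb x ∧ prj (em x) = x ∧ pp (em x) = 0 ∧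
    bl (em x) 136 = false ∧ bl (em x) 76 = false := by
  decide +kernel

theorem em_vadd : ∀ x y : Fin 64, em (SuzTwo.vadd x y) = vadd (em x) (em y) := by
  decide +kernel

theorem vec_facts : ∀ v : V8, vadd (em (prj v)) (pp v) = v ∧ prj (pp v) = 0 ∧ pp (pp v) = pp v := by
  decide +kernel

theorem em_zero : em 0 = 0 := by decide +kernel

theorem plane_facts : qb 136 = true ∧ qb 76 = true ∧ bl 136 76 = true ∧ qb 68 = true ∧
    qb 140 = true ∧ bl 68 140 = true ∧ bl 136 68 = false ∧ bl 136 140 = false ∧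
    bl 76 68 = false ∧ bl 76 140 = false ∧ bl 1 136 = false ∧ bl 1 76 = false := by
  decide +kernel

theorem perp_P : ∀ v : V8, (∀ x, bl v (em x) = false) →
    v = 0 ∨ v = 136 ∨ v = 76 ∨ v = vadd 136 76 := by
  decide +kernel

theorem prj_vadd (v w : V8) : prj (vadd v w) = SuzTwo.vadd (prj v) (prj w) := by
  simp only [prj, bl_vadd_left, mk6_vadd]

theorem pp_vadd (v w : V8) : pp (vadd v w) = vadd (pp v) (pp w) := by
  simp only [pp, bl_vadd_left, sel_xor]
  ac_rfl

theorem perp_iff (v : V8) : (bl v 136 = false ∧ bl v 76 = false) ↔ em (prj v) = v := by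
  refine ⟨fun h => ?_, fun h => by rw [← h]; exact ⟨(em_facts _).2.2.2.1, (em_facts _).2.2.2.2⟩⟩
  have h1 := (vec_facts v).1
  rwa [pp, h.1, h.2, show vadd (sel false (136 : V8)) (sel false 76) = 0 from vadd_zero 0,
    vadd_zero] at h1

end CfsgLib.Small.ConTwo.Three
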