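import Cfsg.Agent.Lib.Small.ConTwo.ThreeSuz
import Cfsg.Agent.Lib.Small.ConTwo.Build

/-!
The centraliser of an element of order three with a small commutator in a group of Conway type.
-/

set_option autoImplicit false
set_option maxRecDepth 100000
set_option linter.style.haveILetI false
set_option linter.unusedVariables false

open Cfsg

namespace CfsgLib.Small.ConTwo.Three

universe u

open scoped commutatorElement

theorem main_eq {G : Type u} [Group G] [Finite G] {z x : G} {Q : Subgroup G} {f : G → V8}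
    {ρ : Cz z →* Equiv.Perm V8} (hRec : Recog.{u}) (hCent : Cent3.{u}) (A : Frame z Q f ρ x)
    (P : Subgroup G) (hP : P = Subgroup.zpowers x)
    [(P.subgroupOf (Subgroup.centralizer (P : Set G))).Normal] :
    Cfsg.IsQuasisimple (Subgroup.centralizer (P : Set G)) ∧
      Cfsg.Spor.IsoSuz (Subgroup.centralizer (P : Set G) ⧸
        P.subgroupOf (Subgroup.centralizer (P : Set G))) := by
  have hH : Subgroup.centralizer (P : Set G) = Subgroup.centralizer {x} := by
    rw [hP]; exact centralizer_zpowers x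
  generalize hK : Subgroup.centralizer (P : Set G) = H at *
  subst hH
  exact main_of_frame hRec hCent A _ fun h => by rw [Subgroup.mem_subgroupOf, hP]

/-- A subgroup is normal in its centraliser as it is central there. -/
theorem normal_map_centralizer {G : Type*} [Group G] {C : Subgroup G} (Y : Subgroup C) :
    ((Y.map C.subtype).subgroupOf
      (Subgroup.centralizer ((Y.map C.subtype : Subgroup G) : Set G))).Normal :=
  ⟨fun n hn g => by
    have := g.2 (n : G) hn
    rwa [show g * n * g⁻¹ = n from Subtype.ext (by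
      simp only [Subgroup.coe_mul, Subgroup.coe_inv]; rw [← this, mul_inv_cancel_right])]⟩

/-- The statement, given the two results used. -/
theorem main {G : Type u} (hRec : Recog.{u}) (hCent : Cent3.{u}) [Group G] [Finite G] (z : G) (hz : orderOf z = 2) (Q : Subgroup (Subgroup.centralizer ({z} : Set G))) [Q.Normal] (hF : Cfsg.generalizedFittingSubgroup (Subgroup.centralizer ({z} : Set G)) = Q) (hQ : Cfsg.IsExtraspecial 2 Q) (hcard : Nat.card Q = 2 ^ 9) (e : (Subgroup.centralizer ({z} : Set G)) ⧸ Q ≃* Cfsg.Omega (ZMod 2) (Cfsg.quadFormPlus 4 (ZMod 2))) (hnwc : ∃ g : G, (∃ hq : g * z * g⁻¹ ∈ Subgroup.centralizer ({z} : Set G), (⟨g * z * g⁻¹, hq⟩ : Subgroup.centralizer ({z} : Set G)) ∈ Q) ∧ g * z * g⁻¹ ≠ z) (X : Subgroup (Subgroup.centralizer ({z} : Set G))) (hX : Nat.card X = 3) (hQX : Nat.card ↥⁅Q, X⁆ = 8) (hQXna : ¬ IsMulCommutative ↥⁅Q, X⁆) (Y₉ : Subgroup (Subgroup.centralizer ({z} : Set G))) (hXY : X ≤ Y₉) (hY₉ : Nat.card Y₉ = 9) (hY₉e : ∀ y ∈ Y₉, y ^ 3 =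 1) (hCQ₉ : Cfsg.IsExtraspecial 2 ↥(Q ⊓ Subgroup.centralizer (Y₉ : Set (Subgroup.centralizer ({z} : Set G))))) (hCQ₉c : Nat.card ↥(Q ⊓ Subgroup.centralizer (Y₉ : Set (Subgroup.centralizer ({z} : Set G)))) = 32) (hCQ₉p : ∃ A : Subgroup (Subgroup.centralizer ({z} : Set G)), A ≤ Q ⊓ Subgroup.centralizer (Y₉ : Set (Subgroup.centralizer ({z} : Set G))) ∧ Cfsg.IsElementaryAbelian 2 A ∧ Nat.card A = 8) [((X.map (Subgroup.subtype (Subgroup.centralizer ({z} : Set G)))).subgroupOf (Subgroup.centralizer ((X.map (Subgroup.subtype (Subgroup.centralizer ({z} : Set G)))) : Set G))).Normal] : Cfsg.IsQuasisimple ↥(Subgroup.centralizer ((X.map (Subgroup.subtype (Subgroup.centralizer ({z} : Set G)))) : Set G)) ∧ Cfsg.Spor.IsoSuz (↥(Subgroup.centralizer ((X.map (Subgroup.subtype (Subgroup.centralizer ({z} : Set G)))) : Set G)) ⧸ (X.map (Subgroup.subtype (Subgroup.centralizer ({z} : Set G)))).subgroupOf (Subgroup.centralizer ((X.map (Subgroup.subtype (Subgroup.centralizer ({z} : Set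 G)))) : Set G))) := by
  classical
  obtain ⟨f, ρ, M⟩ := exists_model hF hQ hcard e hz hnwc
  haveI : Fact (Nat.Prime 3) := ⟨Nat.prime_three⟩
  obtain ⟨x0, hx0⟩ := exists_prime_orderOf_dvd_card' (G := X) 3 (hX ▸ dvd_rfl)
  have hXz : Subgroup.zpowers (x0 : Cz z) = X := by
    refine Subgroup.eq_of_le_of_card_ge (Subgroup.zpowers_le.2 x0.2) ?_
    rw [hX, Nat.card_zpowers, Subgroup.orderOf_coe, hx0]
  have ho : orderOf ((x0 : Cz z) : G) = 3 := by
    rw [Subgroup.orderOf_coe, Subgroup.orderOf_coe, hx0]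
  have hXmap : X.map (Cz z).subtype = Subgroup.zpowers ((x0 : Cz z) : G) :=
    (congrArg (Subgroup.map _) hXz.symm).trans (MonoidHom.map_zpowers _ _)
  obtain ⟨f', ρ', A⟩ := exists_frame (x := ((x0 : Cz z) : G)) M
    (Subgroup.mem_centralizer_singleton_iff.1 x0.1.2)
    (by rw [← ho, pow_orderOf_eq_one]) (fun h => by rw [h, orderOf_one] at ho; omega)
    ((⁅Q, X⁆).map (Cz z).subtype)
    (by rw [Subgroup.card_map_of_injective (Cz z).subtype_injective, hQX]) (fun q hq => by
      obtain ⟨q, hq', rfl⟩ := hq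
      refine ⟨⟨⁅(x0 : Cz z), q⁆, Subgroup.commutator_comm X Q ▸
        Subgroup.commutator_mem_commutator x0.2 hq', rfl⟩, ?_⟩
      exact mul_mem (M.normal _ x0.1.2 _ ⟨q, hq', rfl⟩) (inv_mem ⟨q, hq', rfl⟩))
  exact main_eq hRec hCent A _ hXmap

end CfsgLib.Small.ConTwo.Three
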