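import Cfsg.Agent.Lib.Small.ConTwo.FiveBasic
import Cfsg.Agent.Lib.Small.ConTwo.ThreeData
import Cfsg.Agent.Lib.Small.ConTwo.SixMinus

/-!
Elements of order three with a small commutator space are the rotations of planes of minus type;
the centraliser of the fixed one acts on the perpendicular space.
-/

set_option autoImplicit false
set_option maxRecDepth 100000

namespace CfsgLib.Small.ConTwo.Three

open Equiv

/-- The rotation of the plane spanned by `a` and `b`. -/
def rot (a b : V8) : Perm V8 := trP a * trP b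

theorem vadd_left_cancel {a b c : V8} (h : vadd a b = vadd a c) : b = c := by
  rw [← vadd_cancel a b, h, vadd_cancel]

theorem trP_inv (a : V8) : (trP a)⁻¹ = trP a :=
  inv_eq_of_mul_eq_one_right (Equiv.ext fun v => tr_tr a v)

theorem trP_conj {σ : Perm V8} (hσ : σ ∈ O) (a : V8) : σ * trP a * σ⁻¹ = trP (σ a) := by
  refine Equiv.ext fun v => ?_
  obtain ⟨u, rfl⟩ := σ.surjective v
  rw [Perm.mul_apply, Perm.mul_apply, show σ⁻¹ (σ u) = u from σ.symm_apply_apply u]
  show σ (tr a u) = tr (σ a) (σ u)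
  simp only [tr, O_add hσ, O_sel hσ, O_bl hσ]

theorem rot_conj {σ : Perm V8} (hσ : σ ∈ O) (a b : V8) : σ * rot a b * σ⁻¹ = rot (σ a) (σ b) := by
  rw [rot, rot, ← trP_conj hσ a, ← trP_conj hσ b]
  group

/-- An element of order three with at most eight commutators rotates a plane. -/
theorem exists_plane {π : Perm V8} (hO : π ∈ O) (h3 : π ^ 3 = 1) (h1 : π ≠ 1)
    (hcard : (Finset.univ.image fun v => vadd v (π v)).card ≤ 8) :
    ∃ a b, qb a = true ∧ qb b = true ∧ bl a b = true ∧ π = rot a b := by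
  classical
  set I := Finset.univ.image fun v => vadd v (π v) with hI
  have hp3 : ∀ v, π (π (π v)) = v := fun v => by
    have := congrArg (fun σ : Perm V8 => σ v) h3
    simpa [pow_succ] using this
  have hmem : ∀ v, vadd v (π v) ∈ I := fun v => Finset.mem_image_of_mem _ (Finset.mem_univ v)
  have hadd : ∀ l ∈ I, ∀ m ∈ I, vadd l m ∈ I := by
    intro l hl m hm
    obtain ⟨v, -, rfl⟩ := Finset.mem_image.1 hl
    obtain ⟨w, -, rfl⟩ := Finset.mem_image.1 hm
    rw [vadd_four, ← O_add hO]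
    exact hmem _
  have hpi : ∀ l ∈ I, π l ∈ I := by
    intro l hl
    obtain ⟨v, -, rfl⟩ := Finset.mem_image.1 hl
    rw [O_add hO]
    exact hmem _
  have hfree : ∀ l ∈ I, π l = l → l = 0 := by
    intro l hl he
    obtain ⟨v, -, rfl⟩ := Finset.mem_image.1 hl
    rw [O_add hO] at he
    have h2 : π (π v) = v :=
      vadd_left_cancel (a := π v) (by rw [vadd_comm (π v) v]; exact he)
    have h4 : π v = v := by
      have := hp3 v
      rwa [h2] at this
    rw [h4, vadd_self]
  obtain ⟨a, ha, ha0⟩ : ∃ a ∈ I, a ≠ 0 := by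
    by_contra hne
    push Not at hne
    exact h1 (Equiv.ext fun v => (vadd_eq_zero (hne _ (hmem v))).symm)
  set b := π a with hb
  have hbI : b ∈ I := hpi a ha
  have hab : a ≠ b := fun e => ha0 (hfree a ha e.symm)
  have hb0 : b ≠ 0 := fun e => ha0 (π.injective (e.trans (O_zero hO).symm))
  have hπb : π b = vadd a b := by
    have h := hfree (vadd (vadd a b) (π b)) (hadd _ (hadd a ha b hbI) _ (hpi b hbI)) (by
      rw [O_add hO, O_add hO, hb, hp3]
      ac_rfl)
    exact (vadd_eq_zero h).symm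
  let g : Bool × Bool → V8 := fun e => vadd (sel e.1 a) (sel e.2 b)
  have gadd : ∀ e e', vadd (g e) (g e') = g (e.1 ^^ e'.1, e.2 ^^ e'.2) := fun e e' => by
    simp only [g, sel_xor]
    exact vadd_four _ _ _ _
  have gpi : ∀ e, π (g e) = g (e.2, e.1 ^^ e.2) := by
    rintro ⟨s, t⟩
    simp only [g, O_add hO, O_sel hO, hπb, ← hb]
    cases s <;> cases t <;>
      simp [sel, vadd_zero, zero_vadd, vadd_comm b, vadd_assoc, vadd_self]
  have g0 : g (false, false) = 0 := vadd_zero 0
  have gI : ∀ e, g e ∈ I := by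
    have h0 : (0 : V8) ∈ I := by rw [← vadd_self a]; exact hadd a ha a ha
    rintro ⟨s, t⟩
    cases s <;> cases t <;> simp only [g, sel, if_true, Bool.false_eq_true, if_false, zero_vadd,
      vadd_zero]
    · exact h0
    · exact hbI
    · exact ha
    · exact hadd a ha b hbI
  have ginj : Function.Injective g := by
    intro e e' h
    have h0 : g (e.1 ^^ e'.1, e.2 ^^ e'.2) = 0 := by rw [← gadd, h, vadd_self]
    obtain ⟨s, t⟩ := e
    obtain ⟨s', t'⟩ := e'
    revert h0
    cases s <;> cases t <;> cases s' <;> cases t' <;> intro h0 <;>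
      simp [g, sel, vadd_zero, zero_vadd] at h0 <;>
      first
        | rfl
        | exact absurd h0 ha0
        | exact absurd h0 hb0
        | exact absurd (vadd_eq_zero h0) hab
  -- nothing outside the span
  have hspan : ∀ c ∈ I, ∃ e, g e = c := by
    intro c hc
    by_contra hne
    push Not at hne
    let S : Finset V8 := Finset.univ.image g
    have hcS : ∀ e, vadd c (π c) ≠ g e := by
      rintro ⟨p, q⟩ he
      have h0 := hfree (vadd c (g (q, p ^^ q))) (hadd c hc _ (gI _)) (vadd_eq_zero (by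
        rw [O_add hO, vadd_four, vadd_comm (π c), he, gpi, gadd, gadd, ← g0]
        cases p <;> cases q <;> rfl))
      exact hne _ (vadd_eq_zero h0).symm
    let T := S.image (vadd c)
    have hTS : Disjoint S T := by
      rw [Finset.disjoint_left]
      intro s hs hs'
      obtain ⟨t, ht, rfl⟩ := Finset.mem_image.1 hs'
      obtain ⟨e, -, rfl⟩ := Finset.mem_image.1 ht
      obtain ⟨e', -, he'⟩ := Finset.mem_image.1 hs
      refine hne (e'.1 ^^ e.1, e'.2 ^^ e.2) ?_
      rw [← gadd, he', vadd_assoc, vadd_self, vadd_zero]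
    have hd : π c ∉ S ∪ T := by
      rw [Finset.mem_union, not_or]
      refine ⟨fun h => ?_, fun h => ?_⟩
      · obtain ⟨e, -, he⟩ := Finset.mem_image.1 h
        have h1 := congrArg (fun v => π (π v)) he
        simp only [gpi, hp3] at h1
        exact hne _ h1
      · obtain ⟨t, ht, he⟩ := Finset.mem_image.1 h
        obtain ⟨e, -, rfl⟩ := Finset.mem_image.1 ht
        exact hcS e (by rw [← he, vadd_cancel])
    have hsub : insert (π c) (S ∪ T) ⊆ I := by
      intro s hs
      rcases Finset.mem_insert.1 hs with rfl | hs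
      · exact hpi c hc
      rcases Finset.mem_union.1 hs with hs | hs
      · obtain ⟨e, -, rfl⟩ := Finset.mem_image.1 hs
        exact gI e
      · obtain ⟨t, ht, rfl⟩ := Finset.mem_image.1 hs
        obtain ⟨e, -, rfl⟩ := Finset.mem_image.1 ht
        exact hadd c hc _ (gI e)
    have h9 := Finset.card_le_card hsub
    rw [Finset.card_insert_of_notMem hd, Finset.card_union_of_disjoint hTS,
      Finset.card_image_of_injective S (fun s t h => vadd_left_cancel h),
      Finset.card_image_of_injective _ ginj] at h9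
    simp at h9
    omega
  have hl : ∀ v, ∃ s t : Bool, π v = vadd v (vadd (sel s a) (sel t b)) := by
    intro v
    obtain ⟨e, he⟩ := hspan _ (hmem v)
    refine ⟨e.1, e.2, ?_⟩
    show π v = vadd v (g e)
    rw [he, vadd_cancel]
  have hbl : bl a b = true := by
    refine Bool.not_eq_false _ |>.mp fun hab0 => hab (vadd_eq_zero (bl_nondeg _ fun j => ?_))
    obtain ⟨s, t, he⟩ := hl (ev j)
    have h := O_bl hO (ev j) a
    rw [← hb, he] at h
    simp only [bl_vadd_left, bl_sel_left, hab0, bl_self, Bool.and_false, Bool.xor_false] at h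
    rw [bl_comm, bl_vadd_right, h, Bool.xor_self]
  have hqb : qb b = qb a := by rw [hb, O_q hO]
  have hqa : qb a = true := by
    have h := O_q hO b
    rw [hπb, qb_vadd, hqb, hbl, Bool.xor_self, Bool.false_xor] at h
    exact h.symm
  refine ⟨a, b, hqa, hqb.trans hqa, hbl, Equiv.ext fun v => ?_⟩
  obtain ⟨s, t, he⟩ := hl v
  have k1 := O_bl hO v a
  have k2 := O_bl hO v b
  rw [← hb, he] at k1
  rw [hπb, he] at k2
  simp only [bl_vadd_left, bl_vadd_right, bl_sel_left, hbl, bl_comm b a, bl_self, Bool.and_true,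
    Bool.and_false, Bool.false_xor, Bool.xor_false] at k1 k2
  rw [he]
  show _ = tr a (tr b v)
  simp only [tr, bl_vadd_left, bl_sel_left, bl_comm b a, hbl, Bool.and_true, vadd_assoc,
    sel_xor]
  revert k1 k2
  cases s <;> cases t <;> cases bl v a <;> cases bl v b <;> intro k1 k2 <;>
    simp [sel, vadd_zero, zero_vadd, vadd_comm b a, vadd_self] at k1 k2 ⊢

/-! ### The standard plane -/

/-- The rotation of the standard plane. -/
def pi0 : Perm V8 := rot 136 76

/-- The rotation of the second plane. -/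
def pi2 : Perm V8 := rot 68 140

theorem pi0_mem : pi0 ∈ O := mul_mem (trP_mem plane_facts.1) (trP_mem plane_facts.2.1)

theorem pi2_mem : pi2 ∈ O :=
  mul_mem (trP_mem plane_facts.2.2.2.1) (trP_mem plane_facts.2.2.2.2.1)

/-- The two transvections on a vector. -/
theorem pi0_apply (v : V8) : pi0 v = tr 136 (tr 76 v) := rfl

theorem pi0_vals : pi0 136 = 76 ∧ pi0 76 = vadd 136 76 ∧ pi0 (vadd 136 76) = 136 ∧
    (∀ v, tr 136 (tr 76 (tr 136 (tr 76 (tr 136 (tr 76 v))))) = v) ∧
    (∀ v, (tr 136 (tr 76 v) = v ↔ (bl v 136 = false ∧ bl v 76 = false)) ∧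
      prj (tr 136 (tr 76 v)) = prj v ∧ pp (tr 136 (tr 76 v)) = tr 136 (tr 76 (pp v))) := by
  simp only [pi0_apply]
  decide +kernel

theorem pi0_cube : pi0 ^ 3 = 1 := Equiv.ext fun v => by
  simp only [pow_succ, pow_zero, one_mul, Perm.mul_apply, pi0_apply]
  exact pi0_vals.2.2.2.1 v

theorem pi0_ne : pi0 ≠ 1 := fun h => by
  have h1 := pi0_vals.1
  rw [h] at h1
  exact absurd h1 (by decide)

theorem pi0_fix {v : V8} : pi0 v = v ↔ em (prj v) = v :=
  (pi0_vals.2.2.2.2 v).1.trans (perp_iff v)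

theorem pi0_em (x : Fin 64) : pi0 (em x) = em x := pi0_fix.2 (by rw [(em_facts x).2.1])

theorem comm_em {π : Perm V8} (hc : π * pi0 = pi0 * π) (x : Fin 64) :
    em (prj (π (em x))) = π (em x) :=
  pi0_fix.1 (by rw [← Perm.mul_apply, ← hc, Perm.mul_apply, pi0_em])

/-- The orthogonal maps commuting with the rotation. -/
def C0 : Subgroup (Perm V8) := O ⊓ Subgroup.centralizer {pi0}

theorem mem_C0 {π : Perm V8} : π ∈ C0 ↔ π ∈ O ∧ π * pi0 = pi0 * π := by
  rw [C0, Subgroup.mem_inf, Subgroup.mem_centralizer_singleton_iff]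

/-- The action on the perpendicular space. -/
def resFun (π : Perm V8) (x : Fin 64) : Fin 64 := prj (π (em x))

theorem resFun_mul {π σ : Perm V8} (hσ : σ ∈ C0) (x : Fin 64) :
    resFun (π * σ) x = resFun π (resFun σ x) := by
  simp only [resFun, Perm.mul_apply, comm_em (mem_C0.1 hσ).2]

theorem resFun_one (x : Fin 64) : resFun 1 x = x := (em_facts x).2.1

/-- The restriction as a homomorphism. -/
def res : C0 →* Perm (Fin 64) :=
  MonoidHom.mk'
    (fun π => ⟨resFun π.1, resFun π.1⁻¹,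
      fun x => by rw [← resFun_mul π.2, inv_mul_cancel, resFun_one],
      fun x => by rw [← resFun_mul (inv_mem π.2), mul_inv_cancel, resFun_one]⟩)
    fun a b => Equiv.ext fun x => resFun_mul b.2 x

theorem res_apply (π : C0) (x : Fin 64) : res π x = prj ((π : Perm V8) (em x)) := rfl

theorem res_mem (π : C0) : res π ∈ SuzTwo.O := by
  obtain ⟨hO, hc⟩ := mem_C0.1 π.2
  refine ⟨fun x y => ?_, fun x => ?_⟩
  · simp only [res_apply, em_vadd, O_add hO, prj_vadd]
  · rw [res_apply, ← (em_facts _).1, comm_em hc, O_q hO, (em_facts _).1]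

/-- The extension by the identity on the plane. -/
def extFun (σ : Perm (Fin 64)) (v : V8) : V8 := vadd (em (σ (prj v))) (pp v)

theorem prj_extFun (σ : Perm (Fin 64)) (v : V8) : prj (extFun σ v) = σ (prj v) := by
  rw [extFun, prj_vadd, (em_facts _).2.1, (vec_facts v).2.1, SuzTwo.vadd_zero]

theorem pp_extFun (σ : Perm (Fin 64)) (v : V8) : pp (extFun σ v) = pp v := by
  rw [extFun, pp_vadd, (em_facts _).2.2.1, (vec_facts v).2.2, zero_vadd]

theorem extFun_mul (σ τ : Perm (Fin 64)) (v : V8) :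
    extFun (σ * τ) v = extFun σ (extFun τ v) := by
  rw [extFun.eq_def σ, prj_extFun, pp_extFun, extFun, Perm.mul_apply]

theorem extFun_one (v : V8) : extFun 1 v = v := (vec_facts v).1

/-- The extension as a homomorphism. -/
def ext6 : Perm (Fin 64) →* Perm V8 :=
  MonoidHom.mk'
    (fun σ => ⟨extFun σ, extFun σ⁻¹,
      fun v => by rw [← extFun_mul, inv_mul_cancel, extFun_one],
      fun v => by rw [← extFun_mul, mul_inv_cancel, extFun_one]⟩)
    fun a b => Equiv.ext fun v => extFun_mul a b v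

theorem ext6_apply (σ : Perm (Fin 64)) (v : V8) : ext6 σ v = vadd (em (σ (prj v))) (pp v) := rfl

theorem qb_split (y : Fin 64) (v : V8) :
    qb (vadd (em y) (pp v)) = (SuzTwo.qb y ^^ qb (pp v)) := by
  rw [qb_vadd, (em_facts y).1, pp, bl_vadd_right, bl_sel_right, bl_sel_right,
    (em_facts y).2.2.2.1, (em_facts y).2.2.2.2]
  simp

theorem ext6_mem {σ : Perm (Fin 64)} (hσ : σ ∈ SuzTwo.O) : ext6 σ ∈ C0 := by
  refine mem_C0.2 ⟨⟨fun v w => ?_, fun v => ?_⟩, Equiv.ext fun v => ?_⟩
  · simp only [ext6_apply, prj_vadd, pp_vadd, SuzTwo.O_add hσ, em_vadd]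
    exact vadd_four _ _ _ _
  · rw [ext6_apply, qb_split, SuzTwo.O_q hσ, ← qb_split, (vec_facts v).1]
  · rw [Perm.mul_apply, Perm.mul_apply, ext6_apply, ext6_apply, O_add pi0_mem, pi0_em,
      pi0_apply, pi0_apply, (pi0_vals.2.2.2.2 v).2.1, (pi0_vals.2.2.2.2 v).2.2]

theorem res_ext6 {σ : Perm (Fin 64)} (hσ : σ ∈ SuzTwo.O) : res ⟨ext6 σ, ext6_mem hσ⟩ = σ :=
  Equiv.ext fun x => by
    rw [res_apply]
    show prj (extFun σ (em x)) = σ x
    rw [prj_extFun, (em_facts x).2.1]

/-- The kernel of the restriction. -/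
theorem res_ker {π : C0} (h : res π = 1) : ∃ k : ℕ, (π : Perm V8) = pi0 ^ k := by
  obtain ⟨hO, hc⟩ := mem_C0.1 π.2
  have hfix : ∀ x, (π : Perm V8) (em x) = em x := fun x => by
    have h1 := congrArg (fun p : Perm (Fin 64) => p x) h
    rw [res_apply, Perm.one_apply] at h1
    rw [← comm_em hc, h1]
  obtain ⟨k, hk⟩ : ∃ k : ℕ, (π : Perm V8) 136 = (pi0 ^ k) 136 := by
    rcases perp_P ((π : Perm V8) 136) (fun x => by
      rw [← hfix x, O_bl hO, bl_comm]; exact (em_facts x).2.2.2.1) with e | e | e | e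
    · exact absurd ((π : Perm V8).injective (e.trans (O_zero hO).symm)) (by decide)
    · exact ⟨0, by rw [e]; rfl⟩
    · exact ⟨1, by rw [e, pow_one, pi0_vals.1]⟩
    · exact ⟨2, by rw [e, pow_two, Perm.mul_apply, pi0_vals.1, pi0_vals.2.1]⟩
  have hp := pow_mem pi0_mem k
  refine ⟨k, Equiv.ext fun v => ?_⟩
  have h76 : (π : Perm V8) 76 = (pi0 ^ k) 76 := by
    rw [← pi0_vals.1, ← Perm.mul_apply, hc, Perm.mul_apply, hk, ← Perm.mul_apply, ← pow_succ',
      pow_succ, Perm.mul_apply]
  have hem : ∀ x, (pi0 ^ k) (em x) = em x := fun x => by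
    clear hk hp h76
    induction k with
    | zero => rfl
    | succ n ih => rw [pow_succ, Perm.mul_apply, pi0_em]; exact ih
  conv_lhs => rw [← (vec_facts v).1, pp]
  conv_rhs => rw [← (vec_facts v).1, pp]
  simp only [O_add hO, O_sel hO, O_add hp, O_sel hp, hfix, hem, hk, h76]

/-! ### The part in a subgroup of index two -/

variable {R : Subgroup (Perm V8)}

theorem pi0_R (hR : Half R) : pi0 ∈ R :=
  hR.mul (trP_mem plane_facts.1) (trP_mem plane_facts.2.1) (hR.tr _ plane_facts.1)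
    (hR.tr _ plane_facts.2.1)

theorem pi2_R (hR : Half R) : pi2 ∈ R :=
  hR.mul (trP_mem plane_facts.2.2.2.1) (trP_mem plane_facts.2.2.2.2.1)
    (hR.tr _ plane_facts.2.2.2.1) (hR.tr _ plane_facts.2.2.2.2.1)

/-- The maps of the perpendicular space extending into `R`. -/
def S6 (R : Subgroup (Perm V8)) : Subgroup (Perm (Fin 64)) := SuzTwo.O ⊓ R.comap ext6

theorem commutator_R (hR : Half R) {x y : Perm V8} (hx : x ∈ O) (hy : y ∈ O) :
    x * y * x⁻¹ * y⁻¹ ∈ R := by
  rw [hR.mul_iff (mul_mem (mul_mem hx hy) (inv_mem hx)) (inv_mem hy),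
    hR.mul_iff (mul_mem hx hy) (inv_mem hx), hR.mul_iff hx hy, inv_mem_iff, inv_mem_iff]
  tauto

theorem S6_eq (hR : Half R) : S6 R = SixMinus.Om := by
  have hle : SixMinus.Om ≤ S6 R := by
    refine Subgroup.commutator_le.2 fun a ha b hb =>
      ⟨mul_mem (mul_mem (mul_mem ha hb) (SuzTwo.O.inv_mem ha)) (SuzTwo.O.inv_mem hb), ?_⟩
    show ext6 (a * b * a⁻¹ * b⁻¹) ∈ R
    simp only [map_mul, map_inv]
    exact commutator_R hR (mem_C0.1 (ext6_mem ha)).1 (mem_C0.1 (ext6_mem hb)).1
  refine (Subgroup.eq_of_le_of_card_ge hle ?_).symm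
  rw [SixMinus.card_Om]
  -- a transvection on the perpendicular space is outside
  obtain ⟨σ, hσ, hσR⟩ : ∃ σ ∈ SuzTwo.O, ext6 σ ∉ R := by
    have hC : trP 68 ∈ C0 := mem_C0.2 ⟨trP_mem plane_facts.2.2.2.1,
      Equiv.ext (by
        show ∀ v, tr 68 (tr 136 (tr 76 v)) = tr 136 (tr 76 (tr 68 v))
        decide +kernel)⟩
    refine ⟨res ⟨trP 68, hC⟩, res_mem _, ?_⟩
    rw [show ext6 (res ⟨trP 68, hC⟩) = trP 68 from Equiv.ext (by
      show ∀ v, vadd (em (prj (tr 68 (em (prj v))))) (pp v) = tr 68 v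
      decide +kernel)]
    exact hR.tr _ plane_facts.2.2.2.1
  have h1 : S6 R ≤ SuzTwo.O := inf_le_left
  have hd : Nat.card (S6 R) ∣ 51840 := SixMinus.card_O ▸ Subgroup.card_dvd_of_le h1
  have hm : 25920 ∣ Nat.card (S6 R) := SixMinus.card_Om ▸ Subgroup.card_dvd_of_le hle
  have hne : Nat.card (S6 R) ≠ 51840 := fun h => hσR (by
    have h2 := Subgroup.eq_of_le_of_card_ge h1 (by rw [h, SixMinus.card_O])
    exact (h2.symm ▸ hσ : σ ∈ S6 R).2)
  obtain ⟨m, hm⟩ := hm
  rw [hm] at hd hne ⊢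
  have hm2 : m ∣ 2 := Nat.dvd_of_mul_dvd_mul_left (by norm_num : 0 < 25920) hd
  have := Nat.le_of_dvd (by norm_num) hm2
  interval_cases m <;> simp_all

/-- The restrictions from `R` are the commutators. -/
theorem res_R (hR : Half R) (π : C0) : (π : Perm V8) ∈ R → res π ∈ SixMinus.Om := by
  intro hπ
  rw [← S6_eq hR]
  refine ⟨res_mem π, ?_⟩
  obtain ⟨k, hk⟩ := res_ker (π := π⁻¹ * ⟨ext6 (res π), ext6_mem (res_mem π)⟩) (by
    rw [map_mul, map_inv, res_ext6 (res_mem π), inv_mul_cancel])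
  show ext6 (res π) ∈ R
  rw [show ext6 (res π) = (π : Perm V8) * pi0 ^ k by
    rw [← hk]; simp]
  exact mul_mem hπ (pow_mem (pi0_R hR) k)

/-- Each commutator is a restriction. -/
theorem exists_res (hR : Half R) {σ : Perm (Fin 64)} (hσ : σ ∈ SixMinus.Om) :
    ∃ π : C0, (π : Perm V8) ∈ R ∧ res π = σ := by
  rw [← S6_eq hR] at hσ
  exact ⟨⟨ext6 σ, ext6_mem hσ.1⟩, hσ.2, res_ext6 hσ.1⟩

end CfsgLib.Small.ConTwo.Three
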