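import Cfsg.Agent.Lib.Small.ConTwo.FiveModel
import Cfsg.Agent.Lib.Small.ConTwo.ThreePlane

/-!
An element of order three of the centraliser of `z` rotating the fixed plane: its centraliser
there, further elements normalising it, and an element centralising it that moves `z`.
-/

set_option autoImplicit false
set_option maxRecDepth 100000
set_option linter.style.haveILetI false

namespace CfsgLib.Small.ConTwo

open Equiv

namespace Three

theorem rot_facts :
    (∀ v, tr 136 (tr 76 (tr 68 (tr 140 v))) = tr 68 (tr 140 (tr 136 (tr 76 v)))) ∧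
    (∀ v, tr 68 (tr 140 (tr 68 (tr 140 (tr 68 (tr 140 v))))) = v) ∧
    tr 136 (tr 76 pt) = pt ∧ tr 68 (tr 140 pt) = pt := by
  decide +kernel

theorem pi_comm : pi2 * pi0 = pi0 * pi2 := Equiv.ext fun v => (rot_facts.1 v).symm

theorem pi2_cube : pi2 ^ 3 = 1 := Equiv.ext fun v => by
  simp only [pow_succ, pow_zero, one_mul, Perm.mul_apply]
  exact rot_facts.2.1 v

theorem pi2_ne : pi2 ≠ 1 := fun h => by
  have h1 : pi2 140 = 140 := by rw [h]; rfl
  exact absurd h1 (by show tr 68 (tr 140 140) ≠ 140; decide +kernel)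

/-- The map exchanging the two planes. -/
def sw : Perm V8 := sieP 12 192

/-- The map inverting the first plane only. -/
def flip1 : Perm V8 := trP 136 * trP 17

theorem move_facts : SieOK (12, 192) ∧ sie 12 192 136 = 68 ∧ sie 12 192 76 = 140 ∧
    sie 12 192 68 = 136 ∧ sie 12 192 140 = 76 ∧ qb 17 = true ∧
    (∀ v, tr 136 (tr 76 (tr 136 (tr 76 v))) =
      tr (tr 136 (tr 17 136)) (tr (tr 136 (tr 17 76)) v)) ∧
    (tr 136 (tr 17 68) = 68 ∧ tr 136 (tr 17 140) = 140) := by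
  decide +kernel

theorem flip1_mem {R : Subgroup (Perm V8)} (hR : Half R) : flip1 ∈ R :=
  hR.mul (trP_mem plane_facts.1) (trP_mem move_facts.2.2.2.2.2.1) (hR.tr _ plane_facts.1)
    (hR.tr _ move_facts.2.2.2.2.2.1)

theorem sw_conj : sw * pi0 * sw⁻¹ = pi2 ∧ sw * pi2 * sw⁻¹ = pi0 := by
  obtain ⟨h0, h1, h2, h3, h4, -⟩ := move_facts
  refine ⟨?_, ?_⟩
  · rw [pi0, sw, rot_conj (sieP_mem _ _), sieP_apply h0, sieP_apply h0, h1, h2]; rfl
  · rw [pi2, sw, rot_conj (sieP_mem _ _), sieP_apply h0, sieP_apply h0, h3, h4]; rfl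

theorem flip1_conj : flip1 * pi0 * flip1⁻¹ = pi0⁻¹ ∧ flip1 * pi2 * flip1⁻¹ = pi2 := by
  have hO : flip1 ∈ O := mul_mem (trP_mem plane_facts.1) (trP_mem move_facts.2.2.2.2.2.1)
  refine ⟨?_, ?_⟩
  · rw [show pi0⁻¹ = pi0 * pi0 from inv_eq_of_mul_eq_one_right (by
      rw [← mul_assoc, ← sq, ← pow_succ, pi0_cube])]
    rw [pi0, rot_conj hO]
    exact Equiv.ext fun v => (move_facts.2.2.2.2.2.2.1 v).symm
  · rw [pi2, rot_conj hO]
    show rot (tr 136 (tr 17 68)) (tr 136 (tr 17 140)) = _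
    rw [move_facts.2.2.2.2.2.2.2.1, move_facts.2.2.2.2.2.2.2.2]

theorem span_u : ∀ i : Fin 4, bl (![2, 32, 102, 174] i) pt = false ∧
    qb (![2, 32, 102, 174] i) = false ∧ tr 136 (tr 76 (![2, 32, 102, 174] i)) = ![2, 32, 102, 174] i := by
  decide +kernel

/-- The sums of the four translations. -/
def wsum (e : Bool × Bool × Bool × Bool) : V8 :=
  vadd (vadd (sel e.1 2) (sel e.2.1 32)) (vadd (sel e.2.2.1 102) (sel e.2.2.2 174))

theorem wsum_inj : ∀ e e' : Bool × Bool × Bool × Bool,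
    vadd (wsum e) (wsum e') = 0 ∨ vadd (wsum e) (wsum e') = pt → e = e' := by
  decide +kernel

theorem wsum_perp : ∀ e, bl (wsum e) pt = false ∧
    bl (vadd (sel e.1 2) (sel e.2.1 32)) pt = false ∧
    bl (vadd (sel e.2.2.1 102) (sel e.2.2.2 174)) pt = false := by
  decide +kernel

end Three

namespace Model

variable {G : Type*} [Group G] {z : G} {Q : Subgroup G} {f : G → V8}
  {ρ : Cz z →* Perm V8} (M : Model z Q f ρ)

include M

theorem pow_four {q : G} (hq : q ∈ Q) : q ^ 4 = 1 := by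
  rw [show (4 : ℕ) = 2 * 2 from rfl, pow_mul, sq q, M.sq_zp hq]
  cases qb (f q) <;> simp [zp, sq, M.zz]

theorem cube_mem_Q {x : G} (h3 : x ^ 3 = 1) (hx : x ∈ Q) : x = 1 := by
  have h4 := M.pow_four hx
  rwa [pow_succ, h3, one_mul] at h4

/-- An element over a map of order three can be replaced by one of order three. -/
theorem exists_cube {π : Perm V8} (hπ : π ^ 3 = 1) {T : Subgroup G} {y : G} (hy : Img ρ y π)
    (hyT : y ∈ T) : ∃ x ∈ T, Img ρ x π ∧ x ^ 3 = 1 := by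
  refine ⟨y ^ 4, pow_mem hyT 4, ?_, ?_⟩
  · have h := hy.pow 4
    rwa [pow_succ π 3, hπ, one_mul] at h
  · have h := hy.pow 3
    rw [hπ] at h
    rw [← pow_mul, mul_comm, pow_mul]
    exact M.pow_four (M.img_one_mem h)

/-- Elements of order three over the same map are conjugate under `Q`. -/
theorem conj_cube [Finite G] (T : Subgroup G) {x y : G} (hxT : x ∈ T) (hyT : y ∈ T)
    (hx3 : x ^ 3 = 1) (hy3 : y ^ 3 = 1) {π : Perm V8} (hπ : π ≠ 1) (hx : Img ρ x π)
    (hy : Img ρ y π) : ∃ q ∈ Q, q ∈ T ∧ q * x * q⁻¹ = y := by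
  haveI : Fact (Nat.Prime 3) := ⟨Nat.prime_three⟩
  have hπ3 : π ^ 3 = 1 := (hx.pow 3).unique (hx3 ▸ Img.one)
  have hπo : orderOf π = 3 := orderOf_eq_prime hπ3 hπ
  let H0 : Subgroup G := ((Subgroup.zpowers π).comap ρ).map (Cz z).subtype
  have hH0 : Nat.card H0 = 3 * 512 := by
    let φ := ρ.subgroupComap (Subgroup.zpowers π)
    have hsurj : Function.Surjective φ := fun v => by
      obtain ⟨hm, he⟩ := hx
      obtain ⟨n, hn⟩ := v.2
      refine ⟨⟨(⟨x, hm⟩ : Cz z) ^ n, ?_⟩, Subtype.ext ?_⟩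
      · show ρ ((⟨x, hm⟩ : Cz z) ^ n) ∈ Subgroup.zpowers π
        rw [map_zpow, he]
        exact ⟨n, rfl⟩
      · show ρ ((⟨x, hm⟩ : Cz z) ^ n) = v
        rw [map_zpow, he]
        exact hn
    have hker : Nat.card φ.ker = 512 := by
      rw [← M.card]
      refine Nat.card_congr ⟨fun k => ⟨(k.1.1 : G), (M.ρ_ker k.1.1).1 ?_⟩,
        fun q => ⟨⟨⟨q, M.le q.2⟩, ?_⟩, ?_⟩, fun k => rfl, fun q => rfl⟩
      · exact congrArg Subtype.val k.2
      · show ρ ⟨q, M.le q.2⟩ ∈ Subgroup.zpowers π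
        rw [(M.ρ_ker ⟨q, M.le q.2⟩).2 q.2]
        exact one_mem _
      · exact Subtype.ext ((M.ρ_ker ⟨q, M.le q.2⟩).2 q.2)
    rw [Subgroup.card_map_of_injective (Cz z).subtype_injective,
      Subgroup.card_eq_card_quotient_mul_card_subgroup φ.ker,
      Nat.card_congr (QuotientGroup.quotientKerEquivOfSurjective φ hsurj).toEquiv, hker,
      Nat.card_zpowers, hπo]
  have hmem : ∀ {v : G}, Img ρ v π → v ∈ H0 := by
    rintro v ⟨hv, he⟩
    exact ⟨⟨v, hv⟩, by show ρ ⟨v, hv⟩ ∈ Subgroup.zpowers π; rw [he]; exact Subgroup.mem_zpowers π, rfl⟩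
  let H : Subgroup G := T ⊓ H0
  let xH : H := ⟨x, hxT, hmem hx⟩
  let yH : H := ⟨y, hyT, hmem hy⟩
  have hd : Nat.card H ∣ 3 * 512 := hH0 ▸ Subgroup.card_dvd_of_le inf_le_right
  have ho : ∀ {v : G}, v ^ 3 = 1 → Img ρ v π → orderOf v = 3 := fun {v} h3 hv =>
    orderOf_eq_prime h3 fun e => hπ (hv.unique (e ▸ Img.one))
  have hxo : orderOf xH = 3 := by rw [← Subgroup.orderOf_coe]; exact ho hx3 hx
  have hyo : orderOf yH = 3 := by rw [← Subgroup.orderOf_coe]; exact ho hy3 hy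
  have h3 : 3 ∣ Nat.card H := hxo ▸ orderOf_dvd_natCard xH
  have hf : (Nat.card H).factorization 3 = 1 := by
    have hpos : 0 < Nat.card H := Nat.card_pos
    obtain ⟨m, hm⟩ := h3
    rw [hm] at hd hpos ⊢
    have hm512 : m ∣ 512 := Nat.dvd_of_mul_dvd_mul_left (by norm_num) hd
    have h3m : ¬ 3 ∣ m := fun h => absurd (h.trans hm512) (by norm_num)
    rw [Nat.factorization_mul (by norm_num) (by omega), Finsupp.add_apply,
      Nat.Prime.factorization_self (by norm_num), Nat.factorization_eq_zero_of_not_dvd h3m]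
  have mk : ∀ v : H, orderOf v = 3 →
      Nat.card (Subgroup.zpowers v) = 3 ^ (Nat.card H).factorization 3 := by
    intro v hv
    rw [hf, pow_one, Nat.card_zpowers, hv]
  obtain ⟨h, hh⟩ := MulAction.exists_smul_eq H (Sylow.ofCard (Subgroup.zpowers xH) (mk xH hxo))
    (Sylow.ofCard (Subgroup.zpowers yH) (mk yH hyo))
  have h' := congrArg (fun S : Sylow 3 H => (S : Subgroup H)) hh
  simp only [Sylow.coe_subgroup_smul, Sylow.coe_ofCard] at h'
  have hm : h * xH * h⁻¹ ∈ Subgroup.zpowers yH := by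
    rw [← h']
    exact Subgroup.mem_map.2 ⟨xH, Subgroup.mem_zpowers _, rfl⟩
  obtain ⟨m, hm⟩ := mem_powers_iff_mem_zpowers.2 hm
  have hm' : y ^ m = (h : G) * x * (h : G)⁻¹ := congrArg Subtype.val hm
  obtain ⟨h0, hk, hkv⟩ := h.2.2
  obtain ⟨k, hk'⟩ := mem_powers_iff_mem_zpowers.2 (hk : ρ h0 ∈ Subgroup.zpowers π)
  have hI : Img ρ (h : G) (π ^ k) := by
    rw [← (hkv : (h0 : G) = (h : G))]
    exact ⟨h0.2, hk'.symm⟩
  have hq : Img ρ ((h : G) * (x ^ k)⁻¹) 1 := by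
    have := hI.mul (hx.pow k).inv
    rwa [mul_inv_cancel] at this
  refine ⟨_, M.img_one_mem hq, mul_mem h.2.1 (inv_mem (pow_mem hxT k)), ?_⟩
  calc (h : G) * (x ^ k)⁻¹ * x * ((h : G) * (x ^ k)⁻¹)⁻¹ = h * ((x ^ k)⁻¹ * x * x ^ k) * (h : G)⁻¹ := by
        group
    _ = y ^ m := by rw [hm', show (x ^ k)⁻¹ * x * x ^ k = x by
          rw [mul_assoc, ((Commute.refl x).pow_right k).eq, inv_mul_cancel_left]]
    _ = y := by
      have h1 : π ^ m = π := by
        refine ((hy.pow m).unique ?_)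
        rw [hm']
        have := hx.conj hI
        rwa [(Commute.refl π).pow_left k |>.eq, mul_inv_cancel_right] at this
      have h2 : m % 3 = 1 := by
        rw [pow_eq_pow_mod m hπ3] at h1
        have : m % 3 < 3 := Nat.mod_lt _ (by norm_num)
        interval_cases hm3 : m % 3
        · exact absurd h1.symm (by simpa using hπ)
        · rfl
        · exfalso
          refine hπ ?_
          rwa [sq, mul_eq_left] at h1
      rw [pow_eq_pow_mod m hy3, h2, pow_one]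

/-- A lift conjugating one given element of order three to another. -/
theorem conj_lift [Finite G] (T : Subgroup G) {c x y : G} {σ π π' : Perm V8} (hc : Img ρ c σ)
    (hx : Img ρ x π) (hy : Img ρ y π') (hx3 : x ^ 3 = 1) (hy3 : y ^ 3 = 1) (hπ : π' ≠ 1)
    (he : σ * π * σ⁻¹ = π') (hcT : c * x * c⁻¹ ∈ T) (hyT : y ∈ T) :
    ∃ q ∈ Q, q ∈ T ∧ Img ρ (q * c) σ ∧ q * c * x * (q * c)⁻¹ = y := by
  obtain ⟨q, hqQ, hqT, hq⟩ := M.conj_cube T hcT hyT (by rw [conj_pow, hx3, mul_one, mul_inv_cancel])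
    hy3 hπ (he ▸ hx.conj hc) hy
  refine ⟨q, hqQ, hqT, by simpa using (M.img_q hqQ).mul hc, ?_⟩
  rw [← hq]
  group

/-- An element of order three fixing a vector centralises what lies over it. -/
theorem fix_iff {x q : G} {π : Perm V8} (hx : Img ρ x π) (h3 : x ^ 3 = 1) (hq : q ∈ Q) :
    x * q = q * x ↔ π (f q) = f q := by
  refine ⟨fun h => by rw [← M.img_conj hx hq, h, mul_inv_cancel_right], fun h => ?_⟩
  rcases M.f_eq hq (M.normal x hx.mem q hq) ((M.img_conj hx hq).trans h).symm with e | e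
  · exact mul_inv_eq_iff_eq_mul.1 e
  · exfalso
    have hxz : x * z * x⁻¹ = z := by rw [mem_Cz.1 hx.mem, mul_inv_cancel_right]
    have h2 : x * (x * q * x⁻¹) * x⁻¹ = q := by
      rw [e, show x * (q * z) * x⁻¹ = x * q * x⁻¹ * (x * z * x⁻¹) by group, e, hxz, mul_assoc,
        M.zz, mul_one]
    have h4 : x * (x * (x * q * x⁻¹) * x⁻¹) * x⁻¹ = q := by
      calc x * (x * (x * q * x⁻¹) * x⁻¹) * x⁻¹ = x ^ 3 * q * (x ^ 3)⁻¹ := by
            simp only [pow_succ, pow_zero, one_mul, mul_inv_rev, mul_assoc]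
        _ = q := by rw [h3, one_mul, inv_one, mul_one]
    rw [h2, e] at h4
    exact M.z_ne (mul_eq_left.1 h4)

/-- An element of order three with few commutators is conjugate onto the fixed rotation. -/
theorem to_std {x : G} {π : Perm V8} (hx : Img ρ x π) (h3 : x ^ 3 = 1) (hπ : π ≠ 1)
    (hcard : (Finset.univ.image fun v => vadd v (π v)).card ≤ 8) :
    ∃ c ∈ Cz z, Img ρ (c * x * c⁻¹) Three.pi0 := by
  have hπ3 : π ^ 3 = 1 := (hx.pow 3).unique (h3 ▸ Img.one)
  obtain ⟨a, b, ha, hb, hab, rfl⟩ := Three.exists_plane (M.img_O hx) hπ3 hπ hcard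
  obtain ⟨l, -, hl, hla⟩ := Three.firstW_ok a ha
  have hlO := wperm_mem_O l
  obtain ⟨m, -, hm, hm1, hm2⟩ := Three.secondW_ok (wap l b)
    (by rw [← wperm_apply hl, O_q hlO]; exact hb)
    (by rw [← hla, ← wperm_apply hl, ← wperm_apply hl, O_bl hlO, bl_comm]; exact hab)
  obtain ⟨c, hc⟩ := M.lift l
  obtain ⟨d, hd⟩ := M.lift m
  refine ⟨d * c, mul_mem hd.mem hc.mem, ?_⟩
  have h := (hx.conj hc).conj hd
  rw [Three.rot_conj hlO, Three.rot_conj (wperm_mem_O m), wperm_apply hl, wperm_apply hl, hla,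
    wperm_apply hm, wperm_apply hm, hm1, hm2] at h
  rwa [show d * c * x * (d * c)⁻¹ = d * (c * x * c⁻¹) * d⁻¹ by group]

end Model

namespace Three

theorem conj_mem_cent {G : Type*} [Group G] {a x y x' : G} (h : y * x = x * y)
    (he : a * x * a⁻¹ = x') : a * y * a⁻¹ ∈ Subgroup.centralizer ({x'} : Set G) := by
  rw [Subgroup.mem_centralizer_singleton_iff, ← he]
  calc a * y * a⁻¹ * (a * x * a⁻¹) = a * (y * x) * a⁻¹ := by group
    _ = _ := by rw [h]; group

/-- The data of the element of order three. -/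
structure Frame {G : Type*} [Group G] (z : G) (Q : Subgroup G) (f : G → V8)
    (ρ : Cz z →* Perm V8) (x : G) : Prop where
  M : Model z Q f ρ
  img : Img ρ x pi0
  cube : x ^ 3 = 1

namespace Frame

variable {G : Type*} [Group G] {z : G} {Q : Subgroup G} {f : G → V8} {ρ : Cz z →* Perm V8}
  {x : G} (A : Frame z Q f ρ x)

include A

theorem x_ne : x ≠ 1 := fun e => pi0_ne (A.img.unique (e ▸ Img.one))

theorem xz : x * z = z * x := mem_Cz.1 A.img.mem

theorem lift_C1 [Finite G] {π : Perm V8} (hπ : π ∈ ρ.range) (hc : π * pi0 = pi0 * π) :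
    ∃ c, Img ρ c π ∧ c * x = x * c := by
  obtain ⟨c, hcI⟩ := exists_img hπ
  obtain ⟨q, -, -, hI, he⟩ := A.M.conj_lift ⊤ hcI A.img A.img A.cube A.cube pi0_ne
    (by rw [hc, mul_inv_cancel_right]) trivial trivial
  exact ⟨_, hI, mul_inv_eq_iff_eq_mul.1 he⟩

theorem exists_x2 [Finite G] : ∃ y, Img ρ y pi2 ∧ y ^ 3 = 1 ∧ y * x = x * y := by
  obtain ⟨c, hc, hcx⟩ := A.lift_C1 (pi2_R A.M.half) pi_comm
  obtain ⟨y, hy, hyI, hy3⟩ := A.M.exists_cube pi2_cube hc
    (T := Subgroup.centralizer {x}) (Subgroup.mem_centralizer_singleton_iff.2 hcx)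
  exact ⟨y, hyI, hy3, Subgroup.mem_centralizer_singleton_iff.1 hy⟩

variable {y : G} (hy : Img ρ y pi2) (hy3 : y ^ 3 = 1) (hyx : y * x = x * y)

include hy hy3 hyx

theorem exists_s [Finite G] : ∃ s, s * x * s⁻¹ = y ∧ s * y * s⁻¹ = x := by
  obtain ⟨c, hc⟩ := exists_img (A.M.sie_mem 12 192)
  obtain ⟨q, -, -, hI, he⟩ :=
    A.M.conj_lift ⊤ hc A.img hy A.cube hy3 pi2_ne sw_conj.1 trivial trivial
  have hcomm : q * c * y * (q * c)⁻¹ ∈ Subgroup.centralizer ({y} : Set G) := by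
    exact conj_mem_cent hyx he
  obtain ⟨r, -, hr, -, he2⟩ := A.M.conj_lift (Subgroup.centralizer {y}) hI hy A.img hy3 A.cube
    pi0_ne sw_conj.2 hcomm (Subgroup.mem_centralizer_singleton_iff.2 hyx.symm)
  refine ⟨r * (q * c), ?_, he2⟩
  calc r * (q * c) * x * (r * (q * c))⁻¹ = r * (q * c * x * (q * c)⁻¹) * r⁻¹ := by group
    _ = y := by rw [he, Subgroup.mem_centralizer_singleton_iff.1 hr, mul_inv_cancel_right]

theorem exists_r [Finite G] : ∃ s, s * x * s⁻¹ = x⁻¹ ∧ s * y * s⁻¹ = y := by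
  obtain ⟨c, hc⟩ := exists_img (flip1_mem A.M.half)
  have hx3 : x⁻¹ ^ 3 = 1 := by rw [inv_pow, A.cube, inv_one]
  obtain ⟨q, -, -, hI, he⟩ :=
    A.M.conj_lift ⊤ hc A.img A.img.inv A.cube hx3 (inv_ne_one.2 pi0_ne) flip1_conj.1 trivial trivial
  have hyx' : y * x⁻¹ = x⁻¹ * y := (show Commute y x from hyx).inv_right.eq
  have hcomm : q * c * y * (q * c)⁻¹ ∈ Subgroup.centralizer ({x⁻¹} : Set G) := by
    exact conj_mem_cent hyx he
  obtain ⟨r, -, hr, -, he2⟩ := A.M.conj_lift (Subgroup.centralizer {x⁻¹}) hI hy hy hy3 hy3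
    pi2_ne flip1_conj.2 hcomm (Subgroup.mem_centralizer_singleton_iff.2 hyx')
  refine ⟨r * (q * c), ?_, he2⟩
  calc r * (q * c) * x * (r * (q * c))⁻¹ = r * (q * c * x * (q * c)⁻¹) * r⁻¹ := by group
    _ = x⁻¹ := by rw [he, Subgroup.mem_centralizer_singleton_iff.1 hr, mul_inv_cancel_right]

omit hy hy3 hyx

/-- An element centralising `x` moves `z` into `Q`. -/
theorem exists_move [Finite G] : ∃ k u, u ∈ Q ∧ f u = pt ∧ k * z * k⁻¹ = u ∧ k * x = x * k := by
  obtain ⟨u, hu, hfu⟩ := A.M.f_surj pt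
  have hnc := A.M.Nc_of_f hu (hfu ▸ pt_facts.1) (hfu ▸ pt_facts.2.1)
  obtain ⟨g, hg1, hg2⟩ := A.M.exists_swap hnc
  have W : Swap z Q f u g := ⟨hnc, hfu, hg1, hg2⟩
  have hxu : x * u = u * x := (A.M.fix_iff A.img A.cube hu).2 (by rw [hfu]; exact rot_facts.2.2.1)
  have hx'C : g⁻¹ * x * g ∈ Cz z := Model.conj_mem_Cz W hxu
  set x' := g⁻¹ * x * g with hx'
  have hx'3 : x' ^ 3 = 1 := by
    have h := conj_pow (a := g⁻¹) (b := x) (i := 3)
    rw [inv_inv, A.cube, mul_one, inv_mul_cancel] at h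
    exact h
  obtain ⟨π', hπ'⟩ : ∃ π', Img ρ x' π' := ⟨_, Img.mk' hx'C⟩
  have hπ1 : π' ≠ 1 := fun e => A.x_ne (by
    have h := A.M.cube_mem_Q hx'3 (A.M.img_one_mem (e ▸ hπ'))
    calc x = g * x' * g⁻¹ := by rw [hx']; group
      _ = 1 := by rw [h, mul_one, mul_inv_cancel])
  have hxu' : x' * u = u * x' := by
    rw [hx', ← W.zg]
    calc g⁻¹ * x * g * (g⁻¹ * z * g) = g⁻¹ * (x * z) * g := by group
      _ = _ := by rw [A.xz]; group
  have hpt : π' pt = pt := by
    rw [← hfu, ← A.M.img_conj hπ' hu, hxu', mul_inv_cancel_right]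
  -- the elements exchanged with the translations fixed by the rotation
  have hy : ∀ i : Fin 4, ∃ y, Img ρ y (sieP pt (![2, 32, 102, 174] i)) ∧ g⁻¹ * y * g ∈ Q ∧
      x * y = y * x := by
    intro i
    obtain ⟨hw, hq, hfix⟩ := span_u i
    obtain ⟨y, hyI, hyQ, -⟩ := A.M.DInv_sing W hw hq
    refine ⟨y, hyI, hyQ, ?_⟩
    have hI' : Img ρ (x * y * x⁻¹) (sieP pt (![2, 32, 102, 174] i)) := by
      have h := hyI.conj A.img
      rwa [O_sieP pi0_mem (sieOK_pt hw), show pi0 pt = pt from rot_facts.2.2.1,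
        show pi0 (![2, 32, 102, 174] i) = ![2, 32, 102, 174] i from hfix] at h
    obtain ⟨d, hd, hd', he⟩ := A.M.D_same W hyI hI' hyQ (A.M.D_conj_mem W hxu hyQ)
    have hdx : d * x = x * d := A.M.DQ_comm W hd hd' A.img.mem hxu
    have hxd : x * d * x⁻¹ = d := by rw [← hdx, mul_inv_cancel_right]
    have h3 : y * (d * d * d) = y := by
      calc y * (d * d * d) = y * d * d * d := by group
        _ = x * (x * (x * y * x⁻¹) * x⁻¹) * x⁻¹ := by
          rw [he, show x * (y * d) * x⁻¹ = x * y * x⁻¹ * (x * d * x⁻¹) by group, he, hxd,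
            show x * (y * d * d) * x⁻¹ = x * y * x⁻¹ * (x * d * x⁻¹) * (x * d * x⁻¹) by group,
            he, hxd]
        _ = x ^ 3 * y * (x ^ 3)⁻¹ := by
          simp only [pow_succ, pow_zero, one_mul, mul_inv_rev, mul_assoc]
        _ = y := by rw [A.cube]; group
    rw [mul_eq_left, A.M.DQ_sq W hd hd', one_mul] at h3
    rw [h3, mul_one] at he
    exact mul_inv_eq_iff_eq_mul.1 he
  choose ys hys using hy
  let pw : Bool → G → G := fun b a => if b then a else 1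
  have hpw : ∀ (b : Bool) (a : G) (w : V8), bl w pt = false → Img ρ a (sieP pt w) →
      g⁻¹ * a * g ∈ Q → x * a = a * x →
      Img ρ (pw b a) (sieP pt (sel b w)) ∧ g⁻¹ * pw b a * g ∈ Q ∧ x * pw b a = pw b a * x := by
    intro b a w _ h1 h2 h3
    cases b
    · refine ⟨?_, by simp [pw], by simp [pw]⟩
      show Img ρ (1 : G) (sieP pt 0)
      rw [sieP_zero]; exact Img.one
    · exact ⟨h1, h2, h3⟩
  let Y : Bool × Bool × Bool × Bool → G := fun e =>
    pw e.1 (ys 0) * pw e.2.1 (ys 1) * (pw e.2.2.1 (ys 2) * pw e.2.2.2 (ys 3))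
  have hY : ∀ e, Img ρ (Y e) (sieP pt (wsum e)) ∧ g⁻¹ * Y e * g ∈ Q ∧ x * Y e = Y e * x := by
    intro e
    have k := fun (b : Bool) (i : Fin 4) =>
      hpw b (ys i) _ (span_u i).1 (hys i).1 (hys i).2.1 (hys i).2.2
    obtain ⟨-, hp1, hp2⟩ := wsum_perp e
    have hsel : ∀ (b : Bool) (i : Fin 4), bl (sel b (![2, 32, 102, 174] i)) pt = false :=
      fun b i => by rw [bl_sel_left, (span_u i).1, Bool.and_false]
    refine ⟨?_, A.M.D_mul_mem W (A.M.D_mul_mem W (k e.1 0).2.1 (k e.2.1 1).2.1)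
      (A.M.D_mul_mem W (k e.2.2.1 2).2.1 (k e.2.2.2 3).2.1),
      (((show Commute x _ from (k e.1 0).2.2).mul_right (k e.2.1 1).2.2).mul_right
        ((show Commute x _ from (k e.2.2.1 2).2.2).mul_right (k e.2.2.2 3).2.2)).eq⟩
    rw [wsum, ← sieP_mul hp1 hp2, show sel e.1 (2 : V8) = sel e.1 (![2, 32, 102, 174] 0) from rfl,
      show sel e.2.1 (32 : V8) = sel e.2.1 (![2, 32, 102, 174] 1) from rfl,
      show sel e.2.2.1 (102 : V8) = sel e.2.2.1 (![2, 32, 102, 174] 2) from rfl,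
      show sel e.2.2.2 (174 : V8) = sel e.2.2.2 (![2, 32, 102, 174] 3) from rfl,
      ← sieP_mul (hsel _ 0) (hsel _ 1), ← sieP_mul (hsel _ 2) (hsel _ 3)]
    exact ((k e.1 0).1.mul (k e.2.1 1).1).mul ((k e.2.2.1 2).1.mul (k e.2.2.2 3).1)
  -- thirty-two fixed vectors
  let F : (Bool × Bool × Bool × Bool) × Bool → V8 := fun e =>
    vadd (f (g⁻¹ * Y e.1 * g)) (sel e.2 pt)
  have hFfix : ∀ e, π' (F e) = F e := by
    rintro ⟨e, b⟩
    show π' (vadd _ _) = vadd _ _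
    rw [O_add (A.M.img_O hπ'), O_sel (A.M.img_O hπ'), hpt,
      ← A.M.img_conj hπ' (hY e).2.1,
      show x' * (g⁻¹ * Y e * g) * x'⁻¹ = g⁻¹ * (x * Y e * x⁻¹) * g by rw [hx']; group,
      (hY e).2.2, mul_inv_cancel_right]
  have hFinj : Function.Injective F := by
    rintro ⟨e, b⟩ ⟨e', b'⟩ h
    have h2 : vadd (f (g⁻¹ * Y e * g)) (f (g⁻¹ * Y e' * g)) = vadd (sel b pt) (sel b' pt) := by
      have h' : vadd (f (g⁻¹ * Y e * g)) (sel b pt) = vadd (f (g⁻¹ * Y e' * g)) (sel b' pt) := h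
      refine vadd_eq_zero ?_
      rw [vadd_four, h', vadd_self]
    have h3 := A.M.D_inj W (hY e).1 (hY e').1 (hY e).2.1 (hY e').2.1 (by
      rw [h2, ← sel_xor]
      cases b ^^ b'
      · exact Or.inl rfl
      · exact Or.inr rfl)
    obtain rfl := wsum_inj e e' (sieP_eq (wsum_perp e).1 (wsum_perp e').1 h3)
    rw [vadd_self, ← sel_xor, eq_comm] at h2
    have : (b ^^ b') = false := sel_pt_inj (c := false) h2
    rw [show b = b' by revert this; cases b <;> cases b' <;> decide]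
  have hcard : (Finset.univ.image fun v => vadd v (π' v)).card ≤ 8 := by
    classical
    set I := Finset.univ.image fun v => vadd v (π' v)
    choose sv hsv using fun l : I => Finset.mem_image.1 l.2
    have h := Fintype.card_le_of_injective (fun p : I × ((Bool × Bool × Bool × Bool) × Bool) =>
      vadd (sv p.1) (F p.2)) (by
      rintro ⟨l, e⟩ ⟨l', e'⟩ h
      have h1 := congrArg (fun v => vadd v (π' v)) h
      simp only [O_add (A.M.img_O hπ'), hFfix] at h1
      rw [vadd_four, vadd_self, vadd_zero, vadd_four _ (F e'), vadd_self, vadd_zero,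
        (hsv l).2, (hsv l').2] at h1
      obtain rfl := Subtype.ext h1
      simp only at h
      rw [hFinj (vadd_left_cancel h)])
    simp only [Fintype.card_prod, Fintype.card_coe, Fintype.card_bool, Fintype.card_fin] at h
    omega
  obtain ⟨c, hc, hcI⟩ := A.M.to_std hπ' hx'3 hπ1 hcard
  obtain ⟨q, hq, -, he⟩ := A.M.conj_cube ⊤ (x := c * x' * c⁻¹) (y := x) trivial trivial
    (by rw [conj_pow, hx'3, mul_one, mul_inv_cancel]) A.cube pi0_ne hcI A.img
  have hqc : q * c ∈ Cz z := mul_mem (A.M.le hq) hc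
  refine ⟨g * (q * c)⁻¹, u, hu, hfu, ?_, ?_⟩
  · calc g * (q * c)⁻¹ * z * (g * (q * c)⁻¹)⁻¹ = g * ((q * c)⁻¹ * z * (q * c)) * g⁻¹ := by group
      _ = u := by rw [mul_assoc (q * c)⁻¹, ← mem_Cz.1 hqc, inv_mul_cancel_left, hg1]
  · rw [← mul_inv_eq_iff_eq_mul]
    calc g * (q * c)⁻¹ * x * (g * (q * c)⁻¹)⁻¹
        = g * ((q * c)⁻¹ * (q * (c * x' * c⁻¹) * q⁻¹) * (q * c)) * g⁻¹ := by rw [he]; group
      _ = g * x' * g⁻¹ := by group
      _ = x := by rw [hx']; group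

end Frame

end Three

end CfsgLib.Small.ConTwo
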