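import Cfsg.Agent.Lib.Small.ConTwo.ThreeModel
import Cfsg.Agent.Lib.ThreeTransp.LargeFitting
import Cfsg.Agent.Lib.ThreeTransp.LargeQuotient

/-!
The quotient of the centraliser of the element of order three by the group it generates has an
involution centraliser of Suzuki type, with a distinguished element of order three in it.
-/

set_option autoImplicit false
set_option maxRecDepth 100000
set_option linter.style.haveILetI false

namespace CfsgLib.Small.ConTwo.Three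

open Equiv
open scoped commutatorElement

theorem em_nondeg : ∀ y : Fin 64, (∀ x, bl (em y) (em x) = false) → y = 0 := by decide +kernel

theorem em_pair : bl (em 1) (em 8) = true ∧ em 1 = 68 ∧ em 8 = 140 ∧
    (∃ v, bl v 136 = false ∧ bl v 76 = false ∧ vadd (tr 68 (tr 140 v)) v = 68) ∧
    (∃ v, bl v 136 = false ∧ bl v 76 = false ∧ vadd (tr 68 (tr 140 v)) v = 140) := by
  decide +kernel

/-- The second plane. -/
def P2 : List V8 := [0, 68, 140, vadd 68 140]

theorem P2_facts : (∀ v ∈ P2, ∀ w ∈ P2, vadd v w ∈ P2) ∧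
    (∀ v, vadd (tr 68 (tr 140 v)) v ∈ P2 ∧ vadd (tr 68 (tr 140 (tr 68 (tr 140 v)))) v ∈ P2) ∧
    P2.Nodup ∧ ∀ v ∈ P2, bl v 136 = false ∧ bl v 76 = false :=
  ⟨by decide +kernel, by decide +kernel, by decide +kernel, by decide +kernel⟩

open Subgroup in
theorem extraspecial_congr {E E' : Type*} [Group E] [Group E'] {p : ℕ} (e : E ≃* E')
    (h : Cfsg.IsExtraspecial p E) : Cfsg.IsExtraspecial p E' := by
  obtain ⟨⟨hp, hf, hc⟩, hz⟩ := h
  have hcz : (center E).map e.toMonoidHom = center E' := by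
    ext y
    simp only [Subgroup.mem_map, mem_center_iff]
    constructor
    · rintro ⟨x, hx, rfl⟩ z
      obtain ⟨w, rfl⟩ := e.surjective z
      simp [← map_mul, hx w]
    · intro hy
      exact ⟨e.symm y, fun w => e.injective (by simp [hy (e w)]), by simp⟩
  have hcc : (commutator E).map e.toMonoidHom = commutator E' := by
    rw [commutator_def, map_commutator, Subgroup.map_top_of_surjective _ e.surjective, commutator_def]
  refine ⟨⟨hp.of_equiv e, ?_, by rw [← hcc, hc, hcz]⟩, ?_⟩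
  · rw [← hcz, ← hf]
    ext y
    obtain ⟨x, rfl⟩ := e.surjective y
    rw [show e x = e.toMonoidHom x from rfl, mem_map_iff_mem e.injective,
      CfsgLib.PGroups.mem_frattini_iff, CfsgLib.PGroups.mem_frattini_iff]
    constructor
    · intro h M hM
      exact h (M.map e.toMonoidHom) ((e.mapSubgroup.isCoatom_iff M).2 hM) |> (mem_map_iff_mem e.injective).1
    · intro h M hM
      have hM' : IsCoatom (M.comap e.toMonoidHom) := by
        refine (e.mapSubgroup.isCoatom_iff _).1 ?_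
        show IsCoatom ((M.comap e.toMonoidHom).map e.toMonoidHom)
        rwa [map_comap_eq_self_of_surjective e.surjective]
      exact h _ hM'
  · rw [← hcz, card_map_of_injective e.injective, hz]

/-- A quotient of the centraliser by the powers of the element. -/
structure Cover {G : Type*} [Group G] (x : G) {K : Type*} [Group K]
    (ψ : Subgroup.centralizer ({x} : Set G) →* K) : Prop where
  surj : Function.Surjective ψ
  ker : ∀ h, ψ h = 1 ↔ (h : G) ∈ Subgroup.zpowers x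

namespace Frame

variable {G : Type*} [Group G] {z : G} {Q : Subgroup G} {f : G → V8} {ρ : Cz z →* Perm V8}
  {x : G} (A : Frame z Q f ρ x) {K : Type*} [Group K]
  {ψ : Subgroup.centralizer ({x} : Set G) →* K} (hψ : Cover x ψ)

include A

theorem zmem : z ∈ Subgroup.centralizer ({x} : Set G) :=
  Subgroup.mem_centralizer_singleton_iff.2 A.xz.symm

omit A in
/-- The image of `z`. -/
def zK {z : G} (ψ : Subgroup.centralizer ({x} : Set G) →* K)
    (h : z ∈ Subgroup.centralizer ({x} : Set G)) : K := ψ ⟨z, h⟩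

theorem pow_cases {h : G} (hh : h ∈ Subgroup.zpowers x) : h = 1 ∨ h = x ∨ h = x ^ 2 := by
  obtain ⟨i, rfl⟩ := Subgroup.mem_zpowers_iff.1 hh
  have h3 : x ^ (3 : ℤ) = 1 := by
    rw [show (3 : ℤ) = ((3 : ℕ) : ℤ) from rfl, zpow_natCast, A.cube]
  have he : x ^ i = x ^ (i % 3) := by
    conv_lhs => rw [← Int.ediv_mul_add_emod i 3, zpow_add, mul_comm, zpow_mul, h3, one_zpow, one_mul]
  have h0 : 0 ≤ i % 3 := Int.emod_nonneg _ (by norm_num)
  have h2 : i % 3 < 3 := Int.emod_lt_of_pos _ (by norm_num)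
  rw [he]
  interval_cases i % 3
  · exact Or.inl (zpow_zero x)
  · exact Or.inr (Or.inl (zpow_one x))
  · exact Or.inr (Or.inr (by rw [show (2 : ℤ) = ((2 : ℕ) : ℤ) from rfl, zpow_natCast]))

theorem pow_sq_one {h : G} (hh : h ∈ Subgroup.zpowers x) (h2 : h * h = 1) : h = 1 := by
  rcases A.pow_cases hh with rfl | rfl | rfl
  · rfl
  · calc h = h * h * h * (h * h)⁻¹ := by group
      _ = 1 := by rw [show h * h * h = h ^ 3 by simp [pow_succ, mul_assoc], A.cube, h2, inv_one, mul_one]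
  · calc x ^ 2 = x ^ 2 * x ^ 2 * x ^ 2 * (x ^ 2 * x ^ 2)⁻¹ := by group
      _ = 1 := by
        rw [show x ^ 2 * x ^ 2 * x ^ 2 = (x ^ 3) ^ 2 by group, A.cube, h2, inv_one, one_pow,
          mul_one]

theorem pow_inter_Q {h : G} (hh : h ∈ Subgroup.zpowers x) (hq : h ∈ Q) : h = 1 := by
  refine A.M.cube_mem_Q ?_ hq
  obtain ⟨i, rfl⟩ := Subgroup.mem_zpowers_iff.1 hh
  rw [← zpow_natCast (x ^ i) 3, ← zpow_mul, mul_comm, zpow_mul, zpow_natCast, A.cube, one_zpow]

omit A in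
/-- The centraliser of `x` in the centraliser of `z`. -/
def CH (z x : G) : Subgroup (Subgroup.centralizer ({x} : Set G)) :=
  (Cz z).subgroupOf (Subgroup.centralizer ({x} : Set G))

omit A in
theorem CH_mem {x : G} (c : CH z x) :
    ((c : Subgroup.centralizer ({x} : Set G)) : G) ∈ Cz z := c.2

omit A in
/-- Its map into the centraliser of the image of `z`. -/
def phi (ψ : Subgroup.centralizer ({x} : Set G) →* K)
    (h : z ∈ Subgroup.centralizer ({x} : Set G)) : CH z x →* Cz (G := K) (zK ψ h) :=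
  (ψ.comp (CH z x).subtype).codRestrict _ fun c => mem_Cz.2 (by
    show ψ c * zK ψ h = zK ψ h * ψ c
    rw [zK, ← map_mul, ← map_mul]
    exact congrArg ψ (Subtype.ext (mem_Cz.1 (CH_mem c))))

theorem mem_C0_of_CH (c : CH z x) : ρ ⟨(c : Subgroup.centralizer ({x} : Set G)), (CH_mem c)⟩ ∈ C0 := by
  refine mem_C0.2 ⟨A.M.range_le ⟨_, rfl⟩, ?_⟩
  refine ((Img.mk' (ρ := ρ) (CH_mem c)).mul A.img).unique ?_
  rw [Subgroup.mem_centralizer_singleton_iff.1 (c : Subgroup.centralizer ({x} : Set G)).2]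
  exact A.img.mul (Img.mk' (CH_mem c))

/-- The action on the coordinates. -/
def rho1 : CH z x →* Perm (Fin 64) :=
  res.comp (MonoidHom.codRestrict
    (MonoidHom.mk' (fun c : CH z x => ρ ⟨(c : Subgroup.centralizer ({x} : Set G)), (CH_mem c)⟩)
      fun a b => map_mul ρ ⟨((a : Subgroup.centralizer ({x} : Set G)) : G), CH_mem a⟩
        ⟨((b : Subgroup.centralizer ({x} : Set G)) : G), CH_mem b⟩) C0 A.mem_C0_of_CH)

omit A in
theorem res_pow (k : ℕ) (h : pi0 ^ k ∈ C0) : res ⟨pi0 ^ k, h⟩ = 1 := Equiv.ext fun v => by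
  show prj ((pi0 ^ k) (em v)) = v
  have hk : ∀ n : ℕ, (pi0 ^ n) (em v) = em v := fun n => by
    induction n with
    | zero => rfl
    | succ m ih => rw [pow_succ, Perm.mul_apply, pi0_em]; exact ih
  rw [hk, (em_facts v).2.1]

theorem rho1_apply {c : CH z x} {π : Perm V8}
    (h : Img ρ ((c : Subgroup.centralizer ({x} : Set G)) : G) π) (hπ : π ∈ C0) :
    A.rho1 c = res ⟨π, hπ⟩ :=
  congrArg res (Subtype.ext ((Img.mk' (ρ := ρ) (CH_mem c)).unique h))

theorem rho1_conj (c : CH z x) {q : G} (hq : q ∈ Q) (hqx : q * x = x * q) :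
    A.rho1 c (prj (f q)) =
      prj (f ((c : Subgroup.centralizer ({x} : Set G)) * q *
        ((c : Subgroup.centralizer ({x} : Set G)) : G)⁻¹)) := by
  have he : em (prj (f q)) = f q := pi0_fix.1 ((A.M.fix_iff A.img A.cube hq).1 hqx.symm)
  rw [A.M.img_conj (Img.mk' (CH_mem c)) hq, A.rho1_apply (Img.mk' (CH_mem c)) (A.mem_C0_of_CH c), res_apply, he]

theorem rho1_ker {c : CH z x} (h : A.rho1 c = 1) :
    ∃ k : ℕ, ((c : Subgroup.centralizer ({x} : Set G)) : G) * (x ^ k)⁻¹ ∈ Q := by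
  obtain ⟨k, hk⟩ := res_ker (π := ⟨_, A.mem_C0_of_CH c⟩) h
  refine ⟨k, A.M.img_one_mem ?_⟩
  have h1 := (Img.mk' (ρ := ρ) (CH_mem c)).mul (A.img.pow k).inv
  rwa [show ρ ⟨_, (CH_mem c)⟩ = pi0 ^ k from hk, mul_inv_cancel] at h1

theorem rho1_pow {c : CH z x} {k : ℕ}
    (h : ((c : Subgroup.centralizer ({x} : Set G)) : G) * (x ^ k)⁻¹ ∈ Q) : A.rho1 c = 1 := by
  have h1 := (A.M.img_q h).mul (A.img.pow k)
  rw [inv_mul_cancel_right, one_mul] at h1
  rw [A.rho1_apply h1 (pow_mem (mem_C0.2 ⟨pi0_mem, rfl⟩) k)]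
  exact res_pow k _

theorem phi_surj (hψ : Cover x ψ) : Function.Surjective (phi ψ A.zmem) := by
  rintro ⟨v, hv⟩
  obtain ⟨h, rfl⟩ := hψ.surj v
  have h1 : ψ (h * ⟨z, A.zmem⟩ * h⁻¹ * (⟨z, A.zmem⟩ : Subgroup.centralizer ({x} : Set G))⁻¹) = 1 := by
    simp only [map_mul, map_inv]
    rw [show ψ h * ψ ⟨z, A.zmem⟩ = ψ ⟨z, A.zmem⟩ * ψ h from mem_Cz.1 hv]
    group
  have h2 : (h : G) * z * (h : G)⁻¹ * z⁻¹ ∈ Subgroup.zpowers x := (hψ.ker _).1 h1
  have h3 : (h : G) * z * (h : G)⁻¹ * z⁻¹ = 1 := by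
    refine A.pow_sq_one h2 ?_
    set e := (h : G) * z * (h : G)⁻¹ * z⁻¹
    have hez : e * z = z * e := by
      rcases A.pow_cases h2 with he | he | he <;> rw [he]
      · rw [one_mul, mul_one]
      · exact A.xz
      · exact ((show Commute x z from A.xz).pow_left 2).eq
    calc e * e = e * e * (z * z) := by rw [A.M.zz, mul_one]
      _ = e * z * (e * z) := by rw [show e * z * (e * z) = e * (z * e) * z by group, ← hez]; group
      _ = (h : G) * (z * z) * (h : G)⁻¹ := by simp only [e]; group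
      _ = 1 := by rw [A.M.zz]; group
  rw [mul_inv_eq_one, mul_inv_eq_iff_eq_mul] at h3
  exact ⟨⟨h, mem_Cz.2 h3⟩, rfl⟩

include hψ

theorem phi_ker_le : (phi ψ A.zmem).ker ≤ A.rho1.ker := by
  intro c hc
  have h : ψ (c : Subgroup.centralizer ({x} : Set G)) = 1 :=
    congrArg Subtype.val (MonoidHom.mem_ker.1 hc)
  rcases A.pow_cases ((hψ.ker _).1 h) with e | e | e <;> refine MonoidHom.mem_ker.2 ?_
  · exact A.rho1_pow (k := 0) (by rw [e]; simp)
  · exact A.rho1_pow (k := 1) (by rw [e]; simp)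
  · exact A.rho1_pow (k := 2) (by rw [e]; simp)

/-- The action of the centraliser of the image of `z`. -/
noncomputable def rhoK : Cz (G := K) (zK ψ A.zmem) →* Perm (Fin 64) :=
  (phi ψ A.zmem).liftOfSurjective (A.phi_surj hψ) ⟨A.rho1, A.phi_ker_le hψ⟩

theorem rhoK_phi (c : CH z x) : A.rhoK hψ (phi ψ A.zmem c) = A.rho1 c :=
  MonoidHom.liftOfRightInverse_comp_apply _ _ _ ⟨A.rho1, A.phi_ker_le hψ⟩ c

theorem rhoK_range [Finite G] : (A.rhoK hψ).range = SixMinus.Om := by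
  refine le_antisymm ?_ fun σ hσ => ?_
  · rintro _ ⟨v, rfl⟩
    obtain ⟨c, rfl⟩ := A.phi_surj hψ v
    rw [A.rhoK_phi hψ]
    exact res_R A.M.half _ ⟨_, rfl⟩
  · obtain ⟨π, hπ, rfl⟩ := exists_res A.M.half hσ
    obtain ⟨c, hc, hcx⟩ := A.lift_C1 hπ (mem_C0.1 π.2).2
    let cH : CH z x := ⟨⟨c, Subgroup.mem_centralizer_singleton_iff.2 hcx⟩, hc.mem⟩
    refine ⟨phi ψ A.zmem cH, ?_⟩
    rw [A.rhoK_phi hψ]
    exact A.rho1_apply (c := cH) hc π.2

omit hψ

omit A in
/-- The part of `Q` centralising `x`. -/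
def Qx (Q : Subgroup G) (x : G) : Subgroup G := Q ⊓ Subgroup.centralizer {x}

theorem Qx_f {q : G} (hq : q ∈ Qx Q x) : em (prj (f q)) = f q :=
  pi0_fix.1 ((A.M.fix_iff A.img A.cube hq.1).1
    (Subgroup.mem_centralizer_singleton_iff.1 hq.2).symm)

theorem exists_Qx (v : Fin 64) : ∃ q ∈ Qx Q x, f q = em v := by
  obtain ⟨q, hq, hqf⟩ := A.M.f_surj (em v)
  exact ⟨q, ⟨hq, Subgroup.mem_centralizer_singleton_iff.2
    ((A.M.fix_iff A.img A.cube hq).2 (by rw [hqf, pi0_em])).symm⟩, hqf⟩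

/-- Elements of the centraliser in `Q` over a given set of coordinates. -/
theorem card_Qx_sub (S : Subgroup G) (hS : S ≤ Qx Q x) (hz : z ∈ S) (L : Finset (Fin 64))
    (hmem : ∀ q ∈ Qx Q x, q ∈ S ↔ prj (f q) ∈ L) : Nat.card S = L.card * 2 := by
  classical
  choose sv hsv using A.exists_Qx
  have hzx : z ∈ Qx Q x := hS hz
  have hsm : ∀ (v : Fin 64) (b : Bool), v ∈ L → sv v * zp z b ∈ S := by
    intro v b hv
    refine mul_mem ((hmem _ (hsv v).1).2 (by rw [(hsv v).2, (em_facts v).2.1]; exact hv)) ?_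
    cases b
    · exact one_mem S
    · exact hz
  have hf : ∀ (v : Fin 64) (b : Bool), f (sv v * zp z b) = em v := by
    intro v b
    cases b
    · rw [zp_false, mul_one, (hsv v).2]
    · rw [zp_true, A.M.f_mul_z (hsv v).1.1, (hsv v).2]
  let φ : L × Bool → S := fun p => ⟨_, hsm p.1 p.2 p.1.2⟩
  have hbij : Function.Bijective φ := by
    refine ⟨?_, ?_⟩
    · rintro ⟨⟨v, hv⟩, b⟩ ⟨⟨v', hv'⟩, b'⟩ h
      have h' : sv v * zp z b = sv v' * zp z b' := congrArg Subtype.val h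
      have hvv : v = v' := by
        rw [← (em_facts v).2.1, ← hf v b, h', hf, (em_facts v').2.1]
      subst hvv
      rw [A.M.zp_inj (mul_left_cancel h')]
    · rintro ⟨q, hq⟩
      have hqx := hS hq
      have hfq : f (sv (prj (f q))) = f q := by rw [(hsv _).2, A.Qx_f hqx]
      rcases A.M.f_eq (hsv _).1.1 hqx.1 hfq with e | e
      · exact ⟨(⟨_, (hmem q hqx).1 hq⟩, false),
          Subtype.ext (by show _ * zp z false = _; rw [zp_false, mul_one]; exact e.symm)⟩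
      · exact ⟨(⟨_, (hmem q hqx).1 hq⟩, true), Subtype.ext e.symm⟩
  rw [← Nat.card_congr (Equiv.ofBijective φ hbij), Nat.card_prod, Nat.card_eq_finsetCard]
  simp

theorem card_Qx : Nat.card (Qx Q x) = 128 := by
  have hz : z ∈ Qx Q x := ⟨A.M.z_mem, A.zmem⟩
  rw [A.card_Qx_sub _ le_rfl hz Finset.univ fun q hq => ⟨fun _ => Finset.mem_univ _, fun _ => hq⟩]
  rfl

theorem Qx_extra [Finite G] : Cfsg.IsExtraspecial 2 (Qx Q x) := by
  have hle : Qx Q x ≤ Q := inf_le_left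
  have hsq : ∀ a ∈ Q, a * a = 1 ∨ a * a = z := by
    intro a ha
    rw [A.M.sq_zp ha]
    cases qb (f a)
    · exact Or.inl rfl
    · exact Or.inr rfl
  refine (CfsgLib.ThreeTransp.isExtraspecial_of (z := z) (Qx Q x)
    (A.M.isPGroup.to_le hle) ⟨A.M.z_mem, A.zmem⟩ A.M.z_ne A.M.zz
    (fun e he => mem_Cz.1 (A.M.le he.1)) (fun a ha b hb => ?_) (fun a ha => hsq a ha.1)
    (fun d hd h => ?_) ?_).1
  · have h := A.M.comm hb.1 ha.1
    rw [h, show zp z (bl (f b) (f a)) * (b * a) * a⁻¹ * b⁻¹ = zp z (bl (f b) (f a)) by group]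
    cases bl (f b) (f a)
    · exact Or.inl rfl
    · exact Or.inr rfl
  · refine (A.M.f_ker d hd.1).1 ?_
    rw [← A.Qx_f hd, em_nondeg (prj (f d)) fun v => ?_, em_zero]
    obtain ⟨e, he, hef⟩ := A.exists_Qx v
    rw [A.Qx_f hd, ← hef]
    exact (A.M.commute_iff hd.1 he.1).1 (h e he)
  · obtain ⟨a, ha, haf⟩ := A.exists_Qx 1
    obtain ⟨b, hb, hbf⟩ := A.exists_Qx 8
    refine ⟨a, ha, b, hb, fun h => ?_⟩
    have h1 := (A.M.commute_iff ha.1 hb.1).1 h.symm
    rw [haf, hbf, em_pair.1] at h1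
    cases h1

omit A in
/-- An element of the centraliser in `Q`, as one of the centraliser of `z` and `x`. -/
def qCH (hle : Q ≤ Cz z) : Qx Q x →* CH z x where
  toFun q := ⟨⟨q, q.2.2⟩, hle q.2.1⟩
  map_one' := rfl
  map_mul' _ _ := rfl

include hψ

/-- The normal 2-subgroup of the centraliser of the image of `z`. -/
noncomputable def QK : Subgroup (Cz (G := K) (zK ψ A.zmem)) := (A.rhoK hψ).ker

instance : (A.QK hψ).Normal := MonoidHom.normal_ker _

theorem mem_QK (q : Qx Q x) : phi ψ A.zmem (qCH A.M.le q) ∈ A.QK hψ := by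
  rw [QK, MonoidHom.mem_ker, A.rhoK_phi hψ]
  exact A.rho1_pow (k := 0) (by simpa [qCH] using q.2.1)

theorem QK_bij : Function.Bijective (fun q : Qx Q x =>
    (⟨phi ψ A.zmem (qCH A.M.le q), A.mem_QK hψ q⟩ : A.QK hψ)) := by
  refine ⟨fun q q' h => ?_, ?_⟩
  · have h1 : ψ (qCH A.M.le q : CH z x) = ψ (qCH A.M.le q' : CH z x) :=
      congrArg (fun v : A.QK hψ => ((v : Cz (G := K) (zK ψ A.zmem)) : K)) h
    have h2 : ψ ((⟨q, q.2.2⟩ : Subgroup.centralizer ({x} : Set G))⁻¹ * ⟨q', q'.2.2⟩) = 1 := by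
      rw [map_mul, map_inv]
      exact inv_mul_eq_one.2 h1
    exact Subtype.ext (inv_mul_eq_one.1
      (A.pow_inter_Q ((hψ.ker _).1 h2) (mul_mem (inv_mem q.2.1) q'.2.1)))
  · rintro ⟨v, hv⟩
    obtain ⟨c, rfl⟩ := A.phi_surj hψ v
    rw [QK, MonoidHom.mem_ker, A.rhoK_phi hψ] at hv
    obtain ⟨k, hk⟩ := A.rho1_ker hv
    have hxm : x ^ k ∈ Subgroup.centralizer ({x} : Set G) :=
      Subgroup.mem_centralizer_singleton_iff.2 ((Commute.refl x).pow_left k).eq
    have hm : ((c : Subgroup.centralizer ({x} : Set G)) : G) * (x ^ k)⁻¹ ∈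
        Subgroup.centralizer ({x} : Set G) := mul_mem (c : Subgroup.centralizer ({x} : Set G)).2
      (inv_mem hxm)
    refine ⟨⟨_, hk, hm⟩, Subtype.ext (Subtype.ext ?_)⟩
    show ψ ⟨_, hm⟩ = ψ (c : Subgroup.centralizer ({x} : Set G))
    refine inv_mul_eq_one.1 ?_
    rw [← map_inv, ← map_mul, hψ.ker]
    show (((c : Subgroup.centralizer ({x} : Set G)) : G) * (x ^ k)⁻¹)⁻¹ *
      ((c : Subgroup.centralizer ({x} : Set G)) : G) ∈ Subgroup.zpowers x
    rw [mul_inv_rev, inv_inv, inv_mul_cancel_right]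
    exact Subgroup.npow_mem_zpowers x k

/-- The normal 2-subgroup is the part of `Q` centralising `x`. -/
noncomputable def eQK : Qx Q x ≃* A.QK hψ :=
  MulEquiv.mk' (Equiv.ofBijective _ (A.QK_bij hψ))
    fun a b => Subtype.ext (map_mul ((phi ψ A.zmem).comp (qCH A.M.le)) a b)

theorem card_QK : Nat.card (A.QK hψ) = 2 ^ 7 := by
  rw [← Nat.card_congr (A.eQK hψ).toEquiv, A.card_Qx]
  norm_num

theorem QK_extra [Finite G] : Cfsg.IsExtraspecial 2 (A.QK hψ) :=
  extraspecial_congr (A.eQK hψ) A.Qx_extra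

theorem exists_quot [Finite G] : Nonempty (Cz (G := K) (zK ψ A.zmem) ⧸ A.QK hψ ≃*
    Cfsg.Omega (ZMod 2) (Cfsg.quadFormMinus 2 (ZMod 2) 1 1)) := by
  obtain ⟨e⟩ := SixMinus.omega_iso
  exact ⟨(QuotientGroup.quotientKerEquivRange (A.rhoK hψ)).trans
    ((MulEquiv.subgroupCongr (A.rhoK_range hψ)).trans e)⟩

theorem fstar_QK [Finite G] [Finite K] :
    Cfsg.generalizedFittingSubgroup (Cz (G := K) (zK ψ A.zmem)) = A.QK hψ := by
  refine CfsgLib.ThreeTransp.fstar_eq_of_quotient _ ?_ (fun v hv => ?_)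
    ((QuotientGroup.quotientKerEquivRange (A.rhoK hψ)).trans
      (MulEquiv.subgroupCongr (A.rhoK_range hψ))) SixMinus.Om_no_two
  · exact IsPGroup.of_equiv (A.M.isPGroup.to_le inf_le_left) (A.eQK hψ)
  obtain ⟨c, rfl⟩ := A.phi_surj hψ v
  rw [QK, MonoidHom.mem_ker, A.rhoK_phi hψ]
  refine Equiv.ext fun u => ?_
  obtain ⟨q, hq, hqf⟩ := A.exists_Qx u
  have h1 := Subgroup.mem_centralizer_iff.1 hv _ (A.mem_QK hψ ⟨q, hq⟩)
  rw [← map_mul, ← map_mul] at h1
  have hqq : prj (f q) = u := by rw [hqf, (em_facts u).2.1]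
  rw [← hqq, A.rho1_conj c hq.1 (Subgroup.mem_centralizer_singleton_iff.1 hq.2)]
  set a := (c : Subgroup.centralizer ({x} : Set G)) with ha
  have h2 : ψ ((⟨q, hq.2⟩ * a)⁻¹ * (a * ⟨q, hq.2⟩)) = 1 := by
    rw [map_mul, map_inv]
    exact inv_mul_eq_one.2 (congrArg Subtype.val h1)
  have h3 : (q * (a : G))⁻¹ * ((a : G) * q) = 1 := A.pow_inter_Q ((hψ.ker _).1 h2) (by
    show (q * (a : G))⁻¹ * ((a : G) * q) ∈ Q
    rw [show (q * (a : G))⁻¹ * ((a : G) * q) = (a : G)⁻¹ * q⁻¹ * (a : G)⁻¹⁻¹ * q by group]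
    exact mul_mem (A.M.normal _ (inv_mem (CH_mem c)) _ (inv_mem hq.1)) hq.1)
  rw [inv_mul_eq_one] at h3
  rw [← h3, mul_inv_cancel_right]
  rfl

theorem zK_order [Finite G] : orderOf (zK ψ A.zmem) = 2 := by
  haveI : Fact (Nat.Prime 2) := ⟨Nat.prime_two⟩
  refine orderOf_eq_prime ?_ fun h => A.M.z_ne (A.pow_inter_Q ((hψ.ker _).1 h) A.M.z_mem)
  rw [zK, sq, ← map_mul]
  exact (congrArg ψ (Subtype.ext A.M.zz)).trans (map_one ψ)

theorem nwc_K [Finite G] : ∃ g : K, (∃ hq : g * zK ψ A.zmem * g⁻¹ ∈ Cz (G := K) (zK ψ A.zmem),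
    (⟨g * zK ψ A.zmem * g⁻¹, hq⟩ : Cz (G := K) (zK ψ A.zmem)) ∈ A.QK hψ) ∧
    g * zK ψ A.zmem * g⁻¹ ≠ zK ψ A.zmem := by
  obtain ⟨k, u, hu, hfu, hk, hkx⟩ := A.exists_move
  have hux : u * x = x * u := by
    rw [← hk]
    exact ((((show Commute k x from hkx)).mul_left (show Commute x z from A.xz).symm).mul_left
      (show Commute k x from hkx).inv_left).eq
  let kH : Subgroup.centralizer ({x} : Set G) := ⟨k, Subgroup.mem_centralizer_singleton_iff.2 hkx⟩
  let uQ : Qx Q x := ⟨u, hu, Subgroup.mem_centralizer_singleton_iff.2 hux⟩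
  have he : ψ kH * zK ψ A.zmem * (ψ kH)⁻¹ = phi ψ A.zmem (qCH A.M.le uQ) := by
    show ψ kH * ψ ⟨z, A.zmem⟩ * _ = _
    rw [← map_inv, ← map_mul, ← map_mul]
    exact congrArg ψ (Subtype.ext hk)
  refine ⟨ψ kH, ⟨he.symm ▸ (phi ψ A.zmem (qCH A.M.le uQ)).2, ?_⟩, fun h => ?_⟩
  · convert A.mem_QK hψ uQ using 1
    exact Subtype.ext he
  · rw [he] at h
    have h1 : ψ ((⟨u, uQ.2.2⟩ : Subgroup.centralizer ({x} : Set G))⁻¹ * ⟨z, A.zmem⟩) = 1 := by
      rw [map_mul, map_inv]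
      exact inv_mul_eq_one.2 h
    have h2 := inv_mul_eq_one.1
      (A.pow_inter_Q ((hψ.ker _).1 h1) (mul_mem (inv_mem hu) A.M.z_mem))
    rw [show u = z from h2, A.M.f_z] at hfu
    exact pt_facts.2.1 hfu.symm

/-- The image of the second element of order three generates a group with eight commutators. -/
theorem comm_QK [Finite G] {y : G} (hy : Img ρ y pi2) (hy3 : y ^ 3 = 1) (hyx : y * x = x * y) :
    ∃ Y : Subgroup (Cz (G := K) (zK ψ A.zmem)), Nat.card Y = 3 ∧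
      Nat.card ↥⁅A.QK hψ, Y⁆ = 8 ∧ ¬ IsMulCommutative ↥⁅A.QK hψ, Y⁆ ∧
      Y.map (Cz (G := K) (zK ψ A.zmem)).subtype =
        Subgroup.zpowers (ψ ⟨y, Subgroup.mem_centralizer_singleton_iff.2 hyx⟩) := by
  classical
  haveI : Fact (Nat.Prime 3) := ⟨Nat.prime_three⟩
  haveI : Finite K := Finite.of_surjective ψ hψ.surj
  let yc : CH z x := ⟨⟨y, Subgroup.mem_centralizer_singleton_iff.2 hyx⟩, hy.mem⟩
  let Y : Subgroup (Cz (G := K) (zK ψ A.zmem)) := Subgroup.zpowers (phi ψ A.zmem yc)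
  have hyx' : y ∉ Subgroup.zpowers x := by
    intro h
    have hfix : ∀ v, pi0 (em v) = em v := pi0_em
    have h140 : pi2 (em 8) ≠ em 8 := by
      show tr 68 (tr 140 (em 8)) ≠ em 8
      decide +kernel
    rcases A.pow_cases h with e | e | e
    · exact pi2_ne (hy.unique (e ▸ Img.one))
    · exact h140 (by rw [hy.unique (e ▸ A.img), hfix])
    · exact h140 (by rw [hy.unique (e ▸ A.img.pow 2), pow_two, Perm.mul_apply, hfix, hfix])
  have hY3 : Nat.card Y = 3 := by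
    rw [Nat.card_zpowers]
    refine orderOf_eq_prime ?_ fun h => hyx' ((hψ.ker _).1 (congrArg Subtype.val h))
    rw [← map_pow, show yc ^ 3 = 1 from Subtype.ext (Subtype.ext hy3), map_one]
  -- the elements over the second plane
  let P : Subgroup G :=
    { carrier := {q | q ∈ Qx Q x ∧ f q ∈ P2}
      one_mem' := ⟨one_mem _, by rw [A.M.f_one]; decide⟩
      mul_mem' := fun {a b} ha hb => ⟨mul_mem ha.1 hb.1, by
        rw [A.M.f_mul a ha.1.1 b hb.1.1]; exact P2_facts.1 _ ha.2 _ hb.2⟩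
      inv_mem' := fun {a} ha => ⟨inv_mem ha.1, by rw [A.M.f_inv ha.1.1]; exact ha.2⟩ }
  have hPle : P ≤ Qx Q x := fun q hq => hq.1
  let S : Subgroup (Cz (G := K) (zK ψ A.zmem)) :=
    (P.subgroupOf (Qx Q x)).map ((phi ψ A.zmem).comp (qCH A.M.le))
  have hS8 : Nat.card S = 8 := by
    have hinj : Function.Injective ((phi ψ A.zmem).comp (qCH A.M.le)) := fun a b h =>
      (A.QK_bij hψ).1 (Subtype.ext h)
    rw [Subgroup.card_map_of_injective hinj,
      Nat.card_congr (Subgroup.subgroupOfEquivOfLe hPle).toEquiv,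
      A.card_Qx_sub P hPle ⟨⟨A.M.z_mem, A.zmem⟩, by rw [A.M.f_z]; decide⟩
        (P2.map prj).toFinset fun q hq => ?_]
    · decide +kernel
    · refine ⟨fun h => List.mem_toFinset.2 (List.mem_map_of_mem h.2), fun h => ⟨hq, ?_⟩⟩
      obtain ⟨v, hv, he⟩ := List.mem_map.1 (List.mem_toFinset.1 h)
      obtain ⟨h1, h2⟩ := P2_facts.2.2.2 v hv
      rwa [← A.Qx_f hq, ← he, (perp_iff v).1 ⟨h1, h2⟩]
  -- the commutators with `y` and its square
  have hcomm : ∀ (q : Qx Q x) (c : CH z x) (π : Perm V8),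
      Img ρ ((c : Subgroup.centralizer ({x} : Set G)) : G) π →
      ∃ r : Qx Q x, f r = vadd (π (f q)) (f q) ∧
        ⁅phi ψ A.zmem (qCH A.M.le q), phi ψ A.zmem c⁆ =
          phi ψ A.zmem (qCH A.M.le r) := by
    intro q c π hc
    set a := ((c : Subgroup.centralizer ({x} : Set G)) : G)
    have hr : (q : G) * (a * (q : G)⁻¹ * a⁻¹) ∈ Qx Q x :=
      mul_mem q.2 ⟨A.M.normal _ (CH_mem c) _ (Q.inv_mem q.2.1),
        mul_mem (mul_mem (c : Subgroup.centralizer ({x} : Set G)).2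
          ((Subgroup.centralizer ({x} : Set G)).inv_mem q.2.2))
          ((Subgroup.centralizer ({x} : Set G)).inv_mem (c : Subgroup.centralizer ({x} : Set G)).2)⟩
    refine ⟨⟨_, hr⟩, ?_, ?_⟩
    · show f ((q : G) * (a * (q : G)⁻¹ * a⁻¹)) = _
      rw [A.M.f_mul _ q.2.1 _ (A.M.normal _ (CH_mem c) _ (inv_mem q.2.1)),
        A.M.img_conj hc (inv_mem q.2.1), A.M.f_inv q.2.1, vadd_comm]
    · rw [← map_commutatorElement]
      refine congrArg _ (Subtype.ext (Subtype.ext ?_))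
      show (q : G) * a * (q : G)⁻¹ * a⁻¹ = (q : G) * (a * (q : G)⁻¹ * a⁻¹)
      group
  have hle : ⁅A.QK hψ, Y⁆ ≤ S := by
    refine Subgroup.commutator_le.2 fun v hv w hw => ?_
    obtain ⟨q, hq⟩ := (A.QK_bij hψ).2 ⟨v, hv⟩
    obtain ⟨k, rfl⟩ := mem_powers_iff_mem_zpowers.2 hw
    have hk : Img ρ (((yc ^ k : CH z x) : Subgroup.centralizer ({x} : Set G)) : G) (pi2 ^ k) :=
      hy.pow k
    obtain ⟨r, hr, he⟩ := hcomm q (yc ^ k) _ hk
    rw [show v = phi ψ A.zmem (qCH A.M.le q) from (congrArg Subtype.val hq).symm]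
    show ⁅_, (phi ψ A.zmem yc) ^ k⁆ ∈ S
    rw [← map_pow, he]
    refine Subgroup.mem_map_of_mem ((phi ψ A.zmem).comp (qCH A.M.le))
      (show r ∈ P.subgroupOf (Qx Q x) from ⟨r.2, ?_⟩)
    show f (r : G) ∈ P2
    rw [hr, pow_eq_pow_mod k pi2_cube]
    have hk3 : k % 3 < 3 := Nat.mod_lt _ (by norm_num)
    interval_cases k % 3
    · rw [pow_zero, Perm.one_apply, vadd_self]; decide
    · rw [pow_one]; exact (P2_facts.2.1 _).1
    · rw [pow_two, Perm.mul_apply]; exact (P2_facts.2.1 _).2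
  have hgen : ∀ w : V8, w = 68 ∨ w = 140 → ∃ r : Qx Q x, f r = w ∧
      phi ψ A.zmem (qCH A.M.le r) ∈ ⁅A.QK hψ, Y⁆ := by
    intro w hw
    obtain ⟨v, h1, h2, hv⟩ : ∃ v, bl v 136 = false ∧ bl v 76 = false ∧
        vadd (tr 68 (tr 140 v)) v = w := by
      rcases hw with rfl | rfl
      · exact em_pair.2.2.2.1
      · exact em_pair.2.2.2.2
    obtain ⟨q, hq, hqf⟩ := A.exists_Qx (prj v)
    obtain ⟨r, hr, he⟩ := hcomm ⟨q, hq⟩ yc _ hy
    refine ⟨r, ?_, ?_⟩
    · rw [hr]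
      show vadd (pi2 (f q)) (f q) = w
      rw [hqf, (perp_iff v).1 ⟨h1, h2⟩]
      exact hv
    · rw [← he]
      exact Subgroup.commutator_mem_commutator (A.mem_QK hψ ⟨q, hq⟩) (Subgroup.mem_zpowers _)
  obtain ⟨a, ha, haK⟩ := hgen 68 (Or.inl rfl)
  obtain ⟨b, hb, hbK⟩ := hgen 140 (Or.inr rfl)
  have hba : (b : G) * a = z * ((a : G) * b) := by
    rw [A.M.comm a.2.1 b.2.1, ha, hb, plane_facts.2.2.2.2.2.1, zp_true]
  have hinj : ∀ r r' : Qx Q x, phi ψ A.zmem (qCH A.M.le r) = phi ψ A.zmem (qCH A.M.le r') →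
      r = r' := fun r r' h => (A.QK_bij hψ).1 (Subtype.ext h)
  have hz : phi ψ A.zmem (qCH A.M.le ⟨z, A.M.z_mem, A.zmem⟩) ∈ ⁅A.QK hψ, Y⁆ := by
    have h : (⟨z, A.M.z_mem, A.zmem⟩ : Qx Q x) = (b * a) * (a * b)⁻¹ := Subtype.ext (by
      show z = (b : G) * a * ((a : G) * b)⁻¹
      rw [hba, mul_inv_cancel_right])
    rw [h]
    simp only [map_mul, map_inv]
    exact mul_mem (mul_mem hbK haK) (inv_mem (mul_mem haK hbK))
  have hge : S ≤ ⁅A.QK hψ, Y⁆ := by
    rintro _ ⟨r, hr, rfl⟩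
    have hr2 : f r ∈ P2 := hr.2
    have key : ∀ r' : Qx Q x, f r = f r' → phi ψ A.zmem (qCH A.M.le r') ∈ ⁅A.QK hψ, Y⁆ →
        phi ψ A.zmem (qCH A.M.le r) ∈ ⁅A.QK hψ, Y⁆ := by
      intro r' he hr'
      rcases A.M.f_eq r'.2.1 r.2.1 he.symm with e | e
      · rwa [show r = r' from Subtype.ext e]
      · rw [show r = r' * ⟨z, A.M.z_mem, A.zmem⟩ from Subtype.ext e]
        simp only [map_mul]
        exact mul_mem hr' hz
    simp only [P2, List.mem_cons, List.not_mem_nil, or_false] at hr2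
    rcases hr2 with e | e | e | e
    · exact key 1 (e.trans A.M.f_one.symm) (by rw [map_one, map_one]; exact one_mem _)
    · exact key a (e.trans ha.symm) haK
    · exact key b (e.trans hb.symm) hbK
    · exact key (a * b) (e.trans (by rw [Subgroup.coe_mul, A.M.f_mul _ a.2.1 _ b.2.1, ha, hb]))
        (by rw [map_mul, map_mul]; exact mul_mem haK hbK)
  refine ⟨Y, hY3, by rw [le_antisymm hle hge, hS8], fun hcm => ?_, ?_⟩
  · have h := congrArg Subtype.val (hcm.is_comm.comm (⟨_, hbK⟩ : ↥⁅A.QK hψ, Y⁆) ⟨_, haK⟩)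
    simp only [Subgroup.coe_mul, ← map_mul] at h
    have h2 : (b : G) * a = a * b := congrArg Subtype.val (hinj _ _ h)
    rw [hba, mul_eq_right] at h2
    exact A.M.z_ne h2
  · exact MonoidHom.map_zpowers _ _

end Frame

end CfsgLib.Small.ConTwo.Three
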