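import Cfsg.Agent.Lib.Small.ConTwo.ThreeQuot
import Cfsg.Agent.Lib.Spor.Suz.Simple
import Cfsg.Prelude.Def_CaseTheorems
import Cfsg.Prelude.Def_Spor_Suz

/-!
The centraliser of the element of order three is quasisimple over the Suzuki group, given the
recognition of the latter and the structure of the centraliser of an element of order three in it.
-/

set_option autoImplicit false
set_option maxRecDepth 100000
set_option linter.style.haveILetI false

namespace CfsgLib.Small.ConTwo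

open Equiv
open scoped commutatorElement

universe u

namespace Three

/-- The recognition of the Suzuki group by an involution centraliser. -/
def Recog : Prop :=
  ∀ (K : Type u) [Group K] [Finite K] (z : K), orderOf z = 2 →
    ∀ (Q : Subgroup (Cz z)) [Q.Normal], Cfsg.generalizedFittingSubgroup (Cz z) = Q →
    Cfsg.IsExtraspecial 2 Q → Nat.card Q = 2 ^ 7 →
    Nonempty (Cz z ⧸ Q ≃* Cfsg.Omega (ZMod 2) (Cfsg.quadFormMinus 2 (ZMod 2) 1 1)) →
    (∃ g : K, (∃ hq : g * z * g⁻¹ ∈ Cz z, (⟨g * z * g⁻¹, hq⟩ : Cz z) ∈ Q) ∧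
      g * z * g⁻¹ ≠ z) → Cfsg.Spor.IsoSuz K

/-- The quasisimple centraliser of an element of order three in a group of Suzuki type. -/
def Cent3 : Prop :=
  ∀ (K : Type u) [Group K] [Finite K] (z : K), orderOf z = 2 →
    ∀ (Q : Subgroup (Cz z)) [Q.Normal], Cfsg.generalizedFittingSubgroup (Cz z) = Q →
    Cfsg.IsExtraspecial 2 Q → Nat.card Q = 2 ^ 7 →
    Nonempty (Cz z ⧸ Q ≃* Cfsg.Omega (ZMod 2) (Cfsg.quadFormMinus 2 (ZMod 2) 1 1)) →
    (∃ g : K, (∃ hq : g * z * g⁻¹ ∈ Cz z, (⟨g * z * g⁻¹, hq⟩ : Cz z) ∈ Q) ∧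
      g * z * g⁻¹ ≠ z) →
    ∀ Y : Subgroup (Cz z), Nat.card Y = 3 → Nat.card ↥⁅Q, Y⁆ = 8 →
      ¬ IsMulCommutative ↥⁅Q, Y⁆ →
      Cfsg.IsQuasisimple
        ↥(Subgroup.centralizer ((Y.map (Cz z).subtype : Subgroup K) : Set K))

theorem centralizer_zpowers {G : Type*} [Group G] (x : G) :
    Subgroup.centralizer ((Subgroup.zpowers x : Subgroup G) : Set G) =
      Subgroup.centralizer {x} := by
  rw [Subgroup.zpowers_eq_closure, Subgroup.centralizer_closure]

theorem conj_commutator_le {G : Type*} [Group G] {D : Subgroup G} {s : G}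
    (h : ∀ t ∈ D, s * t * s⁻¹ ∈ D) {k : G} (hk : k ∈ ⁅D, D⁆) : s * k * s⁻¹ ∈ ⁅D, D⁆ := by
  have h1 : D.map (MulAut.conj s).toMonoidHom ≤ D := by
    rintro _ ⟨t, ht, rfl⟩
    exact h t ht
  have h2 : MulAut.conj s k ∈ (⁅D, D⁆).map (MulAut.conj s).toMonoidHom :=
    Subgroup.mem_map_of_mem _ hk
  rw [Subgroup.map_commutator] at h2
  exact Subgroup.commutator_mono h1 h1 h2

variable {G : Type u} [Group G] [Finite G] {z : G} {Q : Subgroup G} {f : G → V8}
  {ρ : Cz z →* Perm V8} {x : G}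

/-- The two conclusions. -/
theorem main_of_frame (hRec : Recog.{u}) (hCent : Cent3.{u}) (A : Frame z Q f ρ x)
    (N : Subgroup (Subgroup.centralizer ({x} : Set G))) [N.Normal]
    (hN : ∀ h : Subgroup.centralizer ({x} : Set G), h ∈ N ↔ (h : G) ∈ Subgroup.zpowers x) :
    Cfsg.IsQuasisimple (Subgroup.centralizer ({x} : Set G)) ∧
      Cfsg.Spor.IsoSuz (Subgroup.centralizer ({x} : Set G) ⧸ N) := by
  let ψ := QuotientGroup.mk' N
  have hψ : Cover x ψ :=
    ⟨QuotientGroup.mk'_surjective N, fun h => (QuotientGroup.eq_one_iff h).trans (hN h)⟩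
  have hz2 : orderOf (Frame.zK ψ A.zmem) = 2 := A.zK_order hψ
  have hSuz : Cfsg.Spor.IsoSuz (Subgroup.centralizer ({x} : Set G) ⧸ N) :=
    hRec _ _ hz2 _ (A.fstar_QK hψ) (A.QK_extra hψ) (A.card_QK hψ) (A.exists_quot hψ)
      (A.nwc_K hψ)
  refine ⟨?_, hSuz⟩
  obtain ⟨eS⟩ := hSuz
  haveI : IsSimpleGroup Cfsg.Spor.Suz := CfsgLib.Spor.Suz.isSuz.1
  haveI : Nontrivial (Subgroup.centralizer ({x} : Set G) ⧸ N) := eS.toEquiv.nontrivial
  haveI hsimple : IsSimpleGroup (Subgroup.centralizer ({x} : Set G) ⧸ N) :=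
    IsSimpleGroup.isSimpleGroup_of_surjective eS.symm.toMonoidHom eS.symm.surjective
  have hna : ∃ a b : Subgroup.centralizer ({x} : Set G) ⧸ N, a * b ≠ b * a := by
    obtain ⟨y, hy, hy3, hyx⟩ := A.exists_x2
    obtain ⟨Y, -, -, hnc, -⟩ := A.comm_QK hψ hy hy3 hyx
    by_contra hne
    push Not at hne
    exact hnc ⟨⟨fun a b => Subtype.ext (Subtype.ext (hne _ _))⟩⟩
  have hKtop : commutator (Subgroup.centralizer ({x} : Set G) ⧸ N) = ⊤ := by
    refine (IsSimpleGroup.eq_bot_or_eq_top_of_normal _ inferInstance).resolve_left fun h => ?_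
    obtain ⟨a, b, hab⟩ := hna
    refine hab ?_
    have h1 : ⁅a, b⁆ ∈ commutator (Subgroup.centralizer ({x} : Set G) ⧸ N) :=
      Subgroup.commutator_mem_commutator (Subgroup.mem_top a) (Subgroup.mem_top b)
    rw [h, Subgroup.mem_bot, commutatorElement_eq_one_iff_mul_comm] at h1
    exact h1
  set H' := commutator (Subgroup.centralizer ({x} : Set G)) with hH'
  have hmap : H'.map ψ = ⊤ := by
    rw [hH', commutator_def, Subgroup.map_commutator,
      Subgroup.map_top_of_surjective _ hψ.surj, ← commutator_def, hKtop]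
  have hlift : ∀ h : Subgroup.centralizer ({x} : Set G), ∃ k ∈ H',
      (k : G)⁻¹ * (h : G) ∈ Subgroup.zpowers x := by
    intro h
    obtain ⟨k, hk, he⟩ : ψ h ∈ H'.map ψ := hmap ▸ Subgroup.mem_top _
    refine ⟨k, hk, ?_⟩
    have h1 := (hψ.ker (k⁻¹ * h)).1 (by rw [map_mul, map_inv, he, inv_mul_cancel])
    exact h1
  have hperfect : H' = ⊤ := by
    by_cases hx : (⟨x, Subgroup.mem_centralizer_singleton_iff.2 rfl⟩ :
        Subgroup.centralizer ({x} : Set G)) ∈ H'
    · refine eq_top_iff.2 fun h _ => ?_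
      obtain ⟨k, hk, hkh⟩ := hlift h
      obtain ⟨i, hi⟩ := Subgroup.mem_zpowers_iff.1 hkh
      have : h = k * ⟨x, Subgroup.mem_centralizer_singleton_iff.2 rfl⟩ ^ i := Subtype.ext (by
        rw [Subgroup.coe_mul, SubgroupClass.coe_zpow, hi, mul_inv_cancel_left])
      rw [this]
      exact mul_mem hk (zpow_mem hx i)
    exfalso
    have hfree : ∀ h : Subgroup.centralizer ({x} : Set G), h ∈ H' →
        (h : G) ∈ Subgroup.zpowers x → (h : G) = 1 := by
      intro h hh hhx
      rcases A.pow_cases hhx with e | e | e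
      · exact e
      · exact absurd ((Subtype.ext e : h = ⟨x, Subgroup.mem_centralizer_singleton_iff.2 rfl⟩) ▸ hh) hx
      · refine absurd ?_ hx
        have h4 : (⟨x, Subgroup.mem_centralizer_singleton_iff.2 rfl⟩ :
            Subgroup.centralizer ({x} : Set G)) = h * h := Subtype.ext (by
          show x = (h : G) * h
          rw [e, ← pow_add, show 2 + 2 = 3 + 1 from rfl, pow_add, A.cube, one_mul, pow_one])
        rw [h4]
        exact mul_mem hh hh
    obtain ⟨y, hy, hy3, hyx⟩ := A.exists_x2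
    obtain ⟨Y, hY3, hY8, hYnc, hYmap⟩ := A.comm_QK hψ hy hy3 hyx
    set yH : Subgroup.centralizer ({x} : Set G) :=
      ⟨y, Subgroup.mem_centralizer_singleton_iff.2 hyx⟩ with hyH
    have hq := hCent _ _ hz2 _ (A.fstar_QK hψ) (A.QK_extra hψ) (A.card_QK hψ) (A.exists_quot hψ)
      (A.nwc_K hψ) Y hY3 hY8 hYnc
    rw [hYmap, centralizer_zpowers] at hq
    set CK := Subgroup.centralizer ({ψ yH} : Set (Subgroup.centralizer ({x} : Set G) ⧸ N))
    have hyCK : ψ yH ∈ ⁅CK, CK⁆ := by
      have h1 : (commutator CK).map CK.subtype = ⁅CK, CK⁆ := by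
        rw [commutator_def, Subgroup.map_commutator, ← MonoidHom.range_eq_map,
          Subgroup.range_subtype]
      rw [← h1, hq.1.commutator_eq_top]
      exact ⟨⟨ψ yH, Subgroup.mem_centralizer_singleton_iff.2 rfl⟩, trivial, rfl⟩
    obtain ⟨k, hk, hky⟩ := hlift yH
    -- lifts of centralising elements centralise
    set CY := Subgroup.centralizer ({yH} : Set (Subgroup.centralizer ({x} : Set G)))
    have hCK : CK ≤ CY.map ψ := by
      intro v hv
      obtain ⟨h, rfl⟩ := hψ.surj v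
      refine ⟨h, Subgroup.mem_centralizer_singleton_iff.2 ?_, rfl⟩
      have h1 : ψ (h * yH * h⁻¹ * yH⁻¹) = 1 := by
        simp only [map_mul, map_inv]
        rw [Subgroup.mem_centralizer_singleton_iff.1 hv]
        group
      have h2 : h * yH * h⁻¹ * yH⁻¹ ∈ H' := by
        rw [hH', ← commutatorElement_def]
        exact Subgroup.commutator_mem_commutator (Subgroup.mem_top h) (Subgroup.mem_top yH)
      have h3 : h * yH * h⁻¹ * yH⁻¹ = 1 := Subtype.ext (hfree _ h2 ((hψ.ker _).1 h1))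
      rw [mul_inv_eq_one, mul_inv_eq_iff_eq_mul] at h3
      exact h3
    obtain ⟨m, hm, hmy⟩ : ψ yH ∈ (⁅CY, CY⁆).map ψ := by
      rw [Subgroup.map_commutator]
      exact Subgroup.commutator_mono hCK hCK hyCK
    have hmH : m ∈ H' := by
      rw [hH', commutator_def]
      exact Subgroup.commutator_mono le_top le_top hm
    have hkm : m = k := by
      have h1 : ψ (k⁻¹ * m) = 1 := by
        rw [map_mul, map_inv, hmy, ← map_inv, ← map_mul]
        exact (hψ.ker _).2 hky
      have h2 := hfree _ (mul_mem (inv_mem hk) hmH) ((hψ.ker _).1 h1)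
      exact (inv_mul_eq_one.1 (Subtype.ext h2 : k⁻¹ * m = 1)).symm
    subst hkm
    -- everything in the ambient group
    let D : Subgroup G := Subgroup.centralizer {x} ⊓ Subgroup.centralizer {y}
    let Hg : Subgroup G := H'.map (Subgroup.centralizer ({x} : Set G)).subtype
    have hmD : (m : G) ∈ ⁅D, D⁆ := by
      have h1 : (⁅CY, CY⁆).map (Subgroup.centralizer ({x} : Set G)).subtype ≤ ⁅D, D⁆ := by
        rw [Subgroup.map_commutator]
        have h2 : CY.map (Subgroup.centralizer ({x} : Set G)).subtype ≤ D := by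
          rintro _ ⟨c, hc, rfl⟩
          exact ⟨c.2, Subgroup.mem_centralizer_singleton_iff.2
            (congrArg Subtype.val (Subgroup.mem_centralizer_singleton_iff.1 hc))⟩
        exact Subgroup.commutator_mono h2 h2
      exact h1 ⟨m, hm, rfl⟩
    have hDH : ⁅D, D⁆ ≤ Hg := by
      have h1 : D = (D.subgroupOf (Subgroup.centralizer {x})).map
          (Subgroup.centralizer ({x} : Set G)).subtype :=
        (Subgroup.map_subgroupOf_eq_of_le inf_le_left).symm
      rw [h1, ← Subgroup.map_commutator]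
      exact Subgroup.map_mono (Subgroup.commutator_mono le_top le_top)
    have hgfree : ∀ g ∈ Hg, g ∈ Subgroup.zpowers x → g = 1 := by
      rintro _ ⟨h, hh, rfl⟩ hgx
      exact hfree h hh hgx
    have hinv : ∀ s : G, (∀ t ∈ D, s * t * s⁻¹ ∈ D) → s * (m : G) * s⁻¹ ∈ Hg := fun s hs =>
      hDH (conj_commutator_le hs hmD)
    obtain ⟨r, hrx, hry⟩ := A.exists_r hy hy3 hyx
    obtain ⟨s, hsx, hsy⟩ := A.exists_s hy hy3 hyx
    have hD : ∀ (s x' y' : G), s * x * s⁻¹ = x' → s * y * s⁻¹ = y' →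
        ∀ t ∈ D, s * t * s⁻¹ ∈ Subgroup.centralizer ({x'} : Set G) ∧
          s * t * s⁻¹ ∈ Subgroup.centralizer ({y'} : Set G) := fun s x' y' h1 h2 t ht =>
      ⟨conj_mem_cent (Subgroup.mem_centralizer_singleton_iff.1 ht.1) h1,
        conj_mem_cent (Subgroup.mem_centralizer_singleton_iff.1 ht.2) h2⟩
    have hrD : ∀ t ∈ D, r * t * r⁻¹ ∈ D := fun t ht => by
      obtain ⟨h1, h2⟩ := hD r _ _ hrx hry t ht
      refine ⟨?_, h2⟩
      rw [Subgroup.mem_centralizer_singleton_iff] at h1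
      refine Subgroup.mem_centralizer_singleton_iff.2 ?_
      have := (show Commute (r * t * r⁻¹) x⁻¹ from h1).inv_right
      rwa [inv_inv] at this
    have hsD : ∀ t ∈ D, s * t * s⁻¹ ∈ D := fun t ht => (hD s _ _ hsx hsy t ht).symm
    have hmg : (m : G) ∈ Hg := ⟨m, hmH, rfl⟩
    set e := (m : G)⁻¹ * y with he
    have hey : Commute e y := by
      rcases A.pow_cases (show e ∈ Subgroup.zpowers x from hky) with h | h | h <;> rw [h]
      · exact Commute.one_left y
      · exact hyx.symm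
      · exact (show Commute x y from hyx.symm).pow_left 2
    have hr1 : r * (m : G) * r⁻¹ = y * e := by
      have hre : r * e * r⁻¹ = e⁻¹ := by
        obtain ⟨i, hi⟩ := Subgroup.mem_zpowers_iff.1 hky
        rw [show e = x ^ i from hi.symm, ← conj_zpow, hrx, inv_zpow]
      calc r * (m : G) * r⁻¹ = (r * y * r⁻¹) * (r * e * r⁻¹)⁻¹ := by simp only [e]; group
        _ = y * e := by rw [hry, hre, inv_inv]
    have he2 : e * e = 1 := by
      refine hgfree _ ?_ (mul_mem hky hky)
      have h1 := mul_mem (inv_mem hmg) (hinv r hrD)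
      rw [hr1, ← mul_assoc] at h1
      exact h1
    have he1 : e = 1 := A.pow_sq_one hky he2
    rw [he, inv_mul_eq_one] at he1
    refine hx ?_
    have h1 := hinv s hsD
    rw [he1, hsy] at h1
    obtain ⟨h, hh, hhx⟩ := h1
    rwa [show (⟨x, Subgroup.mem_centralizer_singleton_iff.2 rfl⟩ :
      Subgroup.centralizer ({x} : Set G)) = h from Subtype.ext hhx.symm]
  have hcenter : Subgroup.center (Subgroup.centralizer ({x} : Set G)) = N := by
    refine le_antisymm (fun h hh => ?_) (fun h hh => Subgroup.mem_center_iff.2 fun t => ?_)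
    · refine (QuotientGroup.eq_one_iff h).1 ?_
      have h1 : ψ h ∈ Subgroup.center (Subgroup.centralizer ({x} : Set G) ⧸ N) := by
        refine Subgroup.mem_center_iff.2 fun v => ?_
        obtain ⟨t, rfl⟩ := hψ.surj v
        rw [← map_mul, ← map_mul, Subgroup.mem_center_iff.1 hh t]
      rcases IsSimpleGroup.eq_bot_or_eq_top_of_normal
        (Subgroup.center (Subgroup.centralizer ({x} : Set G) ⧸ N)) inferInstance with e | e
      · rw [e, Subgroup.mem_bot] at h1
        exact h1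
      · obtain ⟨a, b, hab⟩ := hna
        exact absurd (Subgroup.mem_center_iff.1 (e ▸ Subgroup.mem_top b) a) hab
    · obtain ⟨i, hi⟩ := Subgroup.mem_zpowers_iff.1 ((hN h).1 hh)
      refine Subtype.ext ?_
      show (t : G) * h = h * t
      rw [← hi]
      exact ((show Commute (t : G) x from
        Subgroup.mem_centralizer_singleton_iff.1 t.2).zpow_right i).eq
  refine ⟨⟨hperfect⟩, ?_⟩
  let e := QuotientGroup.quotientMulEquivOfEq hcenter
  haveI : Nontrivial (Subgroup.centralizer ({x} : Set G) ⧸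
      Subgroup.center (Subgroup.centralizer ({x} : Set G))) := e.toEquiv.nontrivial
  exact IsSimpleGroup.isSimpleGroup_of_surjective e.symm.toMonoidHom e.symm.surjective

omit [Finite G] in
/-- Coordinates in which an element of order three with few commutators is the fixed rotation. -/
theorem exists_frame [Finite G] (M : Model z Q f ρ) (hxz : x * z = z * x) (h3 : x ^ 3 = 1)
    (h1 : x ≠ 1) (S : Subgroup G) (hS : Nat.card S ≤ 8)
    (hcomm : ∀ q ∈ Q, x * q * x⁻¹ * q⁻¹ ∈ S ∧ x * q * x⁻¹ * q⁻¹ ∈ Q) :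
    ∃ (f' : G → V8) (ρ' : Cz z →* Perm V8), Frame z Q f' ρ' x := by
  classical
  obtain ⟨π, hI⟩ : ∃ π, Img ρ x π := ⟨_, Img.mk' (mem_Cz.2 hxz)⟩
  have hπ : π ≠ 1 := fun e => h1 (M.cube_mem_Q h3 (M.img_one_mem (e ▸ hI)))
  have hcard : (Finset.univ.image fun v => vadd v (π v)).card ≤ 8 := by
    set I := Finset.univ.image fun v => vadd v (π v)
    have h : ∀ l : I, ∃ s : S, f s = l.1 := by
      rintro ⟨l, hl⟩
      obtain ⟨v, -, rfl⟩ := Finset.mem_image.1 hl
      obtain ⟨q, hq, rfl⟩ := M.f_surj v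
      refine ⟨⟨_, (hcomm q hq).1⟩, ?_⟩
      show f (x * q * x⁻¹ * q⁻¹) = _
      rw [M.f_mul _ (M.normal x hI.mem q hq) _ (inv_mem hq), M.img_conj hI hq, M.f_inv hq,
        vadd_comm]
    choose sI hsI using h
    have h2 := Nat.card_le_card_of_injective sI fun a b e => Subtype.ext (by
      rw [← hsI a, e, hsI b])
    rw [Nat.card_eq_finsetCard] at h2
    exact h2.trans hS
  obtain ⟨k, hk, hkI⟩ := M.to_std hI h3 hπ hcard
  let f' : G → V8 := fun q => f (k * q * k⁻¹)
  let ρ' : Cz z →* Equiv.Perm V8 := ρ.comp (MulAut.conj (⟨k, hk⟩ : Cz z)).toMonoidHom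
  have hkQ : ∀ {q}, k * q * k⁻¹ ∈ Q ↔ q ∈ Q := fun {q} => by
    refine ⟨fun h => ?_, M.normal k hk q⟩
    have := M.normal k⁻¹ (inv_mem hk) _ h
    rwa [show k⁻¹ * (k * q * k⁻¹) * k⁻¹⁻¹ = q by group] at this
  have hrange : ρ'.range = ρ.range :=
    le_antisymm (by rintro _ ⟨c, rfl⟩; exact ⟨_, rfl⟩) (by
      rintro _ ⟨c, rfl⟩
      exact ⟨(MulAut.conj (⟨k, hk⟩ : Cz z)).symm c,
        congrArg ρ ((MulAut.conj (⟨k, hk⟩ : Cz z)).apply_symm_apply c)⟩)
  have hkz : k * z * k⁻¹ = z := mul_inv_eq_iff_eq_mul.2 (mem_Cz.1 hk)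
  have M' : Model z Q f' ρ' :=
    { ord := M.ord
      le := M.le
      normal := M.normal
      card := M.card
      z_mem := M.z_mem
      f_mul := fun q hq r hr => by
        show f (k * (q * r) * k⁻¹) = _
        rw [show k * (q * r) * k⁻¹ = (k * q * k⁻¹) * (k * r * k⁻¹) by group,
          M.f_mul _ (hkQ.2 hq) _ (hkQ.2 hr)]
      f_ker := fun q hq => by
        rw [show f' q = f (k * q * k⁻¹) from rfl, M.f_ker _ (hkQ.2 hq)]
        exact or_congr conj_eq_one_iff ⟨fun h => mul_left_cancel (a := k)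
          (mul_right_cancel (b := k⁻¹) (h.trans hkz.symm)), fun h => h ▸ hkz⟩
      f_surj := fun v => by
        obtain ⟨q, hq, rfl⟩ := M.f_surj v
        refine ⟨k⁻¹ * q * k, hkQ.1 ?_, ?_⟩
        · rwa [show k * (k⁻¹ * q * k) * k⁻¹ = q by group]
        · show f (k * (k⁻¹ * q * k) * k⁻¹) = f q
          rw [show k * (k⁻¹ * q * k) * k⁻¹ = q by group]
      f_sq := fun q hq => by
        have h := M.f_sq _ (hkQ.2 hq)
        rw [show k * q * k⁻¹ * (k * q * k⁻¹) = k * (q * q) * k⁻¹ by group] at h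
        show q * q = if qb (f (k * q * k⁻¹)) = true then z else 1
        cases hb : qb (f (k * q * k⁻¹)) <;> rw [hb] at h <;> simp only [Bool.false_eq_true,
          if_false, if_true] at h ⊢
        · exact conj_eq_one_iff.1 h
        · exact mul_left_cancel (a := k) (mul_right_cancel (b := k⁻¹) (h.trans hkz.symm))
      ρ_conj := fun c q hq => by
        show ρ (⟨k, hk⟩ * c * (⟨k, hk⟩ : Cz z)⁻¹) (f (k * q * k⁻¹)) = f (k * (c * q * c⁻¹) * k⁻¹)
        rw [M.ρ_conj _ _ (hkQ.2 hq)]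
        congr 1
        simp only [Subgroup.coe_mul, Subgroup.coe_inv]
        group
      ρ_ker := fun c => (M.ρ_ker _).trans hkQ
      ρ_card := by rw [hrange, M.ρ_card]
      nwc := M.nwc
      sie_mem := fun p w => hrange ▸ M.sie_mem p w
      invol := by rw [hrange]; exact M.invol }
  obtain ⟨hm, he⟩ := hkI
  exact ⟨f', ρ', M', ⟨mem_Cz.2 hxz, he⟩, h3⟩

end Three

end CfsgLib.Small.ConTwo
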