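import Cfsg.Agent.Lib.Small.ConTwo.Comm

/-!
Every involution of the ambient group is conjugate to `z` or to one of two representatives
outside `Q`.
-/

set_option autoImplicit false

namespace CfsgLib.Small.ConTwo

open Equiv

/-- An element of the conjugate of `Q` attached to some noncentral involution of `Q`. -/
def PNear {G : Type*} [Group G] (z : G) (Q : Subgroup G) (t : G) : Prop :=
  ∃ v, Nc z Q v ∧ InQ z Q v t

theorem conj_sq_one {G : Type*} [Group G] {x : G} (c : G) (h : x * x = 1) :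
    c * x * c⁻¹ * (c * x * c⁻¹) = 1 := by
  calc c * x * c⁻¹ * (c * x * c⁻¹) = c * (x * x) * c⁻¹ := by group
    _ = 1 := by rw [h]; group

/-- The action of `t` on the part of `Q` fixed by its image `π` is given by `a`. -/
def Fn {G : Type*} [Group G] {z : G} (Q : Subgroup G) (f : G → V8) (ρ : Cz z →* Perm V8) (t : G)
    (π : Perm V8) (a : V8) : Prop :=
  Img ρ t π ∧ ∀ q ∈ Q, π (f q) = f q → t * q * t⁻¹ = q * zp z (bl a (f q))

/-- The two representatives outside `Q`. -/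
structure Two {G : Type*} [Group G] (z : G) (Q : Subgroup G) (f : G → V8)
    (ρ : Cz z →* Perm V8) (k b : G) : Prop where
  k_sq : k * k = 1
  k_fn : Fn Q f ρ k (wperm wA) 2
  b_sq : b * b = 1
  b_fn : Fn Q f ρ b (wperm wC) 42

/-- Being in one of the three classes. -/
def Cls {G : Type*} [Group G] (z k b t : G) : Prop := IsConj t z ∨ IsConj t k ∨ IsConj t b

theorem Cls.of_conj {G : Type*} [Group G] {z k b t t' : G} (h : IsConj t t')
    (h' : Cls z k b t') : Cls z k b t :=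
  h'.imp h.trans (Or.imp h.trans h.trans)

namespace Model

variable {G : Type*} [Group G] {z : G} {Q : Subgroup G} {f : G → V8}
  {ρ : Cz z →* Perm V8} (M : Model z Q f ρ)

include M

theorem near_conj {t c : G} (hc : c ∈ Cz z) (h : PNear z Q t) : PNear z Q (c * t * c⁻¹) := by
  obtain ⟨v, hv, hi⟩ := h
  exact ⟨c * v * c⁻¹, M.Nc_conj hc hv, InQ_conj c hi⟩

theorem near_mul_z {t : G} (h : PNear z Q t) : PNear z Q (t * z) := by
  obtain ⟨v, hv, hi⟩ := h
  obtain ⟨g, hg⟩ := M.nc_conj_z hv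
  refine ⟨v, hv, g, hg, ?_⟩
  have := mul_mem (M.InQ_any hi hg) (M.InQ_any (M.InQ_self_z hv) hg)
  rwa [show g⁻¹ * t * g * (g⁻¹ * z * g) = g⁻¹ * (t * z) * g by group] at this

theorem near_conj_z {t : G} (h2 : t * t = 1) (h1 : t ≠ 1) (h : PNear z Q t) :
    ∃ k : G, k * z * k⁻¹ = t := by
  obtain ⟨v, -, g, -, hQ⟩ := h
  by_cases hz : g⁻¹ * t * g = z
  · exact ⟨g, by rw [← hz]; group⟩
  have hnc : Nc z Q (g⁻¹ * t * g) := by
    refine ⟨hQ, ?_, fun e => h1 ?_, hz⟩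
    · calc g⁻¹ * t * g * (g⁻¹ * t * g) = g⁻¹ * (t * t) * g := by group
        _ = 1 := by rw [h2]; group
    · calc t = g * (g⁻¹ * t * g) * g⁻¹ := by group
        _ = 1 := by rw [e]; group
  obtain ⟨k, hk⟩ := M.nc_conj_z hnc
  exact ⟨g * k, by
    calc g * k * z * (g * k)⁻¹ = g * (k * z * k⁻¹) * g⁻¹ := by group
      _ = t := by rw [hk]; group⟩

theorem Fn_conj {t c : G} {π σ : Perm V8} {a : V8} (h : Fn Q f ρ t π a) (hc : Img ρ c σ) :
    Fn Q f ρ (c * t * c⁻¹) (σ * π * σ⁻¹) (σ a) := by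
  refine ⟨h.1.conj hc, fun q hq hfix => ?_⟩
  have hO := M.img_O hc
  have hq' : c⁻¹ * q * c⁻¹⁻¹ ∈ Q := M.normal _ (inv_mem hc.mem) q hq
  have hf : f (c⁻¹ * q * c⁻¹⁻¹) = σ⁻¹ (f q) := M.img_conj hc.inv hq
  have hfix' : π (σ⁻¹ (f q)) = σ⁻¹ (f q) := by
    apply σ.injective
    rw [show σ (σ⁻¹ (f q)) = f q from σ.apply_symm_apply _]
    exact hfix
  have h1 := h.2 _ hq' (by rw [hf]; exact hfix')
  rw [hf, ← O_bl hO, show σ (σ⁻¹ (f q)) = f q from σ.apply_symm_apply _] at h1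
  calc c * t * c⁻¹ * q * (c * t * c⁻¹)⁻¹ = c * (t * (c⁻¹ * q * c⁻¹⁻¹) * t⁻¹) * c⁻¹ := by group
    _ = q * (c * zp z (bl (σ a) (f q)) * c⁻¹) := by rw [h1]; group
    _ = _ := by rw [M.zp_comm _ hc.mem, mul_inv_cancel_right]

theorem Fn_mul_q {t q : G} {π : Perm V8} {a : V8} (h : Fn Q f ρ t π a) (hq : q ∈ Q) :
    Fn Q f ρ (t * q) π (vadd a (f q)) := by
  refine ⟨M.img_mul_q h.1 hq, fun r hr hfix => ?_⟩
  have hc : q * r * q⁻¹ = zp z (bl (f r) (f q)) * r := by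
    rw [M.comm hr hq]; group
  rw [bl_vadd_left, M.zp_xor]
  calc t * q * r * (t * q)⁻¹ = t * (q * r * q⁻¹) * t⁻¹ := by group
    _ = (t * zp z (bl (f r) (f q)) * t⁻¹) * (t * r * t⁻¹) := by rw [hc]; group
    _ = zp z (bl (f r) (f q)) * r * zp z (bl a (f r)) := by
        rw [M.zp_comm _ h.1.mem, mul_inv_cancel_right, h.2 r hr hfix, mul_assoc]
    _ = _ := by
        rw [← M.zp_comm (bl (f r) (f q)) (M.le hr), bl_comm (f r), mul_assoc, ← M.zp_xor,
          ← M.zp_xor, Bool.xor_comm]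

theorem conj_L {t m : G} {π : Perm V8} (ht : Img ρ t π) (h2 : t * t = 1) (hm : m ∈ Q) {v : V8}
    (hv : f m = vadd v (π v)) :
    ∃ r ∈ Q, r * t * r⁻¹ = t * m ∨ r * t * r⁻¹ = t * m * z := by
  obtain ⟨r, hr, rfl⟩ := M.f_surj v
  have hk : t * r * t⁻¹ * r⁻¹ ∈ Q := mul_mem (M.normal t ht.mem r hr) (inv_mem hr)
  have hf : f (t * r * t⁻¹ * r⁻¹) = f m := by
    rw [hv, M.f_mul _ (M.normal t ht.mem r hr) _ (inv_mem hr), M.img_conj ht hr, M.f_inv hr,
      vadd_comm]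
  have he : r * t * r⁻¹ = t * (t * r * t⁻¹ * r⁻¹) := by
    calc r * t * r⁻¹ = (t * t) * r * t * r⁻¹ := by rw [h2, one_mul]
      _ = t * (t * r * t⁻¹ * r⁻¹) := by rw [inv_eq_of_mul_eq_one_right h2]; group
  refine ⟨r, hr, ?_⟩
  rcases M.f_eq hm hk hf.symm with h | h <;> rw [he, h]
  · exact Or.inl rfl
  · exact Or.inr (by rw [mul_assoc])

theorem flip_of {t r : G} {π : Perm V8} {a : V8} (h : Fn Q f ρ t π a) (hr : r ∈ Q)
    (hfix : π (f r) = f r) (hb : bl a (f r) = true) : r * t * r⁻¹ = t * z := by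
  have h1 := h.2 r hr hfix
  rw [hb, zp_true] at h1
  calc r * t * r⁻¹ = r * (t * r * t⁻¹)⁻¹ * t := by group
    _ = r * (z⁻¹ * r⁻¹) * t := by rw [h1]; group
    _ = r * (z * r⁻¹) * t := by rw [M.z_inv]
    _ = r * (r⁻¹ * z) * t := by rw [← mem_Cz.1 (inv_mem (M.le hr))]
    _ = z * t := by group
    _ = t * z := (mem_Cz.1 h.1.mem).symm

/-- Two involutions over a representative with equivalent functionals are conjugate. -/
theorem same_class {t t' : G} {l : List (V8 × V8)} {L : List V8} {B : List (V8 × V8)}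
    (D : RepData l L B) {a a' v : V8} (h : Fn Q f ρ t (wperm l) a)
    (h' : Fn Q f ρ t' (wperm l) a') (h2 : t * t = 1) (hv : wap l v = v) (hav : bl a v = true)
    (hL : vadd a a' ∈ L) : ∃ r ∈ Q, r * t * r⁻¹ = t' := by
  obtain ⟨q, hq, rfl⟩ := M.img_same h.1 h'.1
  have h3 := M.Fn_mul_q h hq
  have hd : vadd (vadd a (f q)) a' ∈ L := by
    refine D.perp _ fun y hy => ?_
    obtain ⟨s, hs, hsf⟩ := M.f_surj y.1
    have hfix : wperm l (f s) = f s := by rw [hsf, wperm_apply D.ok, D.basis y hy]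
    have e := (h3.2 s hs hfix).symm.trans (h'.2 s hs hfix)
    rw [bl_vadd_left, ← hsf, M.zp_inj (mul_left_cancel e), Bool.xor_self]
  obtain ⟨w1, hw1⟩ := D.L_mem _ hd
  obtain ⟨w2, hw2⟩ := D.L_mem _ hL
  have hfq : f q = vadd (vadd w1 w2) (wperm l (vadd w1 w2)) := by
    rw [O_add (wperm_mem_O l), vadd_four, wperm_apply D.ok, wperm_apply D.ok, hw1, hw2]
    rw [show vadd (vadd (vadd a (f q)) a') (vadd a a') = vadd (f q) (vadd (vadd a a) (vadd a' a')) by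
      ac_rfl, vadd_self, vadd_self, vadd_zero, vadd_zero]
  obtain ⟨r0, hr0, hr0e⟩ := M.conj_L h.1 h2 hq hfq
  rcases hr0e with e | e
  · exact ⟨r0, hr0, e⟩
  · obtain ⟨r1, hr1, hr1f⟩ := M.f_surj v
    have hflip := M.flip_of h hr1 (by rw [hr1f, wperm_apply D.ok, hv]) (by rw [hr1f]; exact hav)
    refine ⟨r0 * r1, mul_mem hr0 hr1, ?_⟩
    calc r0 * r1 * t * (r0 * r1)⁻¹ = r0 * (r1 * t * r1⁻¹) * r0⁻¹ := by group
      _ = r0 * t * (z * r0⁻¹) := by rw [hflip]; group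
      _ = r0 * t * (r0⁻¹ * z) := by rw [← mem_Cz.1 (inv_mem (M.le hr0))]
      _ = r0 * t * r0⁻¹ * z := by group
      _ = t * q * (z * z) := by rw [e]; group
      _ = t * q := by rw [M.zz, mul_one]

theorem inverted {t q : G} (ht : t * t = 1) (h : t * q * (t * q) = 1) :
    t * q * t⁻¹ = q⁻¹ := by
  rw [inv_eq_of_mul_eq_one_right ht, eq_inv_iff_mul_eq_one, ← h]
  group

section Swap

variable {u g : G} (W : Swap z Q f u g)

include W

theorem Fn_D {x : G} {w : V8} (hx : Img ρ x (sieP pt w)) (hx' : g⁻¹ * x * g ∈ Q)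
    (hw : bl w pt = false) (h0 : w ≠ 0) (h1 : w ≠ pt) : Fn Q f ρ x (sieP pt w) 0 :=
  ⟨hx, fun q hq hfix => by
    rw [M.D_fix_comm W hx hx' hw h0 h1 hq hfix, mul_inv_cancel_right,
      show bl 0 (f q) = false by simp [bl, pr, bit_zero], zp_false, mul_one]⟩

theorem exists_Two : ∃ k b, Two z Q f ρ k b := by
  obtain ⟨x, hx, hx', hx2⟩ := M.DInv_sing W (w := 8) (by decide +kernel) (by decide +kernel)
  obtain ⟨y, hy, hy', hy2⟩ := M.exists_sq W
  obtain ⟨q, hq, hqf⟩ := M.f_surj (2 : V8)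
  obtain ⟨r, hr, hrf⟩ := M.f_surj (42 : V8)
  obtain ⟨-, -, -, hw2, hq2, -, -, -⟩ := WK_facts
  obtain ⟨-, -, hw42, hb42, hq42, -⟩ := WB_facts
  have hk := M.Fn_mul_q (M.Fn_D W hx hx' (by decide +kernel) (by decide) (by decide +kernel)) hq
  have hb := M.Fn_mul_q (M.Fn_D W hy hy' (by decide +kernel) (by decide) (by decide +kernel)) hr
  rw [← wperm_wA, hqf, zero_vadd] at hk
  rw [← wperm_wC, hrf, zero_vadd] at hb
  refine ⟨x * q, y * r, ?_, hk, ?_, hb⟩
  · have hc : x * q = q * x :=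
      M.D_fix_comm W hx hx' (by decide +kernel) (by decide) (by decide +kernel) hq (by
        rw [← wperm_wA, wperm_apply dataA.ok, hqf, hw2])
    calc x * q * (x * q) = x * (q * x) * q := by group
      _ = (x * x) * (q * q) := by rw [← hc]; group
      _ = 1 := by rw [hx2, M.sq_zp hq, hqf, hq2, zp_false, one_mul]
  · have h := M.D_comm W hy hy' (by decide +kernel) r hr (by rw [hrf]; exact hb42)
    rw [hrf, show bl 42 136 = true by decide +kernel] at h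
    have hcu := M.perp_comm W hr (by rw [hrf]; exact hb42)
    have hrz : r * z = z * r := mem_Cz.1 (M.le hr)
    calc y * r * (y * r) = y * r * y⁻¹ * (y * y) * r := by group
      _ = r * (u * (z * u)) * r := by rw [h, hy2, up, if_pos rfl]; group
      _ = r * z * r := by
          rw [← mem_Cz.1 (M.le W.nc.1), ← mul_assoc u u, W.nc.2.1, one_mul]
      _ = z * (r * r) := by rw [hrz]; group
      _ = 1 := by rw [M.sq_zp hr, hrf, hq42, zp_true, M.zz]

variable {k b : G} (T : Two z Q f ρ k b)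

include T

theorem class_A {t : G} (ht : Img ρ t (wperm wA)) (h2 : t * t = 1) :
    PNear z Q t ∨ IsConj t k := by
  obtain ⟨x, hx, hx', hx2⟩ := M.DInv_sing W (w := 8) (by decide +kernel) (by decide +kernel)
  have hxA : Img ρ x (wperm wA) := by rw [wperm_wA]; exact hx
  obtain ⟨q, hq, rfl⟩ := M.img_same hxA ht
  have hinv := M.inverted hx2 h2
  have hfix : wperm wA (f q) = f q := by rw [← M.img_conj hxA hq, hinv, M.f_inv hq]
  have hc : x * q = q * x :=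
    M.D_fix_comm W hx hx' (by decide +kernel) (by decide) (by decide +kernel) hq (by
      rw [← wperm_wA]; exact hfix)
  have hs : qb (f q) = false := by
    refine M.zp_inj ?_
    rw [← M.sq_zp hq, zp_false]
    rw [hc, mul_inv_cancel_right] at hinv
    nth_rw 1 [hinv]
    exact inv_mul_cancel q
  by_cases hL : f q ∈ LA
  · refine Or.inl ?_
    obtain ⟨v, hv⟩ := dataA.L_mem _ hL
    obtain ⟨r, hr, he⟩ := M.conj_L hxA hx2 hq (v := v) (by rw [wperm_apply dataA.ok, hv])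
    have hn := M.near_conj (M.le hr) (show PNear z Q x from ⟨u, W.nc, g, W.gz, hx'⟩)
    rcases he with e | e <;> rw [e] at hn
    · exact hn
    · have := M.near_mul_z hn
      rwa [mul_assoc, M.zz, mul_one] at this
  · refine Or.inr ?_
    have hF := M.Fn_mul_q
      (M.Fn_D W hx hx' (by decide +kernel) (by decide) (by decide +kernel)) hq
    rw [← wperm_wA, zero_vadd] at hF
    obtain ⟨l, hlok, hlc, hl⟩ := orbA_spec (f q) (by rw [← wperm_apply dataA.ok]; exact hfix) hs hL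
    obtain ⟨c, hc'⟩ := M.lift l
    have hk := M.Fn_conj T.k_fn hc'
    rw [wperm_conj hlok dataA.ok hlc, wperm_apply hlok] at hk
    obtain ⟨v0, hv0, hb0⟩ := WK_facts.2.2.2.2.2.2.2
    obtain ⟨r, -, he⟩ := M.same_class dataA hk hF (v := wperm l v0) (conj_sq_one c T.k_sq) (by
        rw [← wperm_apply dataA.ok, ← Perm.mul_apply, ← wperm_comm hlok dataA.ok hlc,
          Perm.mul_apply, wperm_apply dataA.ok, hv0]) (by
        rw [← wperm_apply hlok 2, O_bl (wperm_mem_O l)]; exact hb0) hl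
    exact ((isConj_iff.2 ⟨c, rfl⟩).trans (isConj_iff.2 ⟨r, he⟩)).symm

theorem class_C {t : G} (ht : Img ρ t (wperm wC)) (h2 : t * t = 1) : IsConj t b := by
  obtain ⟨r, hr, rfl⟩ := M.img_same T.b_fn.1 ht
  have hinv := M.inverted T.b_sq h2
  have hfix : wperm wC (f r) = f r := by rw [← M.img_conj T.b_fn.1 hr, hinv, M.f_inv hr]
  have hq : bl 42 (f r) = qb (f r) := by
    refine M.zp_inj (mul_left_cancel (a := r) ?_)
    rw [← T.b_fn.2 r hr hfix, hinv, M.inv_eq hr]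
  have hs : qb (vadd 42 (f r)) = true := by
    rw [qb_vadd, WB_facts.2.2.2.2.1, hq]
    cases qb (f r) <;> rfl
  obtain ⟨l, hlok, hlc, hl⟩ := orbC_spec (f r) (by rw [← wperm_apply dataC.ok]; exact hfix) hs
  obtain ⟨c, hc'⟩ := M.lift l
  have hk := M.Fn_conj T.b_fn hc'
  rw [wperm_conj hlok dataC.ok hlc, wperm_apply hlok] at hk
  obtain ⟨v0, hv0, hb0⟩ := WB_facts.2.2.2.2.2
  obtain ⟨s, -, he⟩ := M.same_class dataC hk (M.Fn_mul_q T.b_fn hr) (v := wperm l v0)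
    (conj_sq_one c T.b_sq) (by
      rw [← wperm_apply dataC.ok, ← Perm.mul_apply, ← wperm_comm hlok dataC.ok hlc,
        Perm.mul_apply, wperm_apply dataC.ok, hv0]) (by
      rw [← wperm_apply hlok 42, O_bl (wperm_mem_O l)]; exact hb0) hl
  exact ((isConj_iff.2 ⟨c, rfl⟩).trans (isConj_iff.2 ⟨s, he⟩)).symm

theorem class_two {t : G} {π c : Perm V8} (ht : Img ρ t π) (h2 : t * t = 1)
    (hc : c ∈ ρ.range) {l : List (V8 × V8)} (hl : l = wA ∨ l = wC)
    (he : c * π * c⁻¹ = wperm l) : Cls z k b t := by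
  obtain ⟨s, hs⟩ := exists_img hc
  have hI : Img ρ (s * t * s⁻¹) (wperm l) := he ▸ ht.conj hs
  have hs2 := conj_sq_one s h2
  refine Cls.of_conj (isConj_iff.2 ⟨s, rfl⟩) ?_
  rcases hl with rfl | rfl
  · rcases M.class_A W T hI hs2 with h | h
    · obtain ⟨j, hj⟩ := M.near_conj_z hs2
        (fun e => dataA.ne_one (hI.unique (e.symm ▸ Img.one))) h
      exact Or.inl (isConj_iff.2 ⟨j, hj⟩).symm
    · exact Or.inr (Or.inl h)
  · exact Or.inr (Or.inr (M.class_C W T hI hs2))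

theorem class_Q {t : G} (ht : t ∈ Q) (h2 : t * t = 1) (h1 : t ≠ 1) : Cls z k b t := by
  refine Or.inl ?_
  by_cases hz : t = z
  · rw [hz]
  · obtain ⟨j, hj⟩ := M.nc_conj_z ⟨ht, h2, h1, hz⟩
    exact (isConj_iff.2 ⟨j, hj⟩).symm

/-- An involution is classified, or lies over a representative of rank four. -/
theorem low_or_four {t : G} (ht : t ∈ Cz z) (h2 : t * t = 1) (h1 : t ≠ 1) :
    Cls z k b t ∨ ∃ π, Img ρ t π ∧ ∃ c ∈ ρ.range, ∃ l ∈ reps4, c * π * c⁻¹ = wperm l := by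
  by_cases hQ : t ∈ Q
  · exact Or.inl (M.class_Q W T hQ h2 h1)
  obtain ⟨π, hπ⟩ : ∃ π, Img ρ t π := ⟨_, Img.mk' ht⟩
  obtain ⟨c, hc, l, hl, he⟩ := M.invol π hπ.mem_range ((h2 ▸ hπ.mul hπ).unique Img.one)
    (fun e => hQ (M.img_one_mem (e ▸ hπ)))
  rcases reps_cases hl with h | h | h
  · exact Or.inl (M.class_two W T hπ h2 hc (Or.inl h) he)
  · exact Or.inl (M.class_two W T hπ h2 hc (Or.inr h) he)
  · exact Or.inr ⟨π, hπ, c, hc, l, h, he⟩

/-- Descent by an element of the intersection centralised by `t`. -/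
theorem descend {t x : G} {π' c : Perm V8} {l : List (V8 × V8)} (h2 : t * t = 1)
    (ht' : Img ρ (g⁻¹ * t * g) π') (hc : c ∈ ρ.range) (hl : l ∈ reps4)
    (he : c * π' * c⁻¹ = wperm l) (hx' : g⁻¹ * x * g ∈ Q)
    (hfix : π' (f (g⁻¹ * x * g)) = f (g⁻¹ * x * g)) (htx : Img ρ (t * x) (sieP 2 4)) :
    Cls z k b t := by
  obtain ⟨L, B, D, -, -, hsub⟩ := reps4_data hl
  have hcO := M.range_le hc
  have hmem : c (f (g⁻¹ * x * g)) ∈ L := hsub _ (by
    have h := congrArg (fun p : Perm V8 => p (c (f (g⁻¹ * x * g)))) he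
    simp only [Perm.mul_apply, wperm_apply D.ok] at h
    rw [← h, show c⁻¹ (c (f (g⁻¹ * x * g))) = f (g⁻¹ * x * g) from c.symm_apply_apply _, hfix])
  obtain ⟨w, hw⟩ := D.L_mem _ hmem
  have h2' : g⁻¹ * t * g * (g⁻¹ * t * g) = 1 := by
    calc g⁻¹ * t * g * (g⁻¹ * t * g) = g⁻¹ * (t * t) * g := by group
      _ = 1 := by rw [h2]; group
  obtain ⟨r, -, hr⟩ := M.conj_L ht' h2' hx' (v := c⁻¹ w) (by
    apply c.injective
    rw [D.conj_vals hcO he, show c (c⁻¹ w) = w from c.apply_symm_apply _, hw])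
  obtain ⟨o, hto, hoI⟩ : ∃ o, IsConj t o ∧ Img ρ o (sieP 2 4) := by
    rcases hr with e | e
    · refine ⟨t * x, isConj_iff.2 ⟨g * r * g⁻¹, ?_⟩, htx⟩
      calc g * r * g⁻¹ * t * (g * r * g⁻¹)⁻¹ = g * (r * (g⁻¹ * t * g) * r⁻¹) * g⁻¹ := by group
        _ = t * x := by rw [e]; group
    · refine ⟨t * x * u, isConj_iff.2 ⟨g * r * g⁻¹, ?_⟩, M.img_mul_q htx W.nc.1⟩
      calc g * r * g⁻¹ * t * (g * r * g⁻¹)⁻¹ = g * (r * (g⁻¹ * t * g) * r⁻¹) * g⁻¹ := by group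
        _ = t * x * (g * z * g⁻¹) := by rw [e]; group
        _ = t * x * u := by rw [W.gz]
  obtain ⟨j, hj⟩ := isConj_iff.1 hto
  refine Cls.of_conj hto (M.class_two W T hoI (hj ▸ conj_sq_one j h2)
    (inv_mem (M.word_mem moveT)) (Or.inl rfl) ?_)
  rw [inv_inv, wperm_wA]
  have h : wperm moveT * sieP pt 8 * (wperm moveT)⁻¹ = sieP 2 4 := by
    rw [O_sieP (wperm_mem_O _) (sieOK_pt (by decide +kernel)), wperm_apply moveT_ok.1,
      wperm_apply moveT_ok.1, moveT_ok.2.1, moveT_ok.2.2]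
  rw [← h]
  group

omit M W T in
theorem four_perm {w : V8} (hw : w = 8 ∨ w = 128 ∨ w = 136) :
    sieP pt w * sieP 2 4 = sieP 2 4 * sieP pt w ∧
      sieP pt w * sieP 2 4 * sieP pt w = sieP 2 4 := by
  have h24 : SieOK (2, 4) := by decide +kernel
  have hwp : bl w pt = false := by rcases hw with rfl | rfl | rfl <;> decide +kernel
  have hc : sieP pt w * sieP 2 4 = sieP 2 4 * sieP pt w :=
    O_ext (mul_mem (sieP_mem _ _) (sieP_mem _ _)) (mul_mem (sieP_mem _ _) (sieP_mem _ _))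
      fun j => by
        rw [Perm.mul_apply, Perm.mul_apply, sieP_apply h24, sieP_apply (sieOK_pt hwp),
          sieP_apply h24, sieP_apply (sieOK_pt hwp)]
        exact (four_comm w hw).2 j
  exact ⟨hc, by rw [hc, mul_assoc, sieP_mul_self, mul_one]⟩

theorem class_F {t : G} {w : V8} {l : List (V8 × V8)}
    (hl : l = wF ∧ w = 8 ∨ l = wF' ∧ w = 128) (ht : Img ρ t (wperm l)) (h2 : t * t = 1) :
    Cls z k b t := by
  have hw : w = 8 ∨ w = 128 ∨ w = 136 := by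
    rcases hl with ⟨-, rfl⟩ | ⟨-, rfl⟩ <;> tauto
  have hwp : bl w pt = false ∧ qb w = false ∧ w ≠ 0 ∧ w ≠ pt := by
    rcases hl with ⟨-, rfl⟩ | ⟨-, rfl⟩ <;> decide +kernel
  obtain ⟨⟨hw2, h24pt, -⟩, -⟩ := four_comm w hw
  have hfour : ∀ v, wperm l v = v → qb v = false ∧ sieP pt w v = v ∧ sieP 2 4 v = v := by
    intro v hv
    rw [sieP_apply (sieOK_pt hwp.1), sieP_apply (show SieOK (2, 4) by decide +kernel)]
    rcases hl with ⟨rfl, rfl⟩ | ⟨rfl, rfl⟩
    · exact (four_fix v).1 (by rwa [wperm_apply dataF.ok] at hv)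
    · exact (four_fix v).2 (by rwa [wperm_apply dataF'.ok] at hv)
  have hπ : wperm l = sieP pt w * sieP 2 4 := by
    rcases hl with ⟨rfl, rfl⟩ | ⟨rfl, rfl⟩
    · exact wperm_wF
    · exact wperm_wF'
  obtain ⟨x1, hx1, hx1', hx12⟩ := M.DInv_sing W hwp.1 hwp.2.1
  obtain ⟨x0, hx0, hx0', hx02⟩ := M.DInv_sing W (w := 8) (by decide +kernel) (by decide +kernel)
  obtain ⟨T', hT⟩ := M.lift moveT
  have hτ : wperm moveT * sieP pt 8 * (wperm moveT)⁻¹ = sieP 2 4 := by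
    rw [O_sieP (wperm_mem_O _) (sieOK_pt (by decide +kernel)), wperm_apply moveT_ok.1,
      wperm_apply moveT_ok.1, moveT_ok.2.1, moveT_ok.2.2]
  have hx2 : Img ρ (T' * x0 * T'⁻¹) (sieP 2 4) := hτ ▸ hx0.conj hT
  have hx22 : T' * x0 * T'⁻¹ * (T' * x0 * T'⁻¹) = 1 := conj_sq_one T' hx02
  have fix2 : ∀ q ∈ Q, sieP 2 4 (f q) = f q → T' * x0 * T'⁻¹ * q = q * (T' * x0 * T'⁻¹) := by
    intro q hq hfix
    have hq' : T'⁻¹ * q * T'⁻¹⁻¹ ∈ Q := M.normal _ (inv_mem hT.mem) q hq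
    have h := M.D_fix_comm W hx0 hx0' (by decide +kernel) (by decide) (by decide +kernel) hq' (by
      rw [M.img_conj hT.inv hq]
      apply (wperm moveT).injective
      rw [show wperm moveT ((wperm moveT)⁻¹ (f q)) = f q from Equiv.apply_symm_apply _ _]
      nth_rw 2 [← hfix]
      rw [← hτ]
      rfl)
    calc T' * x0 * T'⁻¹ * q = T' * (x0 * (T'⁻¹ * q * T'⁻¹⁻¹)) * T'⁻¹ := by group
      _ = q * (T' * x0 * T'⁻¹) := by rw [h]; group
  have h24 : SieOK (2, 4) := by decide +kernel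
  have hx2u : T' * x0 * T'⁻¹ * u = u * (T' * x0 * T'⁻¹) :=
    fix2 u W.nc.1 (by rw [W.fu, sieP_apply h24, h24pt])
  have hu2 : f (T' * u * T'⁻¹) = 2 := by
    rw [M.img_conj hT W.nc.1, W.fu, wperm_apply moveT_ok.1, moveT_ok.2.1]
  have hu2Q : T' * u * T'⁻¹ ∈ Q := M.normal _ hT.mem u W.nc.1
  have hx1u2 : x1 * (T' * u * T'⁻¹) = T' * u * T'⁻¹ * x1 :=
    M.D_fix_comm W hx1 hx1' hwp.1 hwp.2.2.1 hwp.2.2.2 hu2Q (by
      rw [hu2, sieP_apply (sieOK_pt hwp.1), hw2])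
  generalize hx2e : T' * x0 * T'⁻¹ = x2 at hx2 hx22 fix2 hx2u
  have hinv1 : x1⁻¹ = x1 := inv_eq_of_mul_eq_one_right hx12
  have hinv2 : x2⁻¹ = x2 := inv_eq_of_mul_eq_one_right hx22
  have hκI : Img ρ (x1 * x2 * (x1 * x2)) 1 := by
    have h := (hx1.mul hx2).mul (hx1.mul hx2)
    rwa [show sieP pt w * sieP 2 4 * (sieP pt w * sieP 2 4) = 1 by
      rw [← mul_assoc, (four_perm hw).2, sieP_mul_self]] at h
  have hκQ := M.img_one_mem hκI
  have hκ1 : f (x1 * x2 * (x1 * x2)) = 0 ∨ f (x1 * x2 * (x1 * x2)) = pt := by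
    refine M.R0_f W hκQ ?_
    have h := D_mul_mem M W hx1' (M.D_conj_mem W hx2u hx1')
    rwa [hinv2, show x1 * (x2 * x1 * x2) = x1 * x2 * (x1 * x2) by group] at h
  have hκ2 : f (x1 * x2 * (x1 * x2)) = 0 ∨ f (x1 * x2 * (x1 * x2)) = 2 := by
    have hau : T'⁻¹ * x1 * T'⁻¹⁻¹ * u = u * (T'⁻¹ * x1 * T'⁻¹⁻¹) := by
      calc T'⁻¹ * x1 * T'⁻¹⁻¹ * u = T'⁻¹ * (x1 * (T' * u * T'⁻¹)) * T' := by group
        _ = u * (T'⁻¹ * x1 * T'⁻¹⁻¹) := by rw [hx1u2]; group
    have hn : T'⁻¹ * (x1 * x2 * (x1 * x2)) * T'⁻¹⁻¹ =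
        T'⁻¹ * x1 * T'⁻¹⁻¹ * x0 * (T'⁻¹ * x1 * T'⁻¹⁻¹)⁻¹ * x0 := by
      calc T'⁻¹ * (x1 * x2 * (x1 * x2)) * T'⁻¹⁻¹
          = T'⁻¹ * x1 * T'⁻¹⁻¹ * x0 * (T'⁻¹ * x1 * T'⁻¹⁻¹) * x0 := by rw [← hx2e]; group
        _ = _ := by
            have : (T'⁻¹ * x1 * T'⁻¹⁻¹)⁻¹ = T'⁻¹ * x1 * T'⁻¹⁻¹ :=
              inv_eq_of_mul_eq_one_right (conj_sq_one _ hx12)
            rw [this]
    have hQ' := M.normal _ (inv_mem hT.mem) _ hκQ
    have hf := M.img_conj hT.inv hκQ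
    rcases M.R0_f W hQ' (by
      rw [hn]; exact D_mul_mem M W (M.D_conj_mem W hau hx0') hx0') with h | h <;>
      rw [hf] at h <;> have h' := congrArg (wperm moveT) h <;>
      rw [show wperm moveT ((wperm moveT)⁻¹ (f (x1 * x2 * (x1 * x2)))) =
        f (x1 * x2 * (x1 * x2)) from Equiv.apply_symm_apply _ _, wperm_apply moveT_ok.1] at h'
    · exact Or.inl (by rw [h', ← wperm_apply moveT_ok.1, O_zero (wperm_mem_O _)])
    · exact Or.inr (by rw [h', moveT_ok.2.1])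
  have hκ0 : f (x1 * x2 * (x1 * x2)) = 0 := by
    rcases hκ1 with h | h
    · exact h
    · rcases hκ2 with h' | h'
      · exact h'
      · rw [h] at h'; exact absurd h' (by decide +kernel)
  have hI : Img ρ (x1 * x2) (wperm l) := hπ ▸ hx1.mul hx2
  obtain ⟨q, hq, rfl⟩ := M.img_same hI ht
  have hsq : x1 * x2 * q * (x1 * x2)⁻¹ * (x1 * x2 * (x1 * x2)) * q = 1 := by
    rw [← h2]; group
  have hfix : wperm l (f q) = f q := by
    have h := congrArg f hsq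
    have hq1 := M.normal _ hI.mem q hq
    rw [M.f_one, M.f_mul _ (mul_mem hq1 hκQ) q hq, M.f_mul _ hq1 _ hκQ, hκ0, vadd_zero,
      M.img_conj hI hq] at h
    exact vadd_eq_zero h
  obtain ⟨hqs, hq1, hq2⟩ := hfour _ hfix
  have c1 : x1 * q = q * x1 := M.D_fix_comm W hx1 hx1' hwp.1 hwp.2.2.1 hwp.2.2.2 hq hq1
  have c2 : x2 * q = q * x2 := fix2 q hq hq2
  have cu : q * u = u * q := M.perp_comm W hq (by
    rw [sieP_apply (sieOK_pt hwp.1)] at hq1
    exact (sie_fixed hwp.2.2.1 hwp.2.2.2 hq1).1)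
  have c12 : x1 * x2 = x2 * x1 := by
    have hκ : x1 * x2 * (x1 * x2) = 1 := by
      have hc : Commute q (x1 * x2) := (Commute.mul_right c1.symm c2.symm)
      calc x1 * x2 * (x1 * x2) = x1 * x2 * (x1 * x2) * (q * q) := by
            rw [M.sq_zp hq, hqs, zp_false, mul_one]
        _ = x1 * x2 * ((x1 * x2) * q) * q := by group
        _ = x1 * x2 * (q * (x1 * x2)) * q := by rw [hc.eq]
        _ = x1 * x2 * q * (x1 * x2 * q) := by group
        _ = 1 := h2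
    calc x1 * x2 = (x1 * x2)⁻¹ := (inv_eq_of_mul_eq_one_right hκ).symm
      _ = x2 * x1 := by rw [mul_inv_rev, hinv1, hinv2]
  have k1 : Commute (x1 * x2 * q) x1 :=
    ((Commute.refl x1).mul_left c12.symm).mul_left c1.symm
  have k2 : x1 * x2 * q * u = u * (x1 * x2 * q) :=
    (((show Commute x1 u from M.D_comm_u W hx1').mul_left hx2u).mul_left cu).eq
  have hC := conj_mem_Cz W k2
  have h1 : g⁻¹ * (x1 * x2 * q) * g ≠ 1 := fun e => by
    refine dataF.ne_one ?_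
    have ht1 : x1 * x2 * q = 1 := by
      calc x1 * x2 * q = g * (g⁻¹ * (x1 * x2 * q) * g) * g⁻¹ := by group
        _ = 1 := by rw [e]; group
    rcases hl with ⟨rfl, -⟩ | ⟨rfl, -⟩
    · exact ht.unique (ht1.symm ▸ Img.one)
    · exact absurd (ht.unique (ht1.symm ▸ Img.one)) dataF'.ne_one
  rcases M.low_or_four W T hC (by
      calc g⁻¹ * (x1 * x2 * q) * g * (g⁻¹ * (x1 * x2 * q) * g)
          = g⁻¹ * (x1 * x2 * q * (x1 * x2 * q)) * g := by group
        _ = 1 := by rw [h2]; group) h1 with h | ⟨π', hπ', c, hc, l', hl', he⟩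
  · exact Cls.of_conj (isConj_iff.2 ⟨g⁻¹, by group⟩) h
  refine M.descend W T h2 hπ' hc hl' he hx1' ?_ ?_
  · rw [← M.img_conj hπ' hx1']
    congr 1
    calc g⁻¹ * (x1 * x2 * q) * g * (g⁻¹ * x1 * g) * (g⁻¹ * (x1 * x2 * q) * g)⁻¹
        = g⁻¹ * (x1 * x2 * q * x1) * (x1 * x2 * q)⁻¹ * g := by group
      _ = g⁻¹ * x1 * g := by rw [k1.eq]; group
  · have h := ht.mul hx1
    rwa [hπ, (four_perm hw).2] at h

theorem class_E {t : G} (ht : Img ρ t (wperm wE)) (h2 : t * t = 1) : Cls z k b t := by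
  have hinv : t⁻¹ = t := inv_eq_of_mul_eq_one_right h2
  have hEpt : wperm wE pt = pt := by rw [wperm_apply dataE.ok]; exact wE_facts.2.2
  have hu : t * u = u * t := by
    obtain ⟨v, hv⟩ := dataE.L_mem pt (by decide +kernel)
    obtain ⟨r, hr, hrf⟩ := M.f_surj v
    have hk : t * r * t⁻¹ * r⁻¹ ∈ Q := mul_mem (M.normal t ht.mem r hr) (inv_mem hr)
    have hf : f (t * r * t⁻¹ * r⁻¹) = pt := by
      rw [M.f_mul _ (M.normal t ht.mem r hr) _ (inv_mem hr), M.img_conj ht hr, M.f_inv hr, hrf,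
        wperm_apply dataE.ok, vadd_comm, hv]
    have hss : t * r * t⁻¹ * r⁻¹ = (t * r * t⁻¹ * r⁻¹)⁻¹ :=
      eq_inv_of_mul_eq_one_left (by rw [M.sq_zp hk, hf, pt_facts.1, zp_false])
    have hts : t * (t * r * t⁻¹ * r⁻¹) = t * r * t⁻¹ * r⁻¹ * t := by
      nth_rw 2 [hss]
      calc t * (t * r * t⁻¹ * r⁻¹) = (t * t) * r * t⁻¹ * r⁻¹ := by group
        _ = r * t * r⁻¹ := by rw [h2, one_mul, hinv]
        _ = _ := by group
    rcases M.f_eq hk W.nc.1 (hf.trans W.fu.symm) with h | h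
    · rw [h]; exact hts
    · rw [h]; exact ((show Commute t _ from hts).mul_right (mem_Cz.1 ht.mem)).eq
  have h136 : bl (136 : V8) pt = false := by decide +kernel
  obtain ⟨x, hx, hx', hx2⟩ := M.exists_sq W
  have hy2 : qb (f (g⁻¹ * x * g)) = true := by
    refine M.zp_inj ?_
    rw [← M.sq_zp hx', zp_true,
      show g⁻¹ * x * g * (g⁻¹ * x * g) = g⁻¹ * (x * x) * g by group, hx2, swap_ug W]
  have h1 : g⁻¹ * t * g ≠ 1 := fun e => by
    refine dataE.ne_one (ht.unique ?_)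
    have : t = 1 := by
      calc t = g * (g⁻¹ * t * g) * g⁻¹ := by group
        _ = 1 := by rw [e]; group
    exact this.symm ▸ Img.one
  have hC := conj_mem_Cz W hu
  have h2' : g⁻¹ * t * g * (g⁻¹ * t * g) = 1 := by
    calc g⁻¹ * t * g * (g⁻¹ * t * g) = g⁻¹ * (t * t) * g := by group
      _ = 1 := by rw [h2]; group
  rcases M.low_or_four W T hC h2' h1 with h | ⟨π', hπ', c, hc, l, hl, he⟩
  · exact Cls.of_conj (isConj_iff.2 ⟨g⁻¹, by group⟩) h
  by_cases hfix : π' (f (g⁻¹ * x * g)) = f (g⁻¹ * x * g)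
  · refine M.descend W T h2 hπ' hc hl he hx' hfix ?_
    have h := ht.mul hx
    rwa [wperm_wE, (four_perm (Or.inr (Or.inr rfl))).2] at h
  by_cases hF : l = wF ∨ l = wF'
  · obtain ⟨s, hs⟩ := exists_img hc
    refine Cls.of_conj (isConj_iff.2 ⟨g⁻¹, rfl⟩) ?_
    rw [inv_inv]
    refine Cls.of_conj (isConj_iff.2 ⟨s, rfl⟩) ?_
    have hI : Img ρ (s * (g⁻¹ * t * g) * s⁻¹) (wperm l) := he ▸ hπ'.conj hs
    rcases hF with h | h
    · exact M.class_F W T (w := 8) (Or.inl ⟨h, rfl⟩) hI (conj_sq_one s h2')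
    · exact M.class_F W T (w := 128) (Or.inr ⟨h, rfl⟩) hI (conj_sq_one s h2')
  exfalso
  have hlE : l = wE := by
    simp only [reps4, List.mem_cons, List.not_mem_nil, or_false] at hl
    tauto
  subst hlE
  have hcO := M.range_le hc
  have hy' := M.img_conj hπ' hx'
  have hdiff : vadd (f (g⁻¹ * x * g)) (π' (f (g⁻¹ * x * g))) = pt := by
    have hI : Img ρ (x * t * x⁻¹ * t⁻¹) 1 := by
      have h := ((hx.mul ht).mul hx.inv).mul ht.inv
      rwa [wperm_wE, sieP_inv, mul_assoc (sieP pt 136) (sieP pt 136 * sieP 2 4),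
        show sieP pt 136 * sieP 2 4 * sieP pt 136 = sieP 2 4 from
          (four_perm (Or.inr (Or.inr rfl))).2, mul_inv_cancel] at h
    have hkQ := M.img_one_mem hI
    have hk' : g⁻¹ * (x * t * x⁻¹ * t⁻¹) * g ∈ Q := by
      have h := D_mul_mem M W hx' (M.D_conj_mem W hu (x := x⁻¹) (by
        have h' := inv_mem hx'
        rwa [show (g⁻¹ * x * g)⁻¹ = g⁻¹ * x⁻¹ * g by group] at h'))
      rwa [show x * (t * x⁻¹ * t⁻¹) = x * t * x⁻¹ * t⁻¹ by group] at h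
    have hfk : f (g⁻¹ * (x * t * x⁻¹ * t⁻¹) * g) =
        vadd (f (g⁻¹ * x * g)) (π' (f (g⁻¹ * x * g))) := by
      rw [show g⁻¹ * (x * t * x⁻¹ * t⁻¹) * g =
          g⁻¹ * x * g * (g⁻¹ * t * g * (g⁻¹ * x * g) * (g⁻¹ * t * g)⁻¹)⁻¹ by group,
        M.f_mul _ hx' _ (inv_mem (M.normal _ hπ'.mem _ hx')), M.f_inv (M.normal _ hπ'.mem _ hx'),
        hy']
    rw [← hfk]
    rcases M.D_back W hk' hkQ with h | h
    · rw [hfk] at h; exact absurd (vadd_eq_zero h).symm hfix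
    · exact h
  have hπ'pt : π' pt = pt := by
    rw [← W.fu, ← M.img_conj hπ' W.nc.1]
    congr 1
    rw [← W.zg]
    calc g⁻¹ * t * g * (g⁻¹ * z * g) * (g⁻¹ * t * g)⁻¹ = g⁻¹ * (t * z * t⁻¹) * g := by group
      _ = _ := by rw [mem_Cz.1 ht.mem, mul_inv_cancel_right]
  have hvals := dataE.conj_vals hcO he
  have hcp0 : c pt ≠ 0 := fun e => pt_facts.2.1 (c.injective (e.trans (O_zero hcO).symm))
  have hcpf : wap wE (c pt) = c pt := by
    have h := hvals pt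
    rw [hπ'pt, vadd_self, O_zero hcO] at h
    exact (vadd_eq_zero h.symm).symm
  have hcond : ∀ w, bl w (c pt) = false → qb (vadd w (wap wE w)) = false := by
    intro w hw
    obtain ⟨v, rfl⟩ := c.surjective w
    rw [O_bl hcO] at hw
    rw [← hvals, O_q hcO]
    obtain ⟨r, hr, rfl⟩ := M.f_surj v
    obtain ⟨hdC, hdQ⟩ := M.mk_D W hr hw
    obtain ⟨ω, hω, hωe⟩ := M.D_trans W (Img.mk' (ρ := ρ) hdC) hdQ
    have hd : Img ρ (g * r * g⁻¹) (sieP pt ω) := ⟨hdC, hωe⟩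
    have hd' : g⁻¹ * (g * r * g⁻¹)⁻¹ * g ∈ Q := by
      have h := inv_mem hdQ
      rwa [show (g⁻¹ * (g * r * g⁻¹) * g)⁻¹ = g⁻¹ * (g * r * g⁻¹)⁻¹ * g by group] at h
    have hωE : bl (wap wE ω) pt = false := by
      have h := O_bl (wperm_mem_O wE) ω pt
      rwa [hEpt, wperm_apply dataE.ok, hω] at h
    have hm : Img ρ (g * r * g⁻¹ * (t * (g * r * g⁻¹)⁻¹ * t⁻¹))
        (sieP pt (vadd ω (wap wE ω))) := by
      have h := hd.mul (hd.inv.conj ht)
      rwa [sieP_inv, O_sieP (wperm_mem_O wE) (sieOK_pt hω), hEpt, wperm_apply dataE.ok,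
        sieP_mul hω hωE] at h
    have hmQ := D_mul_mem M W hdQ (M.D_conj_mem W hu hd')
    have hsq := M.D_sq W hm hmQ (perp_sum hω hωE) (wE_facts.1 ω hω)
    have hms := M.D_fy_sing W hmQ hsq
    rwa [show g⁻¹ * (g * r * g⁻¹ * (t * (g * r * g⁻¹)⁻¹ * t⁻¹)) * g =
        r * (g⁻¹ * t * g * r * (g⁻¹ * t * g)⁻¹)⁻¹ by group,
      M.f_mul r hr _ (inv_mem (M.normal _ hπ'.mem r hr)), M.f_inv (M.normal _ hπ'.mem r hr),
      M.img_conj hπ' hr] at hms
  have hfin := wE_noncanonical (c pt) (by rw [O_q hcO]; exact pt_facts.1) hcpf hcp0 hcond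
    (c (f (g⁻¹ * x * g))) (by rw [← hvals, hdiff])
  rw [O_q hcO, hy2] at hfin
  cases hfin

/-- Every involution is in one of the three classes. -/
theorem cls [Finite G] {t : G} (h2 : t * t = 1) (h1 : t ≠ 1) : Cls z k b t := by
  obtain ⟨j, hj⟩ := M.into_Cz h2
  refine Cls.of_conj (isConj_iff.2 ⟨j, rfl⟩) ?_
  have h2' := conj_sq_one j h2
  rcases M.low_or_four W T hj h2' (fun e => h1 (conj_eq_one_iff.1 e)) with
    h | ⟨π, hπ, c, hc, l, hl, he⟩
  · exact h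
  obtain ⟨s, hs⟩ := exists_img hc
  refine Cls.of_conj (isConj_iff.2 ⟨s, rfl⟩) ?_
  have hI : Img ρ (s * (j * t * j⁻¹) * s⁻¹) (wperm l) := he ▸ hπ.conj hs
  have h22 := conj_sq_one s h2'
  simp only [reps4, List.mem_cons, List.not_mem_nil, or_false] at hl
  rcases hl with rfl | rfl | rfl
  · exact M.class_F W T (w := 8) (Or.inl ⟨rfl, rfl⟩) hI h22
  · exact M.class_F W T (w := 128) (Or.inr ⟨rfl, rfl⟩) hI h22
  · exact M.class_E W T hI h22

end Swap

end Model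

end CfsgLib.Small.ConTwo
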